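import Cfsg.Agent.Lib.SelfCentSix9.Six.QuatCentral
import Cfsg.Agent.S3304
import Cfsg.Agent.S2916

/-!
# Index six with a quaternion `Q`: `L₃(3)` and `M₁₁`

The core is trivial, so `C(z) ≅ GL₂(3)`.
-/

set_option autoImplicit false

namespace Cfsg.Agent.Lib.SelfCentSix9

open Subgroup

universe u

variable {G : Type u} [Group G] [Finite G] {z x w : G} {Q K : Subgroup G} {S : Sylow 2 G}

/-- `C(z) ≅ GL₂(3)`. -/
theorem Quat.nonempty_gl (D : Quat z x w Q K S) :
    Nonempty (Cen z ≃* GL (Fin 2) (ZMod 3)) := by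
  classical
  have : Fact (Nat.Prime 2) := ⟨Nat.prime_two⟩
  have hK := D.K_eq_bot
  have h48 : Nat.card (Cen z) = 48 := by
    rw [D.d6.data.card, D.card_Q, hK, Subgroup.card_bot]
  set H := Cen z with hH
  set Q' := Q.subgroupOf H with hQ'
  have hQn : Q'.Normal := normal_subgroupOf_of_le_normalizer D.d6.data.Q_norm
  have hQ'c : Nat.card Q' = 8 := by
    rw [hQ', Nat.card_congr (subgroupOfEquivOfLe D.d6.data.Q_le).toEquiv, D.card_Q]
  set S' : Sylow 2 H := S.subtype D.d6.S_le with hS'
  have hS16 : Nat.card (S' : Subgroup H) = 16 := by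
    rw [hS', show ((S.subtype D.d6.S_le : Sylow 2 H) : Subgroup H) = (S : Subgroup G).subgroupOf H from rfl,
      Nat.card_congr (subgroupOfEquivOfLe D.d6.S_le).toEquiv, D.d6.card_S, D.card_Q]
  -- the odd core is trivial
  have hcore : Cfsg.oddCore H = ⊥ := by
    have hd : Nat.card (Cfsg.oddCore H) ∣ 3 := by
      have h2 : ¬ 2 ∣ Nat.card (Cfsg.oddCore H) := Cores.not_dvd_card_pPrimeCore 2
      have hd := (Cfsg.oddCore H).card_subgroup_dvd_card
      rw [h48, show 48 = 2 ^ 4 * 3 from rfl] at hd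
      exact (Nat.Coprime.pow_right 4 (Nat.prime_two.coprime_iff_not_dvd.2 h2).symm).dvd_of_dvd_mul_left hd
    rcases (Nat.dvd_prime Nat.prime_three).1 hd with e | e
    · exact Subgroup.card_eq_one.1 e
    · exfalso
      -- a normal subgroup of order three would centralise `Q`
      set C := (Cfsg.oddCore H).map H.subtype with hC
      have hC3 : Nat.card C = 3 := by rw [hC, card_map_of_injective H.subtype_injective, e]
      have : Fact (Nat.Prime 3) := ⟨Nat.prime_three⟩
      obtain ⟨⟨c, hc⟩, hco⟩ := exists_prime_orderOf_dvd_card' 3 (dvd_of_eq hC3.symm)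
      rw [← Subgroup.orderOf_coe] at hco
      have hcle : C ≤ H := map_subtype_le _
      have hdisj : Disjoint Q C := disjoint_of_coprime_natCard (by rw [D.card_Q, hC3]; norm_num)
      have hCnorm : H ≤ normalizer (C : Set G) := fun g hg => le_normalizer_map H.subtype
        ⟨⟨g, hg⟩, by rw [normalizer_eq_top]; exact mem_top _, rfl⟩
      have hcomm : ∀ q ∈ Q, Commute c q := by
        intro q hq
        have h1 : c * q * c⁻¹ * q⁻¹ ∈ Q :=
          mul_mem ((mem_normalizer_iff.1 (D.d6.data.Q_norm (hcle hc)) q).1 hq) (inv_mem hq)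
        have h2 : c * q * c⁻¹ * q⁻¹ ∈ C := by
          rw [show c * q * c⁻¹ * q⁻¹ = c * (q * c⁻¹ * q⁻¹) by group]
          exact mul_mem hc ((mem_normalizer_iff.1 (hCnorm (D.d6.data.Q_le hq)) _).1 (inv_mem hc))
        exact cm_eq_one_iff.1 (Subgroup.disjoint_def.1 hdisj h1 h2)
      have h2 := D.ctx.two_card_le (show orderOf c = 3 from hco) D.d6.data.two
        fun q hq => mem_cen.2 (hcomm q hq).symm
      rw [D.card_Q] at h2
      omega
  let eO : H ⧸ Cfsg.oddCore H ≃* H :=
    (QuotientGroup.quotientMulEquivOfEq hcore).trans QuotientGroup.quotientBot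
  -- two Sylow subgroups meet in `Q`
  have hI : ∀ P R : Sylow 2 H, P ≠ R →
      Cfsg.PRankLE 2 1 ↥((P : Subgroup H) ⊓ (R : Subgroup H)) := by
    intro P R hPR
    have hle : Q' ≤ (P : Subgroup H) ⊓ (R : Subgroup H) := by
      have hle' : ∀ P : Sylow 2 H, Q' ≤ (P : Subgroup H) := by
        intro P
        obtain ⟨P', hP'⟩ := (D.d6.data.two.of_equiv (subgroupOfEquivOfLe D.d6.data.Q_le).symm :
          IsPGroup 2 Q').exists_le_sylow
        obtain ⟨g, hg⟩ := MulAction.exists_smul_eq H P' P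
        intro q hq
        have hgq : g⁻¹ * q * g ∈ (P' : Subgroup H) := hP' (by
          have := hQn.conj_mem q hq g⁻¹
          rwa [inv_inv] at this)
        have h2 := Subgroup.smul_mem_pointwise_smul (a := MulAut.conj g) _ _ hgq
        rw [← Sylow.coe_subgroup_smul, hg] at h2
        simpa [mul_assoc] using h2
      exact le_inf (hle' P) (hle' R)
    have hc8 : Nat.card ((P : Subgroup H) ⊓ (R : Subgroup H) : Subgroup H) ≤ 8 := by
      have hP16 : Nat.card (P : Subgroup H) = 16 := by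
        rw [P.card_eq_multiplicity, ← S'.card_eq_multiplicity, hS16]
      have hd := card_dvd_of_le (inf_le_left : (P : Subgroup H) ⊓ (R : Subgroup H) ≤ P)
      rw [hP16] at hd
      have hne : Nat.card ((P : Subgroup H) ⊓ (R : Subgroup H) : Subgroup H) ≠ 16 := by
        intro h16
        have hPI := Subgroup.eq_of_le_of_card_ge (inf_le_left : (P : Subgroup H) ⊓ (R : Subgroup H) ≤ P)
          (by rw [hP16, h16])
        exact hPR (Sylow.ext (P.3 R.isPGroup' (hPI.ge.trans inf_le_right)).symm)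
      obtain ⟨k, hk, hk'⟩ := (Nat.dvd_prime_pow Nat.prime_two (m := 4)).1 hd
      rw [hk'] at hne ⊢
      interval_cases k <;> first | (norm_num; done) | exact absurd (by norm_num) hne
    have heq := Subgroup.eq_of_le_of_card_ge hle (hQ'c.symm ▸ hc8)
    intro A _ hA2
    have hsub : ∀ a ∈ A, a = 1 ∨ ((a : H) : G) = z := by
      intro a ha
      have hm : ((a : H) : G) ∈ Q := mem_subgroupOf.1 (heq.ge a.2)
      have h2 : ((a : H) : G) * ((a : H) : G) = 1 := by
        have := congrArg (fun t : ((P : Subgroup H) ⊓ (R : Subgroup H) : Subgroup H) => ((t : H) : G)) (hA2 a ha)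
        simpa [pow_two] using this
      exact (D.cases_of_sq hm h2).imp (fun e => Subtype.ext (Subtype.ext e)) id
    by_contra hlt
    have h3 : 2 < Nat.card A := by simpa using hlt
    obtain ⟨p, hp⟩ : ∃ p : A, p ≠ 1 := by
      by_contra hc
      push Not at hc
      have : Subsingleton A := ⟨fun p q => (hc p).trans (hc q).symm⟩
      rw [Nat.card_of_subsingleton (1 : A)] at h3
      omega
    have hcard : Nat.card A ≤ 2 := by
      let f : A → Bool := fun v => decide (v = 1)
      have hf : Function.Injective f := by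
        intro u v huv
        by_cases hu : u = 1 <;> by_cases hv : v = 1
        · rw [hu, hv]
        · simp [f, hu, hv] at huv
        · simp [f, hu, hv] at huv
        · have e1 := (hsub u u.2).resolve_left fun e => hu (Subtype.ext e)
          have e2 := (hsub v v.2).resolve_left fun e => hv (Subtype.ext e)
          exact Subtype.ext (Subtype.ext (Subtype.ext (e1.trans e2.symm)))
      simpa using Nat.card_le_card_of_injective f hf
    omega
  have hw' : w ∈ H := D.d6.S_le D.w_mem
  have hzH : z ∈ H := mem_cen.2 (Commute.refl z)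
  rcases Cfsg.Agent.S3304.result D.d6.data.solvable hI with ⟨P, hP⟩ | ⟨⟨e⟩⟩ | ⟨-, -, -, hq16⟩
  · exfalso
    -- `x` would normalise `S`
    let P' : Sylow 2 H := P.mapSurjective (f := eO.toMonoidHom) eO.surjective
    have hP'n : (P' : Subgroup H).Normal := hP.map _ eO.surjective
    obtain ⟨g, hg⟩ := MulAction.exists_smul_eq H P' S'
    have hS'n : (S' : Subgroup H) = (P' : Subgroup H) := by
      have hsm : g • P' = P' := Sylow.smul_eq_of_normal (h := hP'n)
      rw [← hg, hsm]
    have hSn : (S' : Subgroup H).Normal := hS'n ▸ hP'n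
    have hxS : x * w * x⁻¹ ∈ (S : Subgroup G) :=
      (hSn.conj_mem ⟨w, hw'⟩ (show w ∈ (S : Subgroup G) from D.w_mem) ⟨x, D.ctx.x_mem⟩ :)
    obtain ⟨q, hq, k, hk, hwx⟩ := D.conj_x_w
    rw [hK, mem_bot] at hk
    subst hk
    rw [mul_one] at hwx
    have e : x ^ 2 = x * w * x⁻¹ * w⁻¹ * q := by
      calc x ^ 2 = x * (q * x⁻¹)⁻¹ * q := by rw [pow_two]; group
        _ = x * w * x⁻¹ * w⁻¹ * q := by rw [← hwx]; group
    have hx2 : x ^ 2 ∈ (S : Subgroup G) :=
      e ▸ mul_mem (mul_mem hxS (inv_mem D.w_mem)) (D.d6.Q_le_S hq)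
    obtain ⟨n, hn⟩ := S.isPGroup' ⟨x ^ 2, hx2⟩
    have h1 : orderOf (x ^ 2) ∣ 2 ^ n := orderOf_dvd_of_pow_eq_one (congrArg Subtype.val hn)
    rw [orderOf_pow' x (by norm_num), D.ctx.hx] at h1
    have := Nat.prime_three.dvd_of_dvd_pow (show 3 ∣ 2 ^ n from h1)
    norm_num at this
  · exact ⟨eO.symm.trans e⟩
  · exfalso
    obtain ⟨eQ⟩ := hq16 (S'.mapSurjective (f := eO.symm.toMonoidHom) eO.symm.surjective)
    let f := ((S' : Subgroup H).equivMapOfInjective eO.symm.toMonoidHom eO.symm.injective).trans eQ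
    have key : ∀ p q : QuaternionGroup 4, p * p = 1 → q * q = 1 → p ≠ 1 → q ≠ 1 → p = q := by
      decide +kernel
    have hwS : (⟨w, hw'⟩ : H) ∈ (S' : Subgroup H) := D.w_mem
    have hzS : (⟨z, hzH⟩ : H) ∈ (S' : Subgroup H) := (D.ctx.z_mem_zOne S D.d6.S_le).1
    have e := key (f ⟨_, hwS⟩) (f ⟨_, hzS⟩)
      (by rw [← map_mul, show (⟨⟨w, hw'⟩, hwS⟩ : (S' : Subgroup H)) * ⟨⟨w, hw'⟩, hwS⟩ = 1 from
        Subtype.ext (Subtype.ext D.w_sq), map_one])
      (by rw [← map_mul, show (⟨⟨z, hzH⟩, hzS⟩ : (S' : Subgroup H)) * ⟨⟨z, hzH⟩, hzS⟩ = 1 from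
        Subtype.ext (Subtype.ext D.ctx.z_sq), map_one])
      (fun h => D.w_out (by
        have := congrArg (fun t : (S' : Subgroup H) => ((t : H) : G)) (f.injective (h.trans (map_one f).symm))
        simp at this
        rw [this]; exact one_mem _))
      (fun h => D.ctx.z_ne (by
        have := congrArg (fun t : (S' : Subgroup H) => ((t : H) : G)) (f.injective (h.trans (map_one f).symm))
        simpa using this))
    exact D.w_ne_z (congrArg (fun t : (S' : Subgroup H) => ((t : H) : G)) (f.injective e))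

/-- A quaternion `Q` gives `L₃(3)` or `M₁₁`. -/
theorem D6.quaternion (h : Ctx G z x) (D : D6 z x Q K S) (h8 : Nat.card Q = 8)
    (hun : ∀ v ∈ Q, orderOf v = 2 → v = z) :
    (∃ (F : Type) (_ : Field F) (_ : Fintype F), Fintype.card F = 3 ∧
      Nonempty (G ≃* Matrix.ProjectiveSpecialLinearGroup (Fin 3) F)) ∨ Cfsg.Spor.IsoM11 G := by
  obtain ⟨w, Dq⟩ := D.exists_quat h h8 hun
  exact Cfsg.Agent.S2916.result
    (pResidual_top h.simple h.x_ne (by rw [h.hx]; norm_num)) z h.hz Dq.nonempty_gl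

end Cfsg.Agent.Lib.SelfCentSix9
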