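import Cfsg.Agent.Lib.SelfCentSix9.Six.Setup
import Cfsg.Agent.Lib.PSLTwo.ClassSizeValues
import Cfsg.Agent.S0483

/-!
# Index six with `|Q| = 2`

A Sylow 2-subgroup is a four-group, so the group is `PSL₂(q)`; the centraliser of an element of order six
is a torus, hence `q ∈ {11, 13}`.
-/

set_option autoImplicit false

namespace Cfsg.Agent.Lib.SelfCentSix9

open Subgroup
open Cfsg.Agent.Lib.PSLTwo.Sylow Cfsg.Agent.Lib.SL2Tori Cfsg.Agent.Lib.SL2Tori.Products
  Cfsg.Agent.Lib.PSLTwo.ClassSize

universe u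

section PSL

variable {F : Type*} [Field F] [Fintype F]

/-- An element of trace zero is an involution or trivial modulo the centre. -/
theorem proj_sq_eq_one {g : Matrix.SpecialLinearGroup (Fin 2) F} (h0 : slTr g = 0) :
    proj g * proj g = 1 := by
  have hgg : g * g = negOne := by
    have hd := det_eq g
    have hs : g.1 1 1 = -g.1 0 0 := eq_neg_of_add_eq_zero_right h0
    apply slExt <;> simp [mul_apply'] <;>
      first | linear_combination -hd + g.1 0 0 * hs | linear_combination g.1 0 1 * hs |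
        linear_combination g.1 1 0 * hs | linear_combination -hd + g.1 1 1 * hs
  rw [← map_mul, hgg]
  exact proj_eq_one_iff.2 (Or.inr rfl)

/-- A torus has twice the order of the centraliser in `PSL₂`. -/
theorem card_torus_eq (hodd : Odd (Fintype.card F)) {g : Matrix.SpecialLinearGroup (Fin 2) F}
    (htr : slTr g ≠ 0) : Nat.card (torus g) =
      2 * Nat.card (centralizer ({proj g} : Set (Matrix.ProjectiveSpecialLinearGroup (Fin 2) F))) := by
  have h2 : (2 : F) ≠ 0 := fun e => Nat.not_even_iff_odd.2 hodd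
    (even_iff_two_dvd.2 (Cfsg.Agent.Lib.PSLTwo.ClassSizeValues.cast_two_zero_iff.mp e))
  have e := index_mul_card_pre g
  rw [pre_eq_torus (Or.inl (mul_ne_zero h2 htr))] at e
  have e2 := (centralizer ({proj g} : Set (Matrix.ProjectiveSpecialLinearGroup (Fin 2) F))).card_mul_index
  have e3 := Lib.Linear.two_mul_card_PSL_two_of_odd hodd
  rw [← e2, ← e] at e3
  have hi : 0 < (centralizer ({proj g} : Set (Matrix.ProjectiveSpecialLinearGroup (Fin 2) F))).index :=
    Nat.pos_of_ne_zero index_ne_zero_of_finite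
  exact Nat.eq_of_mul_eq_mul_left hi (by rw [← e3]; ring)

/-- A self-centralising element of order six forces `q ∈ {11, 13}`. -/
theorem card_field_of_six (hodd : Odd (Fintype.card F))
    {t : Matrix.ProjectiveSpecialLinearGroup (Fin 2) F} (ht : orderOf t = 6)
    (hc : Nat.card (centralizer ({t} : Set (Matrix.ProjectiveSpecialLinearGroup (Fin 2) F))) = 6) :
    Fintype.card F = 11 ∨ Fintype.card F = 13 := by
  obtain ⟨g, rfl⟩ := proj_surjective t
  have h2 : (2 : F) ≠ 0 := fun e =>
    Nat.not_even_iff_odd.2 hodd (even_iff_two_dvd.2 (Cfsg.Agent.Lib.PSLTwo.ClassSizeValues.cast_two_zero_iff.mp e))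
  have hne : proj g ≠ 1 := fun e => by simp [e] at ht
  have htr : slTr g ≠ 0 := by
    intro h0
    have := orderOf_dvd_of_pow_eq_one (x := proj g) (n := 2) (by rw [pow_two, proj_sq_eq_one h0])
    rw [ht] at this
    norm_num at this
  have hT : Nat.card (torus g) = 12 := by rw [card_torus_eq hodd htr, hc]
  obtain ⟨k, hk⟩ := hodd
  rcases card_torus_cases (nonScalar_of_proj_ne_one hne) with ⟨-, h⟩ | ⟨-, -, h⟩ | ⟨-, -, h⟩
  · rw [card_sqrt_one h2, hT] at h
    omega
  · omega
  · omega

end PSL

variable {G : Type u} [Group G] [Finite G] {z x : G}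

omit [Finite G] in
/-- The centraliser of `z x` is `⟨z x⟩`, of order six. -/
theorem Ctx.card_cent_six (h : Ctx G z x) :
    orderOf (z * x) = 6 ∧ Nat.card (centralizer ({z * x} : Set G)) = 6 := by
  have h6 : orderOf (z * x) = 6 := by
    rw [h.comm.orderOf_mul_eq_mul_orderOf_of_coprime (by rw [h.hz, h.hx]; norm_num), h.hz, h.hx]
  refine ⟨h6, ?_⟩
  have e3 : (z * x) ^ 3 = z := by
    rw [h.comm.mul_pow, h.x_cube, mul_one, pow_succ, pow_two, h.z_sq, one_mul]
  have e4 : (z * x) ^ 4 = x := by
    rw [h.comm.mul_pow, pow_succ x, h.x_cube, one_mul, show (4 : ℕ) = 2 * 2 from rfl, pow_mul, pow_two z,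
      h.z_sq, one_pow, one_mul]
  have : centralizer ({z * x} : Set G) = zpowers (z * x) := by
    refine le_antisymm (fun y hy => ?_) (zpowers_le.2 (mem_centralizer_singleton_iff.2 rfl))
    have hc : Commute y (z * x) := mem_centralizer_singleton_iff.1 hy
    exact h.cent y (e3 ▸ hc.pow_right 3) (e4 ▸ hc.pow_right 4)
  rw [this, Nat.card_zpowers, h6]

/-- `|Q| = 2` gives `PSL₂(11)` or `PSL₂(13)`. -/
theorem D6.psl_two (h : Ctx G z x) {Q K : Subgroup G} {S : Sylow 2 G} (D : D6 z x Q K S)
    (hQ : Nat.card Q = 2) :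
    ∃ (F : Type) (_ : Field F) (_ : Fintype F), (Fintype.card F = 11 ∨ Fintype.card F = 13) ∧
      Nonempty (G ≃* Matrix.ProjectiveSpecialLinearGroup (Fin 2) F) := by
  classical
  have : Fact (Nat.Prime 2) := ⟨Nat.prime_two⟩
  have := h.simple
  have hS4 : Nat.card (S : Subgroup G) = 4 := by rw [D.card_S, hQ]
  obtain ⟨a, ha, hao, haz⟩ := h.exists_second_invol S z
  have hzS : z ∈ (S : Subgroup G) := (h.z_mem_zOne S D.S_le).1
  have : IsKleinFour (S : Subgroup G) := by
    refine ⟨hS4, ?_⟩
    refine (Nat.dvd_prime Nat.prime_two).1 (Monoid.exponent_dvd_of_forall_pow_eq_one fun p => ?_) |>.resolve_left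
      fun e => ?_
    · have hmem : (p : G) ∈ ({1, z, a, a * z} : Set G) := by
        have hsub : ({1, z, a, a * z} : Set G) ⊆ ((S : Subgroup G) : Set G) := by
          rintro y (rfl | rfl | rfl | rfl)
          exacts [one_mem _, hzS, ha, mul_mem ha hzS]
        have ha1 : a ≠ 1 := fun e => by simp [e] at hao
        have hcard : ({1, z, a, a * z} : Set G).ncard = 4 := by
          have n1 : a * z ≠ a := fun e => h.z_ne (mul_eq_left.1 e)
          have n2 : a * z ≠ z := fun e => ha1 (mul_eq_right.1 e)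
          have n3 : a * z ≠ 1 := fun e => haz ((eq_inv_of_mul_eq_one_left e).trans h.z_inv)
          rw [Set.ncard_insert_of_notMem (by simp [Ne.symm h.z_ne, Ne.symm ha1, Ne.symm n3]) (Set.toFinite _),
            Set.ncard_insert_of_notMem (by simp [Ne.symm haz, Ne.symm n2]) (Set.toFinite _),
            Set.ncard_pair (Ne.symm n1)]
        have := Set.eq_of_subset_of_ncard_le hsub
          (by rw [hcard, ← hS4, ← Nat.card_coe_set_eq]; rfl) (Set.toFinite _)
        rw [this]; exact p.2
      have hza : Commute a z := mem_cen.1 (D.S_le ha)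
      refine Subtype.ext ?_
      show ((p : G)) ^ 2 = 1
      rcases hmem with e | e | e | e <;> rw [e]
      · exact one_pow 2
      · rw [pow_two]; exact h.z_sq
      · exact hao ▸ pow_orderOf_eq_one a
      · rw [hza.mul_pow, pow_two z, h.z_sq, mul_one]; exact hao ▸ pow_orderOf_eq_one a
    · have := Monoid.exp_eq_one_iff.1 e
      rw [Nat.card_of_subsingleton (1 : (S : Subgroup G))] at hS4
      omega
  have : Group.IsPerfect G := ⟨by
    rcases (inferInstance : (commutator G).Normal).eq_bot_or_eq_top with e | e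
    · exact absurd ⟨⟨fun p q => commutatorElement_eq_one_iff_mul_comm.1
        (mem_bot.1 (e ▸ commutator_mem_commutator (mem_top p) (mem_top q)))⟩⟩ h.noncomm
    · exact e⟩
  have hcore : Cfsg.oddCore G = ⊥ := h.eq_bot_of_odd inferInstance
    (Nat.odd_iff.2 (Nat.two_dvd_ne_zero.1 (Cores.not_dvd_card_pPrimeCore 2)))
  let eO : G ⧸ Cfsg.oddCore G ≃* G :=
    (QuotientGroup.quotientMulEquivOfEq hcore).trans QuotientGroup.quotientBot
  rcases Cfsg.Agent.S0483.result S 2 le_rfl IsKleinFour.nonempty_mulEquiv with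
    ⟨F, i1, i2, hodd, -, ⟨e⟩⟩ | ⟨⟨e⟩⟩
  · refine ⟨F, i1, i2, ?_, ⟨eO.symm.trans e⟩⟩
    set f := eO.symm.trans e with hf
    obtain ⟨h6, hc⟩ := h.card_cent_six
    refine card_field_of_six hodd (t := f (z * x)) (by rw [MulEquiv.orderOf_eq, h6]) ?_
    rw [← hc]
    exact (Nat.card_congr (Equiv.subtypeEquiv f.toEquiv fun y => by
      simp only [mem_centralizer_singleton_iff, MulEquiv.toEquiv_eq_coe, EquivLike.coe_coe,
        ← map_mul, f.injective.eq_iff])).symm
  · exfalso
    have hc : Nat.card G = 2520 := by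
      rw [Nat.card_congr (eO.symm.trans e).toEquiv, nat_card_alternatingGroup, Nat.card_fin]
      rfl
    have h8 := Sylow.card_eq_multiplicity S
    rw [hS4, hc] at h8
    have : Nat.factorization 2520 2 = 3 := by
      rw [show 2520 = 2 ^ 3 * 315 by norm_num, Nat.factorization_mul (by norm_num) (by norm_num),
        Nat.factorization_pow, Finsupp.add_apply, Finsupp.smul_apply, Nat.prime_two.factorization_self,
        Nat.factorization_eq_zero_of_not_dvd (by norm_num : ¬ 2 ∣ 315)]
      rfl
    rw [this] at h8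
    norm_num at h8

end Cfsg.Agent.Lib.SelfCentSix9
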