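import Cfsg.Agent.Lib.SelfCentSix9.Six.PSLOuter
import Cfsg.Agent.Lib.GWConsumers70.Almost
import Cfsg.Agent.Lib.Involutions.IndexTwo
import Cfsg.Agent.Lib.SU3Max96.SmallAut
import Cfsg.Agent.S0251
import Cfsg.Agent.S0254

/-!
# An almost simple group `PSL₂(q)` with dihedral Sylow 2-subgroups of order eight

If it has no subgroup of index two and an automorphism squaring to the conjugation by `a * a` inverts the
element `a` of order four, fixing the elements of odd order of `C(a)`, then it is `A₆`.
-/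

set_option autoImplicit false

namespace Cfsg.Agent.Lib.SelfCentSix9

open Subgroup

universe u

/-- A group of order twice an odd number times a normal subgroup has a subgroup of index two. -/
theorem exists_index_two_of_index {Y : Type u} [Group Y] [Finite Y] (L : Subgroup Y) [L.Normal]
    (h : L.index % 4 = 2) : ∃ H : Subgroup Y, H.index = 2 := by
  obtain ⟨H, hH⟩ := Involutions.IndexTwo.exists_index_two_of_mod_four (G := Y ⧸ L) (by rwa [← index_eq_card])
  exact ⟨H.comap (QuotientGroup.mk' L), by rw [index_comap_of_surjective _ (QuotientGroup.mk'_surjective L), hH]⟩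

/-- **The group is `A₆`.** -/
theorem almost_alt_six {Y : Type u} [Group Y] [Finite Y] (hY : GWConsumers70.IsAlmostPSL Y)
    (T : Sylow 2 Y) (hT : Nat.card (T : Subgroup Y) = 8) (hno : ∀ H : Subgroup Y, H.index ≠ 2)
    {a : Y} (ha : orderOf a = 4) {β : MulAut Y} (hβa : β a = a⁻¹)
    (hβ2 : ∀ y, β (β y) = a * a * y * (a * a)⁻¹) {m : ℕ}
    (hC : Nat.card (centralizer ({a} : Set Y)) = 4 * m) (hm2 : ¬ 2 ∣ m) (hm3 : ¬ 3 ∣ m)
    (hfix : ∀ k : Y, Commute k a → ¬ 2 ∣ orderOf k → β k = k) :
    m = 1 ∧ Nonempty (Y ≃* alternatingGroup (Fin 6)) := by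
  classical
  have : Fact (Nat.Prime 2) := ⟨Nat.prime_two⟩
  obtain ⟨F, iF, iF', hodd, Kk, hle, ⟨e⟩⟩ := hY
  set I := (MulAut.conj : Matrix.ProjectiveSpecialLinearGroup (Fin 2) F →*
        MulAut (Matrix.ProjectiveSpecialLinearGroup (Fin 2) F)).range with hI
  have hIn : I.Normal := ⟨by
    rintro _ ⟨l, rfl⟩ φ
    exact ⟨φ l, MulEquiv.ext fun y => by simp [MulAut.conj_apply]⟩⟩
  set L := (I.subgroupOf Kk).map e.symm.toMonoidHom with hL
  have hLn : L.Normal := (hIn.subgroupOf Kk).map _ e.symm.surjective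
  have hLcard : Nat.card L = Nat.card I := by
    rw [hL, card_map_of_injective e.symm.injective, Nat.card_congr (subgroupOfEquivOfLe hle).toEquiv]
  have hIdvd : Nat.card I ∣ Nat.card (Matrix.ProjectiveSpecialLinearGroup (Fin 2) F) := card_range_dvd _
  obtain ⟨j, hj⟩ := hodd
  have h4 : 4 ∣ Nat.card (Matrix.ProjectiveSpecialLinearGroup (Fin 2) F) := by
    have e3 := Lib.Linear.two_mul_card_PSL_two_of_odd (F := F) ⟨j, hj⟩
    obtain ⟨i, hi⟩ := Nat.even_mul_succ_self j
    rw [hj, show 2 * j + 1 - 1 = 2 * j by omega] at e3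
    refine ⟨(2 * j + 1) * i, ?_⟩
    have : 2 * j * (2 * j + 1 + 1) = 4 * (j * (j + 1)) := by ring
    rw [mul_assoc, this, hi] at e3
    linarith
  -- the index is odd
  have h8 : 8 ∣ Nat.card Y := hT ▸ (T : Subgroup Y).card_subgroup_dvd_card
  have hnc : ∀ l : Matrix.ProjectiveSpecialLinearGroup (Fin 2) F, l ≠ 1 → ∃ p, l * p ≠ p * l := by
    intro l hl
    by_contra hc
    push Not at hc
    rcases Nat.lt_or_ge (Fintype.card F) 4 with h4q | h4q
    · obtain ⟨e4⟩ := Cfsg.Agent.S0251.result (F := F) (by have := Fintype.one_lt_card (α := F); omega)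
      have key : ∀ u : alternatingGroup (Fin 4), (∀ v, u * v = v * u) → u = 1 := by decide
      refine hl (e4.injective (by
        rw [map_one]
        exact key _ fun v => by obtain ⟨p, rfl⟩ := e4.surjective v; rw [← map_mul, hc p, map_mul]))
    have : IsSimpleGroup (Matrix.ProjectiveSpecialLinearGroup (Fin 2) F) :=
      Lib.Linear.isSimpleGroup_PSL le_rfl fun _ => by rwa [Nat.card_eq_fintype_card]
    have hz : l ∈ center (Matrix.ProjectiveSpecialLinearGroup (Fin 2) F) :=
      mem_center_iff.2 fun p => (hc p).symm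
    obtain ⟨p, p', hp⟩ := Lib.Linear.exists_not_commute_PSL (ι := Fin 2) (F := F)
      (Lib.Linear.commutator_SL_eq_top le_rfl fun _ => by rwa [Nat.card_eq_fintype_card])
    rcases (inferInstance : (center (Matrix.ProjectiveSpecialLinearGroup (Fin 2) F)).Normal).eq_bot_or_eq_top
      with h | h
    · exact hl (mem_bot.1 (h ▸ hz))
    · exact hp (mem_center_iff.1 (h ▸ mem_top p') p)
  have hconj : Function.Injective (MulAut.conj : Matrix.ProjectiveSpecialLinearGroup (Fin 2) F →*
        MulAut (Matrix.ProjectiveSpecialLinearGroup (Fin 2) F)) := by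
    rw [injective_iff_map_eq_one]
    intro l hl
    by_contra hl1
    obtain ⟨p, hp⟩ := hnc l hl1
    have := congrArg (fun φ : MulAut _ => φ p) hl
    exact hp (mul_inv_eq_iff_eq_mul.1 (by simpa using this))
  have hIcard : Nat.card I = Nat.card (Matrix.ProjectiveSpecialLinearGroup (Fin 2) F) :=
    (Nat.card_congr (MonoidHom.ofInjective hconj).toEquiv).symm
  let eL : L ≃* Matrix.ProjectiveSpecialLinearGroup (Fin 2) F :=
    ((e.symm.subgroupMap (I.subgroupOf Kk)).symm.trans (subgroupOfEquivOfLe hle)).trans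
      (MonoidHom.ofInjective hconj).symm
  have hodd2 : L.index % 2 = 1 := by
    by_contra hc
    refine absurd ?_ (fun h : ∃ H : Subgroup Y, H.index = 2 => by obtain ⟨H, hH⟩ := h; exact hno H hH)
    refine exists_index_two_of_index L ?_
    by_contra h4i
    have h4' : 4 ∣ L.index := by omega
    have h16 : 16 ∣ Nat.card Y := by
      rw [← L.card_mul_index, hLcard, hIcard]
      exact Nat.mul_dvd_mul h4 h4'
    have := (Nat.Prime.pow_dvd_iff_le_factorization Nat.prime_two Nat.card_pos.ne').1
      (show 2 ^ 4 ∣ Nat.card Y from h16)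
    have e8 := T.card_eq_multiplicity
    rw [hT, show 8 = 2 ^ 3 from rfl] at e8
    have := Nat.pow_right_injective le_rfl e8
    omega
  have hq4 : 4 ≤ Fintype.card F := by
    by_contra hc
    have h3 : Fintype.card F = 3 := by
      have := Fintype.one_lt_card (α := F)
      omega
    have h8L : 8 ∣ Nat.card L := by
      refine (Nat.Coprime.dvd_of_dvd_mul_right ?_ (L.card_mul_index.symm ▸ h8 : 8 ∣ Nat.card L * L.index))
      exact Nat.Coprime.pow_left 3 (Nat.coprime_two_left.2 (Nat.odd_iff.2 hodd2))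
    have e3 := Lib.Linear.two_mul_card_PSL_two_of_odd (F := F) ⟨j, hj⟩
    rw [← hIcard, ← hLcard, h3] at e3
    norm_num at e3
    omega
  have hsimp : IsSimpleGroup (Matrix.ProjectiveSpecialLinearGroup (Fin 2) F) :=
    Lib.Linear.isSimpleGroup_PSL le_rfl fun _ => by rwa [Nat.card_eq_fintype_card]
  have hmem : ∀ y : Y, (∃ n, y ^ 2 ^ n = 1) → y ∈ L := by
    rintro y ⟨n, hn⟩
    rw [← QuotientGroup.eq_one_iff, ← orderOf_eq_one_iff]
    refine Nat.eq_one_of_dvd_coprimes (Nat.Coprime.pow_left n (Nat.coprime_two_left.2 (Nat.odd_iff.2 hodd2)))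
      ((orderOf_map_dvd (QuotientGroup.mk' L) y).trans (orderOf_dvd_of_pow_eq_one hn)) ?_
    rw [index_eq_card]
    exact _root_.orderOf_dvd_natCard _
  have haL : a ∈ L := hmem a ⟨2, by rw [show 2 ^ 2 = 4 from rfl, ← ha, pow_orderOf_eq_one]⟩
  -- `β` normalises `L`
  have hsL : IsSimpleGroup L := eL.isSimpleGroup
  have hβL : L.map β.toMonoidHom = L := by
    have hn : (L.map β.toMonoidHom).Normal := hLn.map _ β.surjective
    have hn' : ((L.map β.toMonoidHom).subgroupOf L).Normal := hn.subgroupOf L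
    have haβ : a ∈ L.map β.toMonoidHom := by
      refine ⟨a⁻¹, inv_mem haL, ?_⟩
      show β a⁻¹ = a
      rw [map_inv, hβa, inv_inv]
    rcases hn'.eq_bot_or_eq_top with h | h
    · exfalso
      have : (⟨a, haL⟩ : L) ∈ (L.map β.toMonoidHom).subgroupOf L := mem_subgroupOf.2 haβ
      rw [h, mem_bot] at this
      rw [show a = 1 from congrArg Subtype.val this, orderOf_one] at ha
      norm_num at ha
    · exact (Subgroup.eq_of_le_of_card_ge (subgroupOf_eq_top.1 h)
        (card_map_of_injective β.injective).le).symm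
  let βL : MulAut L := (L.equivMapOfInjective β.toMonoidHom β.injective).trans (MulEquiv.subgroupCongr hβL)
  have hβL_apply : ∀ l : L, ((βL l : L) : Y) = β l := fun l => rfl
  set A := eL ⟨a, haL⟩ with hA
  set βP : MulAut (Matrix.ProjectiveSpecialLinearGroup (Fin 2) F) := MulAut.congr eL βL with hβP
  have hβP_apply : ∀ l : L, βP (eL l) = eL (βL l) := fun l => by simp [hβP]
  have hA4 : orderOf A = 4 := by rw [hA, MulEquiv.orderOf_eq, Subgroup.orderOf_mk, ha]
  have hCL : Nat.card (centralizer ({A} : Set (Matrix.ProjectiveSpecialLinearGroup (Fin 2) F))) ∣ 4 * m := by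
    rw [← hC]
    let f : centralizer ({⟨a, haL⟩} : Set L) →* centralizer ({a} : Set Y) :=
      (L.subtype.comp (centralizer _).subtype).codRestrict _ fun l =>
        mem_centralizer_singleton_iff.2 (congrArg Subtype.val (mem_centralizer_singleton_iff.1 l.2))
    have hf : Function.Injective f := fun p q h => by
      have h' := congrArg Subtype.val h
      exact Subtype.ext (Subtype.ext h')
    refine (dvd_of_eq ?_).trans (Subgroup.card_dvd_of_injective f hf)
    exact (Nat.card_congr (Equiv.subtypeEquiv eL.toEquiv fun l => by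
      simp only [mem_centralizer_singleton_iff, hA, MulEquiv.toEquiv_eq_coe, EquivLike.coe_coe,
        ← map_mul, eL.injective.eq_iff])).symm
  obtain ⟨m', hm'⟩ : 4 ∣ Nat.card (centralizer ({A} : Set (Matrix.ProjectiveSpecialLinearGroup (Fin 2) F))) := by
    have hA' : A ∈ centralizer ({A} : Set (Matrix.ProjectiveSpecialLinearGroup (Fin 2) F)) :=
      mem_centralizer_singleton_iff.2 rfl
    have := orderOf_dvd_natCard _ hA'
    rwa [hA4] at this
  have hmm : m' ∣ m := Nat.dvd_of_mul_dvd_mul_left (by norm_num) (hm' ▸ hCL)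
  obtain ⟨h9, -⟩ := card_field_of_outer (F := F) ⟨j, hj⟩ hA4 (β := βP)
    (by rw [hA, hβP_apply, ← map_inv, eL.injective.eq_iff]; exact Subtype.ext (by rw [hβL_apply]; exact hβa))
    (fun hone => by
      have hz : A * A ≠ 1 := fun h => by
        have := orderOf_dvd_of_pow_eq_one (x := A) (n := 2) (by rw [pow_two, h])
        rw [hA4] at this
        norm_num at this
      obtain ⟨p, hp⟩ := hnc _ hz
      obtain ⟨l, rfl⟩ := eL.surjective p
      have h1 := congrArg (fun φ : MulAut _ => φ (eL l)) hone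
      simp only [MulAut.mul_apply, hβP_apply, MulAut.one_apply, eL.injective.eq_iff] at h1
      have h2 : β (β (l : Y)) = l := by rw [← hβL_apply, ← hβL_apply, h1]
      rw [hβ2] at h2
      apply hp
      rw [hA, ← map_mul, ← map_mul, ← map_mul, eL.injective.eq_iff]
      exact Subtype.ext (mul_inv_eq_iff_eq_mul.1 h2))
    hm' (fun h => hm2 (h.trans hmm)) (fun h => hm3 (h.trans hmm)) (fun k hk hko => by
      obtain ⟨l, rfl⟩ := eL.surjective k
      rw [hβP_apply, eL.injective.eq_iff]
      refine Subtype.ext ?_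
      rw [hβL_apply]
      refine hfix _ ?_ ?_
      · have := hk.eq
        rw [hA, ← map_mul, ← map_mul, eL.injective.eq_iff] at this
        exact congrArg Subtype.val this
      · rwa [MulEquiv.orderOf_eq, ← Subgroup.orderOf_coe] at hko)
  obtain ⟨eA⟩ := Cfsg.Agent.S0254.result h9
  -- no room above
  have h360 : Nat.card L = 360 := by
    rw [Nat.card_congr (eL.trans eA).toEquiv, nat_card_alternatingGroup, Nat.card_fin]
    rfl
  have h1440 : Nat.card Y ∣ 1440 := by
    rw [Nat.card_congr e.toEquiv]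
    refine Kk.card_subgroup_dvd_card.trans ?_
    rw [Nat.card_congr (MulAut.congr eA).toEquiv]
    exact SU3Max96.SmallAut.card_mulAut_A6
  have htop : L = ⊤ := by
    rw [← index_eq_one]
    have hd : L.index ∣ 4 := by
      refine Nat.dvd_of_mul_dvd_mul_left (show 0 < 360 by norm_num) ?_
      rw [← h360, L.card_mul_index]
      rw [h360]
      exact h1440
    have := Nat.le_of_dvd (by norm_num) hd
    interval_cases hi : L.index <;> omega
  let eY : Y ≃* Matrix.ProjectiveSpecialLinearGroup (Fin 2) F :=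
    (Subgroup.topEquiv.symm.trans (MulEquiv.subgroupCongr htop.symm)).trans eL
  refine ⟨?_, ⟨eY.trans eA⟩⟩
  have hfull : Nat.card (centralizer ({A} : Set (Matrix.ProjectiveSpecialLinearGroup (Fin 2) F))) = 4 * m := by
    rw [← hC]
    exact (Nat.card_congr (Equiv.subtypeEquiv eY.toEquiv fun y => by
      have hae : eY a = A := rfl
      simp only [mem_centralizer_singleton_iff, ← hae, MulEquiv.toEquiv_eq_coe, EquivLike.coe_coe,
        ← map_mul, eY.injective.eq_iff])).symm
  have h1 : m' = m := by rw [hm'] at hfull; omega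
  obtain ⟨A1, hA1⟩ := Cfsg.Agent.Lib.SL2Tori.Products.proj_surjective A
  have ht : Cfsg.Agent.Lib.PSLTwo.Sylow.slTr A1 ≠ 0 := by
    intro h0
    have := orderOf_dvd_of_pow_eq_one (x := A) (n := 2) (by rw [pow_two, ← hA1, proj_sq_eq_one h0])
    rw [hA4] at this
    norm_num at this
  have hT2 := card_torus_eq (g := A1) ⟨j, hj⟩ ht
  rw [hA1, hfull] at hT2
  rcases Cfsg.Agent.Lib.PSLTwo.ClassSize.card_torus_cases
    (Cfsg.Agent.Lib.SL2Tori.Products.nonScalar_of_proj_ne_one (g := A1) (by
      intro h'; rw [hA1] at h'; rw [h', orderOf_one] at hA4; norm_num at hA4)) with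
    ⟨-, h⟩ | ⟨-, -, h⟩ | ⟨-, -, h⟩ <;> rw [hT2, h9] at h
  · have h2 : (2 : F) ≠ 0 := fun e' => by
      have := Cfsg.Agent.Lib.PSLTwo.ClassSizeValues.cast_two_zero_iff.mp e'
      omega
    rw [Cfsg.Agent.Lib.PSLTwo.ClassSize.card_sqrt_one h2] at h
    omega
  · omega
  · omega

end Cfsg.Agent.Lib.SelfCentSix9
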