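import Mathlib

/-!
# Elements of order four of the alternating group of degree six

Such an element normalises an elementary group of order nine and its square inverts it.
-/

set_option autoImplicit false
set_option synthInstance.maxSize 1000

namespace Cfsg.Agent.Lib.SelfCentSix9

theorem alt_six_four : ∀ a : alternatingGroup (Fin 6), a ^ 4 = 1 → a ^ 2 ≠ 1 →
    ∃ l : alternatingGroup (Fin 6), l * l * l = 1 ∧ l ≠ 1 ∧
      (a * l * a⁻¹) * l = l * (a * l * a⁻¹) ∧ a * l * a⁻¹ ≠ l ∧ a * l * a⁻¹ ≠ l⁻¹ ∧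
      a * (a * l * a⁻¹) * a⁻¹ = l⁻¹ := by
  decide +kernel

end Cfsg.Agent.Lib.SelfCentSix9
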