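import Mathlib

/-!
# Elements inverted by an involution

If an involution `z` normalises a group `M` of odd order, inverts `p` of order three normalising `M`, and
`p` centralises the fixed points of `z` in `M`, then `p` centralises `M`.
-/

set_option autoImplicit false

namespace Cfsg.Agent.Lib.SelfCentSix9

open Subgroup

variable {G : Type*} [Group G] [Finite G]

/-- A real element of a group of odd order is trivial. -/
theorem eq_one_of_conj_eq_inv {M : Subgroup G} (hodd : ¬ 2 ∣ Nat.card M) {d i : G} (hd : d ∈ M)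
    (hi : i ∈ M) (h : i * d * i⁻¹ = d⁻¹) : d = 1 := by
  have hco : Nat.Coprime (orderOf i) 2 := Nat.coprime_two_right.2 (Nat.odd_iff.2
    (Nat.two_dvd_ne_zero.1 fun h2 => hodd (h2.trans (orderOf_dvd_natCard M hi))))
  obtain ⟨k, hk⟩ := exists_pow_eq_self_of_coprime hco.symm
  have h2 : Commute (i ^ 2) d := by
    refine mul_inv_eq_iff_eq_mul.1 ?_
    calc i ^ 2 * d * (i ^ 2)⁻¹ = i * (i * d * i⁻¹) * i⁻¹ := by rw [pow_two]; group
      _ = i * d⁻¹ * i⁻¹ := by rw [h]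
      _ = (i * d * i⁻¹)⁻¹ := by group
      _ = d := by rw [h, inv_inv]
  have hid : Commute i d := hk ▸ h2.pow_left k
  rw [hid.eq, mul_inv_cancel_right] at h
  have hd2 : orderOf d ∣ 2 := orderOf_dvd_of_pow_eq_one (by rw [pow_two]; nth_rewrite 2 [h]; exact mul_inv_cancel d)
  rcases (Nat.dvd_prime Nat.prime_two).1 hd2 with e | e
  · exact orderOf_eq_one_iff.1 e
  · exact absurd (e ▸ orderOf_dvd_natCard M hd) hodd

/-- An inverted element of order three centralising the fixed points centralises everything. -/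
theorem commute_of_inverted {M : Subgroup G} (hodd : ¬ 2 ∣ Nat.card M) (h3 : ¬ 3 ∣ Nat.card M)
    {z p : G} (hz : z * z = 1) (hzM : ∀ y ∈ M, z * y * z ∈ M) (hpM : ∀ y ∈ M, p * y * p⁻¹ ∈ M)
    (hp : p ^ 3 = 1) (hzp : z * p * z = p⁻¹) (hfix : ∀ y ∈ M, Commute z y → Commute p y) :
    ∀ y ∈ M, Commute p y := by
  have hzz : ∀ y : G, z * (z * y) = y := fun y => by rw [← mul_assoc, hz, one_mul]
  -- the decomposition
  have hdec : ∀ y ∈ M, ∃ d ∈ M, ∃ i ∈ M, Commute z d ∧ z * i * z = i⁻¹ ∧ y = d * i := by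
    intro y hy
    set v := (z * y * z)⁻¹ * y with hv
    have hvM : v ∈ M := mul_mem (inv_mem (hzM y hy)) hy
    have hzv : z * v * z = v⁻¹ := by
      rw [hv]
      simp only [mul_inv_rev, inv_inv, inv_eq_of_mul_eq_one_right hz, mul_assoc]
      simp [hzz]
    have hco : Nat.Coprime (orderOf v) 2 := Nat.coprime_two_right.2 (Nat.odd_iff.2
      (Nat.two_dvd_ne_zero.1 fun h2 => hodd (h2.trans (orderOf_dvd_natCard M hvM))))
    obtain ⟨k, hk⟩ := exists_pow_eq_self_of_coprime hco.symm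
    set i := v ^ k with hi
    have hconj : ∀ n : ℕ, z * v ^ n * z = (v ^ n)⁻¹ := by
      intro n
      have := conj_pow (i := n) (a := z) (b := v)
      rw [inv_eq_of_mul_eq_one_right hz, hzv, inv_pow] at this
      exact this.symm
    have hii : i * i = v := by rw [hi, ← pow_two, ← pow_mul, mul_comm, pow_mul]; exact hk
    refine ⟨y * i⁻¹, mul_mem hy (inv_mem (pow_mem hvM k)), i, pow_mem hvM k, ?_, hconj k,
      (inv_mul_cancel_right y i).symm⟩
    have e1 : z * y * z = y * v⁻¹ := by rw [hv]; group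
    have e2 : z * (y * i⁻¹) * z = y * i⁻¹ := by
      have e3 : z * i⁻¹ * z = i := by
        have := congrArg (·⁻¹) (hconj k)
        simpa [mul_inv_rev, inv_eq_of_mul_eq_one_right hz, mul_assoc, hi] using this
      calc z * (y * i⁻¹) * z = (z * y * z) * (z * i⁻¹ * z) := by
            simp only [mul_assoc, hzz]
        _ = y * i⁻¹ := by rw [e1, e3, ← hii]; group
    show z * (y * i⁻¹) = y * i⁻¹ * z
    calc z * (y * i⁻¹) = z * (y * i⁻¹) * (z * z) := by rw [hz, mul_one]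
      _ = y * i⁻¹ * z := by rw [← mul_assoc, e2]
  have key : ∀ i ∈ M, z * i * z = i⁻¹ → Commute p i := by
    intro i hi hiz
    obtain ⟨d, hd, j, hj, hzd, hjz, e⟩ := hdec _ (hpM i hi)
    have hpd := hfix d hd hzd
    have hzd' : z * d * z = d := by rw [hzd.eq, mul_assoc, hz, mul_one]
    have e' : p⁻¹ * i⁻¹ * p = d * j⁻¹ := by
      have := congrArg (fun t => z * t * z) e
      beta_reduce at this
      rw [show z * (p * i * p⁻¹) * z = (z * p * z) * (z * i * z) * (z * p * z)⁻¹ by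
        rw [mul_inv_rev, mul_inv_rev, inv_eq_of_mul_eq_one_right hz]; simp only [mul_assoc, hzz],
        show z * (d * j) * z = (z * d * z) * (z * j * z) by simp only [mul_assoc, hzz], hzd', hjz, hzp,
        hiz, inv_inv] at this
      exact this
    have hij : p * j * p⁻¹ = i * d := by
      have h1 : p⁻¹ * i * p = j * d⁻¹ := by
        calc p⁻¹ * i * p = (p⁻¹ * i⁻¹ * p)⁻¹ := by group
          _ = _ := by rw [e']; group
      calc p * j * p⁻¹ = p * (j * d⁻¹) * p⁻¹ * (p * d * p⁻¹) := by group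
        _ = i * d := by rw [← h1, mul_inv_eq_iff_eq_mul.2 hpd.eq]; group
    have h2 : p ^ 2 * i * (p ^ 2)⁻¹ = d * i * d := by
      calc p ^ 2 * i * (p ^ 2)⁻¹ = p * (p * i * p⁻¹) * p⁻¹ := by rw [pow_two]; group
        _ = p * (d * j) * p⁻¹ := by rw [e]
        _ = (p * d * p⁻¹) * (p * j * p⁻¹) := by group
        _ = d * i * d := by rw [mul_inv_eq_iff_eq_mul.2 hpd.eq, hij, mul_assoc]
    have hpd2 : p ^ 2 * d * (p ^ 2)⁻¹ = d := mul_inv_eq_iff_eq_mul.2 (hpd.pow_left 2).eq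
    have h4 : p ^ 4 * i * (p ^ 4)⁻¹ = d * (d * i * d) * d := by
      calc p ^ 4 * i * (p ^ 4)⁻¹ = p ^ 2 * (p ^ 2 * i * (p ^ 2)⁻¹) * (p ^ 2)⁻¹ := by
            rw [show 4 = 2 + 2 from rfl, pow_add]; group
        _ = p ^ 2 * (d * i * d) * (p ^ 2)⁻¹ := by rw [h2]
        _ = (p ^ 2 * d * (p ^ 2)⁻¹) * (p ^ 2 * i * (p ^ 2)⁻¹) * (p ^ 2 * d * (p ^ 2)⁻¹) := by group
        _ = _ := by rw [h2, hpd2]
    have h6 : p ^ 6 * i * (p ^ 6)⁻¹ = d * (d * (d * i * d) * d) * d := by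
      calc p ^ 6 * i * (p ^ 6)⁻¹ = p ^ 2 * (p ^ 4 * i * (p ^ 4)⁻¹) * (p ^ 2)⁻¹ := by
            rw [show 6 = 2 + 4 from rfl, pow_add]; group
        _ = (p ^ 2 * d * (p ^ 2)⁻¹) * ((p ^ 2 * d * (p ^ 2)⁻¹) * (p ^ 2 * i * (p ^ 2)⁻¹) *
            (p ^ 2 * d * (p ^ 2)⁻¹)) * (p ^ 2 * d * (p ^ 2)⁻¹) := by
          rw [h4, show ∀ a : G, p ^ 2 * (d * a * d) * (p ^ 2)⁻¹ = (p ^ 2 * d * (p ^ 2)⁻¹) *
            (p ^ 2 * a * (p ^ 2)⁻¹) * (p ^ 2 * d * (p ^ 2)⁻¹) from fun a => by group,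
            show ∀ a : G, p ^ 2 * (d * a * d) * (p ^ 2)⁻¹ = (p ^ 2 * d * (p ^ 2)⁻¹) *
            (p ^ 2 * a * (p ^ 2)⁻¹) * (p ^ 2 * d * (p ^ 2)⁻¹) from fun a => by group]
        _ = _ := by rw [h2, hpd2]
    rw [show p ^ 6 = 1 by rw [show 6 = 3 * 2 from rfl, pow_mul, hp, one_pow], one_mul, inv_one, mul_one]
      at h6
    have hreal : i * d ^ 3 * i⁻¹ = (d ^ 3)⁻¹ := by
      refine eq_inv_of_mul_eq_one_right ?_
      calc d ^ 3 * (i * d ^ 3 * i⁻¹) = (d * (d * (d * i * d) * d) * d) * i⁻¹ := by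
            simp only [pow_succ, pow_zero, one_mul]; group
        _ = 1 := by rw [← h6, mul_inv_cancel]
    have hd3 := eq_one_of_conj_eq_inv hodd (pow_mem hd 3) hi hreal
    have hd1 : d = 1 := by
      rcases (Nat.dvd_prime Nat.prime_three).1 (orderOf_dvd_of_pow_eq_one hd3) with e1 | e1
      · exact orderOf_eq_one_iff.1 e1
      · exact absurd (e1 ▸ orderOf_dvd_natCard M hd) h3
    rw [hd1, one_mul, mul_one] at h2
    have hc2 : Commute (p ^ 2) i := mul_inv_eq_iff_eq_mul.1 h2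
    have hc4 := hc2.pow_left 2
    rwa [← pow_mul, show p ^ (2 * 2) = p by rw [show 2 * 2 = 3 + 1 from rfl, pow_succ, hp, one_mul]] at hc4
  intro y hy
  obtain ⟨d, hd, i, hi, hzd, hiz, rfl⟩ := hdec y hy
  exact (hfix d hd hzd).mul_right (key i hi hiz)

end Cfsg.Agent.Lib.SelfCentSix9
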