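import Cfsg.Agent.Lib.SelfCentSix9.Six.LargeLocal
import Cfsg.Agent.S2858

/-!
# `C(z)` as a member of an amalgam, and the `(S₃, S₃)`-amalgam inside a finite group
-/

set_option autoImplicit false

namespace Cfsg.Agent.Lib.SelfCentSix9

open Subgroup

universe u

variable {G : Type u} [Group G]

/-- Conjugation maps centralisers to centralisers. -/
theorem cen_map (g t : G) : (Cen t).map (MulAut.conj g).toMonoidHom = Cen (g * t * g⁻¹) := by
  ext y
  constructor
  · rintro ⟨y, hy, rfl⟩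
    refine mem_cen.2 ?_
    simpa using (mem_cen.1 hy).map (MulAut.conj g)
  · intro hy
    refine ⟨g⁻¹ * y * g, mem_cen.2 ?_, by simp [mul_assoc]⟩
    have := (mem_cen.1 hy).map (MulAut.conj g⁻¹)
    simp only [MulAut.conj_apply, inv_inv] at this
    rwa [show g⁻¹ * (g * t * g⁻¹) * g = t by group] at this

/-- A subgroup that is `O₂` extended by `S₃` and constrained. -/
structure SThreeLocal (P : Subgroup G) : Prop where
  cent : ∀ c ∈ P, (∀ q ∈ Cfsg.pCoreOf 2 P, Commute c q) → c ∈ Cfsg.pCoreOf 2 P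
  quot : Nonempty (P ⧸ Cfsg.pCore 2 P ≃* Equiv.Perm (Fin 3))

/-- The property is invariant under conjugation. -/
theorem SThreeLocal.map {P : Subgroup G} (h : SThreeLocal P) (g : G) :
    SThreeLocal (P.map (MulAut.conj g).toMonoidHom) := by
  set e := P.equivMapOfInjective (MulAut.conj g).toMonoidHom (MulAut.conj g).injective with he
  have hcoe : ∀ p : P, ((e p : P.map (MulAut.conj g).toMonoidHom) : G) = g * p * g⁻¹ := fun p => rfl
  have hcore : Cfsg.pCoreOf 2 (P.map (MulAut.conj g).toMonoidHom) =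
      (Cfsg.pCoreOf 2 P).map (MulAut.conj g).toMonoidHom := by
    simp only [Cfsg.pCoreOf, ← Cores.map_pCore_equiv e, map_map]
    rfl
  constructor
  · rintro _ ⟨c, hc, rfl⟩ hcc
    rw [hcore]
    refine ⟨c, h.cent c hc fun q hq => ?_, rfl⟩
    have := (hcc _ (hcore.ge (mem_map_of_mem _ hq))).map (MulAut.conj g⁻¹)
    simpa [mul_assoc] using this
  · obtain ⟨f⟩ := h.quot
    exact ⟨(QuotientGroup.congr _ _ e.symm (Cores.map_pCore_equiv e.symm)).trans f⟩

variable [Finite G]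

/-- The order of the members of an amalgam inside a finite group. -/
theorem card_of_amalgam (P₁ P₂ : Subgroup G) (h₁ : SThreeLocal P₁) (h₂ : SThreeLocal P₂)
    (hs₁ : ∃ S : Sylow 2 P₁, (S : Subgroup P₁) = (P₁ ⊓ P₂).subgroupOf P₁)
    (hs₂ : ∃ S : Sylow 2 P₂, (S : Subgroup P₂) = (P₁ ⊓ P₂).subgroupOf P₂)
    (h₃ : ∀ N : Subgroup G, N ≤ P₁ ⊓ P₂ → P₁ ≤ normalizer (N : Set G) → P₂ ≤ normalizer (N : Set G) →
      N = ⊥)
    (h₅ : ∀ P ∈ ({P₁, P₂} : Set (Subgroup G)), ∃ w ∈ P₁ ⊓ P₂, w * w = 1 ∧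
      (∀ t ∈ P₁ ⊓ P₂, Commute t w) ∧ ∃ p ∈ P, ¬ Commute p w) :
    Nat.card P₁ = 24 ∨ Nat.card P₁ = 48 := by
  set J := P₁ ⊔ P₂ with hJ
  have hle : ∀ P ∈ ({P₁, P₂} : Set (Subgroup G)), P ≤ J := by
    rintro P (rfl | rfl)
    exacts [le_sup_left, le_sup_right]
  have hloc : ∀ P, P ≤ J → SThreeLocal P →
      (P.subgroupOf J ⊓ centralizer (Cfsg.pCoreOf 2 (P.subgroupOf J) : Set J) ≤
        Cfsg.pCoreOf 2 (P.subgroupOf J)) ∧
      Nonempty (P.subgroupOf J ⧸ Cfsg.pCore 2 (P.subgroupOf J) ≃* Equiv.Perm (Fin 3)) := by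
    intro P hP hl
    let e : P.subgroupOf J ≃* P := subgroupOfEquivOfLe hP
    have hcore : Cfsg.pCoreOf 2 P = (Cfsg.pCoreOf 2 (P.subgroupOf J)).map J.subtype := by
      simp only [Cfsg.pCoreOf, ← Cores.map_pCore_equiv e, map_map]
      rfl
    constructor
    · rintro c ⟨hc, hcc⟩
      have h := hl.cent c hc fun q hq => by
        rw [hcore] at hq
        obtain ⟨q', hq', rfl⟩ := hq
        exact (congrArg Subtype.val (mem_centralizer_iff.1 hcc q' hq')).symm
      rw [hcore] at h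
      exact (Subgroup.mem_map_iff_mem J.subtype_injective).1 h
    · obtain ⟨f⟩ := hl.quot
      exact ⟨(QuotientGroup.congr _ _ e (Cores.map_pCore_equiv e)).trans f⟩
  have hinf : (P₁ ⊓ P₂).subgroupOf J = P₁.subgroupOf J ⊓ P₂.subgroupOf J := rfl
  have hsyl : ∀ P, P ≤ J → (∃ S : Sylow 2 P, (S : Subgroup P) = (P₁ ⊓ P₂).subgroupOf P) →
      ∃ S : Sylow 2 (P.subgroupOf J),
        (S : Subgroup (P.subgroupOf J)) = ((P₁ ⊓ P₂).subgroupOf J).subgroupOf (P.subgroupOf J) := by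
    rintro P hP ⟨S, hS⟩
    let e : P.subgroupOf J ≃* P := subgroupOfEquivOfLe hP
    refine ⟨S.comapOfInjective e.toMonoidHom e.injective fun y _ => ⟨e.symm y, by simp⟩, ?_⟩
    show S.toSubgroup.comap _ = _
    rw [hS]
    ext y
    rfl
  have hgen : P₁.subgroupOf J ⊔ P₂.subgroupOf J = ⊤ := by
    rw [← Subgroup.subgroupOf_sup le_sup_left le_sup_right, Subgroup.subgroupOf_self]
  have : Finite (P₁.subgroupOf J) := inferInstance
  have hres := Cfsg.Agent.S2858.result (P₁.subgroupOf J) (P₂.subgroupOf J) hgen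
    ((P₁ ⊓ P₂).subgroupOf J) hinf
    (by rintro P (rfl | rfl); exacts [(hloc P₁ le_sup_left h₁).1, (hloc P₂ le_sup_right h₂).1])
    (by rintro P (rfl | rfl); exacts [hsyl P₁ le_sup_left hs₁, hsyl P₂ le_sup_right hs₂])
    (fun N hN hNT => by
      have h := h₃ (N.map J.subtype) (by rintro _ ⟨y, hy, rfl⟩; exact hNT hy)
        (fun g hg => mem_normalizer_of_conj fun y hy => by
          obtain ⟨y, hy, rfl⟩ := hy
          exact ⟨_, hN.conj_mem y hy ⟨g, (le_sup_left : P₁ ≤ J) hg⟩, rfl⟩)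
        (fun g hg => mem_normalizer_of_conj fun y hy => by
          obtain ⟨y, hy, rfl⟩ := hy
          exact ⟨_, hN.conj_mem y hy ⟨g, (le_sup_right : P₂ ≤ J) hg⟩, rfl⟩)
      exact (map_eq_bot_iff_of_injective N J.subtype_injective).1 h)
    (by rintro P (rfl | rfl); exacts [(hloc P₁ le_sup_left h₁).2, (hloc P₂ le_sup_right h₂).2])
    (by
      have key : ∀ P ∈ ({P₁, P₂} : Set (Subgroup G)), ¬ P.subgroupOf J ≤
          centralizer (Cfsg.omegaOne 2 ((P₁ ⊓ P₂).subgroupOf J ⊓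
            centralizer (((P₁ ⊓ P₂).subgroupOf J : Subgroup J) : Set J)) : Set J) := by
        intro P hP hc
        obtain ⟨w, hw, hw2, hwc, p, hp, hpw⟩ := h₅ P hP
        have hwJ : w ∈ J := (le_sup_left : P₁ ≤ J) hw.1
        have hmem : (⟨w, hwJ⟩ : J) ∈ Cfsg.omegaOne 2 ((P₁ ⊓ P₂).subgroupOf J ⊓
            centralizer (((P₁ ⊓ P₂).subgroupOf J : Subgroup J) : Set J)) :=
          subset_closure ⟨⟨hw, mem_centralizer_iff.2 fun t ht => Subtype.ext (hwc t ht).eq⟩,
            Subtype.ext (by rw [SubmonoidClass.coe_pow, pow_two]; exact hw2)⟩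
        exact hpw (congrArg Subtype.val
          (mem_centralizer_iff.1 (hc (x := ⟨p, hle P hP hp⟩) hp) _ hmem)).symm
      rintro P (rfl | rfl)
      exacts [key P₁ (Set.mem_insert _ _), key P₂ (Set.mem_insert_of_mem _ rfl)])
  have hc : Nat.card (P₁.subgroupOf J) = Nat.card P₁ :=
    Nat.card_congr (subgroupOfEquivOfLe le_sup_left).toEquiv
  rcases hres with ⟨⟨f⟩, -⟩ | ⟨⟨f⟩, -⟩
  · left
    rw [← hc, Nat.card_congr f.toEquiv, Nat.card_eq_fintype_card, Fintype.card_perm, Fintype.card_fin]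
    rfl
  · right
    rw [← hc, Nat.card_congr f.toEquiv, Nat.card_prod, Nat.card_congr Multiplicative.toAdd, Nat.card_zmod,
      Nat.card_eq_fintype_card, Fintype.card_perm, Fintype.card_fin]
    rfl

variable {z x u : G} {Q : Subgroup G} {S : Sylow 2 G}

namespace Large

variable (L : Large z x u Q S)
include L

/-- `O₂(C(z)) = Q`. -/
theorem pCore_eq : Cfsg.pCore 2 (Cen z) = Q.subgroupOf (Cen z) := by
  refine le_antisymm (fun y hy => mem_subgroupOf.2 ?_) ?_
  · refine L.le_Q_of_normal ((Cores.pCore_isPGroup (G := Cen z) 2).map (Cen z).subtype) (map_subtype_le _)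
      (fun g hg => mem_normalizer_of_conj fun a ha => ?_) (mem_map_of_mem _ hy)
    obtain ⟨a, ha, rfl⟩ := ha
    exact ⟨⟨g, hg⟩ * a * ⟨g, hg⟩⁻¹, Subgroup.Normal.conj_mem inferInstance a ha _, rfl⟩
  · have : (Q.subgroupOf (Cen z)).Normal := normal_subgroupOf_of_le_normalizer L.Q_norm
    exact Cores.le_pCore (L.two.of_equiv (subgroupOfEquivOfLe L.Q_le).symm)

theorem pCoreOf_eq : Cfsg.pCoreOf 2 (Cen z) = Q := by
  rw [Cfsg.pCoreOf, L.pCore_eq, map_subgroupOf_eq_of_le L.Q_le]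

/-- `C(z)` is constrained with quotient `S₃`. -/
theorem sThreeLocal : SThreeLocal (Cen z) := by
  constructor
  · rw [L.pCoreOf_eq]
    exact fun c hc hcc => L.centralizer_le hc hcc
  · set Qh := Q.subgroupOf (Cen z) with hQh
    have hn : Qh.Normal := normal_subgroupOf_of_le_normalizer L.Q_norm
    have h6 : Nat.card (Cen z ⧸ Qh) = 6 := by
      have e := card_eq_card_quotient_mul_card_subgroup Qh
      rw [L.card_H, hQh, Nat.card_congr (subgroupOfEquivOfLe L.Q_le).toEquiv] at e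
      exact (Nat.eq_of_mul_eq_mul_right Nat.card_pos e).symm
    obtain ⟨w, hw, hwQ⟩ := L.d6.exists_out
    obtain ⟨q, hq, hwx⟩ := L.conj_x hw hwQ
    obtain ⟨f⟩ := nonempty_perm_three h6
      (a := ((⟨w, L.S_le hw⟩ : Cen z) : Cen z ⧸ Qh)) (b := ((⟨x, L.ctx.x_mem⟩ : Cen z) : Cen z ⧸ Qh)) fun hc => by
        have e : ((⟨w, L.S_le hw⟩ * ⟨x, L.ctx.x_mem⟩ * ⟨w, L.S_le hw⟩⁻¹ * ⟨x, L.ctx.x_mem⟩⁻¹ : Cen z) :
            Cen z ⧸ Qh) = 1 := by
          rw [QuotientGroup.mk_mul, QuotientGroup.mk_mul, QuotientGroup.mk_mul, hc.eq, QuotientGroup.mk_inv,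
            QuotientGroup.mk_inv]
          group
        have h1 := mem_subgroupOf.1 ((QuotientGroup.eq_one_iff _).1 e)
        simp only [Subgroup.coe_mul, Subgroup.coe_inv] at h1
        rw [hwx] at h1
        have hxQ : x ∈ Q := by
          have e2 : q⁻¹ * (q * x⁻¹ * x⁻¹) = x := by
            calc q⁻¹ * (q * x⁻¹ * x⁻¹) = x⁻¹ * x⁻¹ * x ^ 3 := by rw [L.ctx.x_cube]; group
              _ = x := by simp only [pow_succ, pow_zero, one_mul]; group
          exact e2 ▸ mul_mem (inv_mem hq) h1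
        obtain ⟨n, hn⟩ := L.two ⟨x, hxQ⟩
        have hd := orderOf_dvd_of_pow_eq_one (congrArg Subtype.val hn : x ^ 2 ^ n = 1)
        rw [L.ctx.hx] at hd
        exact absurd (Nat.prime_three.dvd_of_dvd_pow hd) (by norm_num)
    exact ⟨(QuotientGroup.quotientMulEquivOfEq (by rw [L.pCore_eq])).trans f⟩

end Large

end Cfsg.Agent.Lib.SelfCentSix9
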