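import Cfsg.Agent.Lib.SelfCentSix9.Six.Setup
import Cfsg.Agent.Lib.SelfCentSix9.SylowNorm
import Cfsg.Agent.Lib.Cores.Basic

/-!
# Index six with a good involution: basic facts on `C(z)`

`C(z) = Q ⋊ S₃`, `Q = O₂(C(z))` contains the elementary abelian normal subgroup `U = ⟨z, u, x u x⁻¹⟩`
of order eight.
-/

set_option autoImplicit false

namespace Cfsg.Agent.Lib.SelfCentSix9

open Subgroup

universe u

variable {G : Type u} [Group G]

/-- Conjugation inside a finite subgroup normalises it. -/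
theorem mem_normalizer_of_conj [Finite G] {U : Subgroup G} {g : G}
    (hg : ∀ y ∈ U, g * y * g⁻¹ ∈ U) : g ∈ normalizer (U : Set G) := by
  have : Finite (U : Set G) := Subtype.finite
  exact Subgroup.mem_normalizer_fintype hg

/-- A group of order six with two elements that do not commute is `S₃`. -/
theorem nonempty_perm_three {Y : Type*} [Group Y] [Finite Y] (hY : Nat.card Y = 6) {a b : Y}
    (hab : ¬ Commute a b) : Nonempty (Y ≃* Equiv.Perm (Fin 3)) := by
  classical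
  have : Fact (Nat.Prime 2) := ⟨Nat.prime_two⟩
  have : Fact (Nat.Prime 3) := ⟨Nat.prime_three⟩
  obtain ⟨t, ht⟩ := exists_prime_orderOf_dvd_card' (G := Y) 2 (by rw [hY]; norm_num)
  obtain ⟨c, hc⟩ := exists_prime_orderOf_dvd_card' (G := Y) 3 (by rw [hY]; norm_num)
  set T := zpowers t with hT
  have hcT : Nat.card T = 2 := by rw [hT, Nat.card_zpowers, ht]
  have hidx : T.index = 3 := by
    have := T.card_mul_index
    rw [hcT, hY] at this
    omega
  have hker : T.normalCore = ⊥ := by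
    by_contra hne
    have hle := T.normalCore_le
    have h2 : Nat.card T.normalCore = 2 := by
      rcases (Nat.dvd_prime Nat.prime_two).1 (hcT ▸ card_dvd_of_le hle) with e | e
      · exact absurd (Subgroup.card_eq_one.1 e) hne
      · exact e
    have hTn : T.Normal := Subgroup.eq_of_le_of_card_ge hle (by rw [h2, hcT]) ▸ T.normalCore_normal
    have hmem : ∀ y ∈ T, y = 1 ∨ y = t := by
      intro y hy
      obtain ⟨k, rfl⟩ := mem_zpowers_iff.1 hy
      rw [← zpow_mod_orderOf, ht]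
      rcases Int.emod_two_eq_zero_or_one k with e | e <;> simp [e]
    have hct : Commute c t := by
      rcases hmem _ (hTn.conj_mem t (mem_zpowers t) c) with e | e
      · exact absurd (conj_eq_one_iff.1 e) (fun e' => by simp [e'] at ht)
      · exact mul_inv_eq_iff_eq_mul.1 e
    have hgen : ∀ y : Y, y ∈ zpowers (c * t) := by
      intro y
      have ho : orderOf (c * t) = 6 := by
        rw [hct.orderOf_mul_eq_mul_orderOf_of_coprime (by rw [hc, ht]; norm_num), hc, ht]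
      rw [Subgroup.eq_top_of_card_eq (zpowers (c * t)) (by rw [Nat.card_zpowers, ho, hY])]
      exact mem_top y
    refine hab ?_
    obtain ⟨i, rfl⟩ := mem_zpowers_iff.1 (hgen a)
    obtain ⟨j, rfl⟩ := mem_zpowers_iff.1 (hgen b)
    exact (Commute.refl _).zpow_zpow i j
  let f : Y →* Equiv.Perm (Y ⧸ T) := MulAction.toPermHom Y (Y ⧸ T)
  have hinj : Function.Injective f := by
    rw [← MonoidHom.ker_eq_bot_iff, ← hker, Subgroup.normalCore_eq_ker]
  have e3 : Nat.card (Y ⧸ T) = 3 := hidx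
  let e := (Finite.equivFinOfCardEq e3).permCongrHom
  have hbij : Function.Bijective (e.toMonoidHom.comp f) := by
    rw [Nat.bijective_iff_injective_and_card]
    refine ⟨e.injective.comp hinj, ?_⟩
    rw [hY, Nat.card_eq_fintype_card, Fintype.card_perm, Fintype.card_fin]
    rfl
  exact ⟨MulEquiv.ofBijective _ hbij⟩

/-- An order dividing `2 ^ n * 3` without elements of order three gives a 2-group. -/
theorem isPGroup_two_of_no_three [Finite G] {T : Subgroup G} {n : ℕ}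
    (hT : Nat.card T ∣ 2 ^ n * 3) (h3 : ∀ c ∈ T, orderOf c ≠ 3) : IsPGroup 2 T := by
  have : Fact (Nat.Prime 3) := ⟨Nat.prime_three⟩
  have hn3 : ¬ 3 ∣ Nat.card T := fun hd => by
    obtain ⟨⟨c, hc⟩, ho⟩ := exists_prime_orderOf_dvd_card' 3 hd
    exact h3 c hc (by rw [← Subgroup.orderOf_mk c hc]; exact ho)
  have hd := (Nat.prime_three.coprime_iff_not_dvd.2 hn3).symm.dvd_of_dvd_mul_right hT
  obtain ⟨k, -, hk⟩ := (Nat.dvd_prime_pow Nat.prime_two).1 hd
  exact IsPGroup.of_card hk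

/-- The setting: index six with a good involution. -/
structure Large (z x u : G) (Q : Subgroup G) (S : Sylow 2 G) : Prop where
  ctx : Ctx G z x
  d6 : D6 z x Q ⊥ S
  good : Good z Q u
  goodS : Good z (S : Subgroup G) u

variable [Finite G] {z x u : G} {Q : Subgroup G} {S : Sylow 2 G}

/-- A good involution in index six gives the setting. -/
theorem D6.exists_large {K : Subgroup G} (h : Ctx G z x) (D : D6 z x Q K S)
    (hne : ∃ u, Good z Q u) : ∃ u, Large z x u Q S := by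
  obtain ⟨u, g, gS⟩ := D.exists_good_S h hne
  have hK := D.K_eq_bot h hne
  subst hK
  exact ⟨u, h, D, g, gS⟩

/-- A 2-subgroup of `C(z)` containing `z` and normalised by `x` has order `2` modulo three. -/
theorem Ctx.card_mod (h : Ctx G z x) {P : Subgroup G} (hP : IsPGroup 2 P) (hPz : P ≤ Cen z)
    (hzP : z ∈ P) (hxP : x ∈ normalizer (P : Set G)) : Nat.card P % 3 = 2 := by
  have := card_modEq_fixed h.hx hxP
  rw [h.card_inf_cen_x hP hPz hzP] at this
  exact this

namespace Large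

variable (L : Large z x u Q S)
include L

omit [Finite G] in
theorem two : IsPGroup 2 Q := L.d6.data.two

omit [Finite G] in
theorem Q_le : Q ≤ Cen z := L.d6.data.Q_le

omit [Finite G] in
theorem S_le : (S : Subgroup G) ≤ Cen z := L.d6.S_le

omit [Finite G] in
theorem Q_norm : Cen z ≤ normalizer (Q : Set G) := L.d6.data.Q_norm

omit [Finite G] in
theorem x_norm : x ∈ normalizer (Q : Set G) := L.Q_norm L.ctx.x_mem

omit [Finite G] in
theorem z_mem : z ∈ Q := L.d6.data.z_mem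

omit [Finite G] in
theorem z_mem_S : z ∈ (S : Subgroup G) := L.d6.Q_le_S L.z_mem

omit [Finite G] in
theorem card_H : Nat.card (Cen z) = 6 * Nat.card Q := by
  rw [L.d6.data.card, Subgroup.card_bot, mul_one]

theorem exists_card : ∃ n, Nat.card Q = 2 ^ n ∧ Nat.card (Cen z) = 2 ^ (n + 1) * 3 := by
  obtain ⟨n, hn⟩ := L.two.exists_card_eq
  exact ⟨n, hn, by rw [L.card_H, hn, pow_succ]; ring⟩

theorem card_mod : Nat.card Q % 3 = 2 := L.ctx.card_mod L.two L.Q_le L.z_mem L.x_norm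

omit [Finite G] in
theorem conj_x {v : G} (hv : v ∈ (S : Subgroup G)) (hvQ : v ∉ Q) :
    ∃ q ∈ Q, v * x * v⁻¹ = q * x⁻¹ := by
  obtain ⟨q, hq, k, hk, e⟩ := L.d6.conj_x v hv hvQ
  rw [mem_bot.1 hk, mul_one] at e
  exact ⟨q, hq, e⟩

/-- An odd prime-power element of `C(z)` has prime three. -/
theorem prime_dvd {r : ℕ} (hr : r.Prime) (hd : r ∣ Nat.card (Cen z)) : r = 2 ∨ r = 3 := by
  obtain ⟨n, -, hn⟩ := L.exists_card
  rw [hn] at hd
  rcases hr.dvd_mul.1 hd with e | e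
  · exact Or.inl ((Nat.prime_dvd_prime_iff_eq hr Nat.prime_two).1 (hr.dvd_of_dvd_pow e))
  · exact Or.inr ((Nat.prime_dvd_prime_iff_eq hr Nat.prime_three).1 e)

/-- A subgroup of `C(z)` without elements of order three is a 2-group. -/
theorem two_of_le {T : Subgroup G} (hT : T ≤ Cen z) (h3 : ∀ c ∈ T, orderOf c ≠ 3) : IsPGroup 2 T := by
  obtain ⟨n, -, hn⟩ := L.exists_card
  exact isPGroup_two_of_no_three (hn ▸ card_dvd_of_le hT) h3

omit [Finite G] in
/-- A 2-group of `C(z)` normalised by `x` and by an element of `S ∖ Q` avoids that element. -/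
theorem not_mem_of_normal {T : Subgroup G} (hT : IsPGroup 2 T) (hxT : x ∈ normalizer (T : Set G)) {v : G} (hv : v ∈ (S : Subgroup G)) (hvT : v ∈ T) : v ∈ Q := by
  by_contra hvQ
  obtain ⟨q, hq, e⟩ := L.conj_x hv hvQ
  -- `q x = v (x v⁻¹ x⁻¹) ∈ T`, so `(q x)` is a 2-element
  have e1 : q * x = v * (x * v⁻¹ * x⁻¹) := by
    calc q * x = q * x⁻¹ * x⁻¹ * x ^ 3 := by rw [pow_succ, pow_two]; group
      _ = v * (x * v⁻¹ * x⁻¹) := by rw [L.ctx.x_cube, mul_one, ← e]; group
  have hmem : q * x ∈ T := e1 ▸ mul_mem hvT ((mem_normalizer_iff.1 hxT v⁻¹).1 (inv_mem hvT))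
  -- cubing lands in `Q`, so a power of two of it is trivial modulo `Q`
  have hQn := L.Q_norm
  have key : ∀ i : ℕ, ∃ q' ∈ Q, (q * x) ^ i = q' * x ^ i := by
    intro i
    induction i with
    | zero => exact ⟨1, one_mem _, by simp⟩
    | succ i ih =>
      obtain ⟨q', hq', e'⟩ := ih
      refine ⟨q' * (x ^ i * q * (x ^ i)⁻¹), mul_mem hq' ?_, ?_⟩
      · exact (mem_normalizer_iff.1 (hQn (pow_mem L.ctx.x_mem i)) q).1 hq
      · rw [pow_succ, e', pow_succ x i]; group
  obtain ⟨n, hn⟩ := hT ⟨q * x, hmem⟩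
  have hn' : (q * x) ^ 2 ^ n = 1 := congrArg Subtype.val hn
  obtain ⟨q', hq', e'⟩ := key (2 ^ n)
  rw [hn'] at e'
  have hxQ : x ^ 2 ^ n ∈ Q := by
    rw [show x ^ 2 ^ n = q'⁻¹ * (q' * x ^ 2 ^ n) by group, ← e', mul_one]
    exact inv_mem hq'
  obtain ⟨m, hm⟩ := L.d6.data.two ⟨_, hxQ⟩
  have hm' : x ^ (2 ^ n * 2 ^ m) = 1 := by rw [pow_mul]; exact congrArg Subtype.val hm
  have hd := orderOf_dvd_of_pow_eq_one hm'
  rw [L.ctx.hx, ← pow_add] at hd
  exact absurd (Nat.prime_three.dvd_of_dvd_pow hd) (by norm_num)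

/-- Every 2-subgroup of `C(z)` is conjugate into `S` by an element of `C(z)`. -/
theorem exists_conj_le {T : Subgroup G} (hT : IsPGroup 2 T) (hTz : T ≤ Cen z) :
    ∃ m ∈ Cen z, ∀ t ∈ T, m * t * m⁻¹ ∈ (S : Subgroup G) := by
  have : Fact (Nat.Prime 2) := ⟨Nat.prime_two⟩
  obtain ⟨R, hR⟩ := (hT.of_equiv (subgroupOfEquivOfLe hTz).symm).exists_le_sylow
  obtain ⟨m, hm⟩ := MulAction.exists_smul_eq (Cen z) R (S.subtype L.S_le)
  refine ⟨m, m.2, fun t ht => ?_⟩
  have h1 := Subgroup.smul_mem_pointwise_smul (a := MulAut.conj m) _ _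
    (hR (x := ⟨t, hTz ht⟩) (mem_subgroupOf.2 ht))
  rw [← Sylow.coe_subgroup_smul, hm] at h1
  simpa [mem_subgroupOf] using h1

/-- Commutators inside a 2-subgroup of `C(z)` lie in `Q`. -/
theorem cm_mem {T : Subgroup G} (hT : IsPGroup 2 T) (hTz : T ≤ Cen z) {a b : G} (ha : a ∈ T)
    (hb : b ∈ T) : cm a b ∈ Q := by
  obtain ⟨m, hm, hmS⟩ := L.exists_conj_le hT hTz
  have hidx : (Q.subgroupOf (S : Subgroup G)).index = 2 := L.d6.relIndex
  set a' : (S : Subgroup G) := ⟨_, hmS a ha⟩ with ha'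
  set b' : (S : Subgroup G) := ⟨_, hmS b hb⟩ with hb'
  have hc : a' * b' * a'⁻¹ * b'⁻¹ ∈ Q.subgroupOf (S : Subgroup G) := by
    have hn := normal_of_index_eq_two hidx
    rw [← QuotientGroup.eq_one_iff]
    have : IsMulCommutative ((S : Subgroup G) ⧸ Q.subgroupOf (S : Subgroup G)) := by
      have := isCyclic_of_prime_card (p := 2) (α := (S : Subgroup G) ⧸ Q.subgroupOf (S : Subgroup G)) hidx
        (hp := ⟨Nat.prime_two⟩)
      exact ⟨⟨fun p q => IsCyclic.commGroup.mul_comm p q⟩⟩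
    rw [QuotientGroup.mk_mul, QuotientGroup.mk_mul, QuotientGroup.mk_mul, this.is_comm.comm (a' : _ ⧸ _)]
    simp
  have hc' : cm (m * a * m⁻¹) (m * b * m⁻¹) ∈ Q := mem_subgroupOf.1 hc
  have e : cm (m * a * m⁻¹) (m * b * m⁻¹) = m * cm a b * m⁻¹ := by simp only [cm]; group
  exact (mem_normalizer_iff.1 (L.Q_norm hm) _).2 (e ▸ hc')

/-- A 2-group normalised by `C(z)` inside it lies in `Q`. -/
theorem le_Q_of_normal {T : Subgroup G} (hT : IsPGroup 2 T) (hTz : T ≤ Cen z)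
    (hn : Cen z ≤ normalizer (T : Set G)) : T ≤ Q := by
  intro t ht
  obtain ⟨m, hm, hmS⟩ := L.exists_conj_le hT hTz
  have h1 : m * t * m⁻¹ ∈ T := (mem_normalizer_iff.1 (hn hm) t).1 ht
  exact (mem_normalizer_iff.1 (L.Q_norm hm) t).2 (L.not_mem_of_normal hT
    (hn L.ctx.x_mem) (hmS t ht) h1)

/-- `C(z)` is generated by `S` and `x`. -/
theorem gen : Cen z ≤ (S : Subgroup G) ⊔ zpowers x := by
  set T := (S : Subgroup G) ⊔ zpowers x with hT
  have hle : T ≤ Cen z := sup_le L.S_le (zpowers_le.2 L.ctx.x_mem)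
  have h1 : Nat.card (S : Subgroup G) ∣ Nat.card T := card_dvd_of_le le_sup_left
  have h2 : 3 ∣ Nat.card T := by
    rw [← L.ctx.hx, ← Nat.card_zpowers]
    exact card_dvd_of_le le_sup_right
  obtain ⟨n, hn, hH⟩ := L.exists_card
  rw [L.d6.card_S, hn, ← pow_succ'] at h1
  have h3 := Nat.Coprime.mul_dvd_of_dvd_of_dvd (Nat.Coprime.pow_left (n + 1) (by norm_num)) h1 h2
  rw [← hH] at h3
  exact (Subgroup.eq_of_le_of_card_ge hle (Nat.le_of_dvd Nat.card_pos h3)).ge

omit [Finite G] in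
theorem u1_good : Good z Q (x * u * x⁻¹) := L.ctx.good_conj_x L.x_norm L.good

omit [Finite G] in
theorem u2_good : Good z Q (x * (x * u * x⁻¹) * x⁻¹) := L.ctx.good_conj_x L.x_norm L.u1_good

omit [Finite G] in
theorem x_u2 : x * (x * (x * u * x⁻¹) * x⁻¹) * x⁻¹ = u := by
  calc x * (x * (x * u * x⁻¹) * x⁻¹) * x⁻¹ = x ^ 3 * u * (x ^ 3)⁻¹ := by
        simp only [pow_succ, pow_zero, one_mul]; group
    _ = u := by rw [L.ctx.x_cube]; group

theorem comm_u1 : Commute u (x * u * x⁻¹) := L.ctx.good_commute L.two L.Q_le L.x_norm L.good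

/-- The product of `u` and its two conjugates is in `⟨z⟩`. -/
theorem prod_mem : u * (x * u * x⁻¹) * (x * (x * u * x⁻¹) * x⁻¹) ∈ zpowers z := by
  set u1 := x * u * x⁻¹ with hu1
  set u2 := x * u1 * x⁻¹ with hu2
  have c01 : Commute u u1 := L.comm_u1
  have c20 : Commute u2 u := by
    have := L.ctx.good_commute L.two L.Q_le L.x_norm L.u2_good
    rwa [L.x_u2] at this
  have hfix : x * (u * u1 * u2) * x⁻¹ = u * u1 * u2 := by
    calc x * (u * u1 * u2) * x⁻¹ = (x * u * x⁻¹) * (x * u1 * x⁻¹) * (x * u2 * x⁻¹) := by group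
      _ = u1 * u2 * u := by rw [show x * u2 * x⁻¹ = u from L.x_u2, ← hu1, ← hu2]
      _ = u * u1 * u2 := by rw [(c01.symm.mul_left c20).eq, mul_assoc u u1 u2]
  rcases L.ctx.eq_of_commute_x L.two L.Q_le
    (show u * u1 * u2 ∈ Q from mul_mem (mul_mem L.good.mem L.u1_good.mem) L.u2_good.mem)
    (mul_inv_eq_iff_eq_mul.1 hfix).symm with e | e <;> rw [e]
  · exact one_mem _
  · exact mem_zpowers z

omit [Finite G] in
/-- An element of `S ∖ Q` exchanges `x u x⁻¹` and `x² u x⁻²` modulo `⟨z⟩`. -/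
theorem conj_u1 {s : G} (hs : s ∈ (S : Subgroup G)) (hsQ : s ∉ Q) :
    ∃ w ∈ zpowers z, s * (x * u * x⁻¹) * s⁻¹ = w * (x * (x * u * x⁻¹) * x⁻¹) := by
  set u2 := x * (x * u * x⁻¹) * x⁻¹ with hu2
  obtain ⟨q, hq, e⟩ := L.conj_x hs hsQ
  have hc := L.goodS.cent s hs
  refine ⟨cm s u * cm q u2, mul_mem hc (L.u2_good.cent q hq), ?_⟩
  have hinvx : x⁻¹ * u * x = u2 := by
    calc x⁻¹ * u * x = x⁻¹ * (x * u2 * x⁻¹) * x := by rw [L.x_u2]
      _ = u2 := by group
  have e2 : s * (x * u * x⁻¹) * s⁻¹ =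
      (s * x * s⁻¹) * cm s u * (s * x * s⁻¹)⁻¹ * ((s * x * s⁻¹) * u * (s * x * s⁻¹)⁻¹) := by
    simp only [cm]; group
  rw [e2, L.ctx.conj_zpowers (mul_mem (mul_mem (L.S_le hs) L.ctx.x_mem) (inv_mem (L.S_le hs))) hc, e,
    mul_assoc (cm s u)]
  congr 1
  calc q * x⁻¹ * u * (q * x⁻¹)⁻¹ = q * (x⁻¹ * u * x) * q⁻¹ := by group
    _ = cm q u2 * u2 := by rw [hinvx]; simp only [cm]; group

end Large

end Cfsg.Agent.Lib.SelfCentSix9
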