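import Cfsg.Agent.Lib.SelfCentSix9.Six.LargeAmalgam

/-!
# `Ω₁(Z(S)) ≠ ⟨z⟩` is impossible
-/

set_option autoImplicit false

namespace Cfsg.Agent.Lib.SelfCentSix9

open Subgroup

universe u

variable {G : Type u} [Group G] [Finite G] {z x u : G} {Q : Subgroup G} {S : Sylow 2 G}

namespace Large

variable (L : Large z x u Q S)
include L

theorem zOne_le_Q {v : G} (hv : v ∈ zOne (S : Subgroup G)) : v ∈ Q :=
  L.centralizer_le (L.S_le hv.1) fun q hq => (show Commute q v from hv.2.1 q (L.d6.Q_le_S hq)).symm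

omit [Finite G] in
theorem z_zOne : z ∈ zOne (S : Subgroup G) :=
  ⟨L.z_mem_S, fun _ hs => (mem_cen.1 (L.S_le hs)).eq, L.ctx.z_sq⟩

/-- No nontrivial subgroup of `S` is normal in `C(z)` and in a second conjugate through `S`. -/
theorem no_common {v : G} (hv : v ∈ zOne (S : Subgroup G)) (hv1 : v ≠ 1) (hvz : v ≠ z)
    {N : Subgroup G} (hN : N ≠ ⊥) (hNS : N ≤ (S : Subgroup G)) (hn : Cen z ≤ normalizer (N : Set G))
    (hne : ¬ normalizer (N : Set G) ≤ Cen z) : False := by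
  classical
  have hNQ : N ≤ Q := L.le_Q_of_normal (S.isPGroup'.to_le hNS) (hNS.trans L.S_le) hn
  obtain ⟨h32, D, -, hDQ, h8, hzD, hDn, hcD⟩ := L.local_eight hN hNQ hn hne
  set W := zOne (S : Subgroup G) with hW
  have hWD : W ≤ D := fun w hw => hcD w (hn (L.S_le hw.1))
    fun d hd => (show Commute d w from hw.2.1 d (L.d6.Q_le_S (hDQ hd))).symm
  have hW4 : 4 ≤ Nat.card W := by
    have hle : Nat.card W ∣ 2 ^ 3 := (card_dvd_of_le hWD).trans (dvd_of_eq (h8.trans (by norm_num)))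
    obtain ⟨k, hk, he⟩ := (Nat.dvd_prime_pow Nat.prime_two).1 hle
    have h3 : 3 ≤ Nat.card W := by
      have hs : ({1, z, v} : Set G) ⊆ W := by
        rintro y (rfl | rfl | rfl)
        exacts [one_mem _, L.z_zOne, hv]
      have h1 := Set.ncard_le_ncard hs (Set.toFinite _)
      rwa [Set.ncard_eq_three.2 ⟨1, z, v, L.ctx.z_ne.symm, hv1.symm, hvz.symm, rfl⟩,
        ← Nat.card_coe_set_eq] at h1
    rcases k with _ | _ | k
    · rw [he] at h3; norm_num at h3
    · rw [he] at h3; norm_num at h3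
    · rw [he]; exact Nat.pow_le_pow_right (by norm_num : 0 < 2) (by omega : 2 ≤ k + 1 + 1)
  have hWabS : ∀ s ∈ (S : Subgroup G), ∀ w ∈ W, Commute s w := fun s hs w hw => hw.2.1 s hs
  have hcS : ∀ s ∈ (S : Subgroup G), (∀ d ∈ D, Commute s d) → s ∈ D := fun s hs hc =>
    hcD s (hn (L.S_le hs)) hc
  have hSD : ∀ s ∈ (S : Subgroup G), ∀ d ∈ D, s * d * s⁻¹ ∈ D := fun s hs d hd =>
    (mem_normalizer_iff.1 (hDn (hn (L.S_le hs))) d).1 hd
  have hS64 : Nat.card (S : Subgroup G) = 64 := by rw [L.d6.card_S, h32]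
  have hDS : D ≤ (S : Subgroup G) := hDQ.trans L.d6.Q_le_S
  obtain ⟨d, hd, hdW⟩ : ∃ d ∈ D, d ∉ W := by
    by_contra hall
    push Not at hall
    have hle := card_le_of_le (show (S : Subgroup G) ≤ D from fun s hs =>
      hcS s hs fun d hd => hWabS s hs d (hall d hd))
    omega
  -- an element of `S` fixing `d` centralises `D`
  have hstab : ∀ s ∈ (S : Subgroup G), Commute s d → s ∈ D := by
    intro s hs hsd
    refine hcS s hs fun e he => ?_
    have hle : W ⊔ zpowers d ≤ Cen s :=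
      sup_le (fun w hw => mem_cen.2 (hWabS s hs w hw).symm) (zpowers_le.2 (mem_cen.2 hsd.symm))
    have hsub : W ⊔ zpowers d ≤ D := sup_le hWD (zpowers_le.2 hd)
    have hlt : Nat.card W < Nat.card (W ⊔ zpowers d : Subgroup G) := by
      refine lt_of_le_of_ne (card_le_of_le le_sup_left) fun e' => hdW ?_
      exact (Subgroup.eq_of_le_of_card_ge le_sup_left e'.ge).symm ▸
        (mem_sup_right (mem_zpowers d) : d ∈ W ⊔ zpowers d)
    have hdvd : Nat.card (W ⊔ zpowers d : Subgroup G) ∣ 8 := h8 ▸ card_dvd_of_le hsub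
    have hle8 := Nat.le_of_dvd (by norm_num) hdvd
    have heq : Nat.card (W ⊔ zpowers d : Subgroup G) = 8 := by
      interval_cases h : Nat.card (W ⊔ zpowers d : Subgroup G) <;> omega
    exact (mem_cen.1 (hle ((Subgroup.eq_of_le_of_card_ge hsub (by rw [h8, heq])).ge he))).symm
  have hmaps : Inv59.EightAuto.orb (S : Subgroup G) d ⊆ (D : Set G) \ (W : Set G) := by
    rintro _ ⟨s, hs, rfl⟩
    refine ⟨hSD s hs d hd, fun hm => hdW ?_⟩
    have h1 : s⁻¹ * (s * d * s⁻¹) * s = s * d * s⁻¹ := by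
      rw [(hWabS s⁻¹ (inv_mem hs) _ hm).eq, inv_mul_cancel_right]
    have h2 : d = s * d * s⁻¹ := by
      rw [show s⁻¹ * (s * d * s⁻¹) * s = d by group] at h1
      exact h1
    exact h2 ▸ hm
  have hr4 : (Cen d).relIndex (S : Subgroup G) ≤ 4 := by
    have h1 := Set.ncard_le_ncard hmaps (Set.toFinite _)
    rw [Inv59.EightAuto.ncard_orb, Set.ncard_sdiff (show (W : Set G) ⊆ D from hWD) (Set.toFinite _),
      ← Nat.card_coe_set_eq, ← Nat.card_coe_set_eq] at h1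
    change (Cen d).relIndex (S : Subgroup G) ≤ Nat.card D - Nat.card W at h1
    omega
  have hi : Nat.card (Cen d ⊓ (S : Subgroup G) : Subgroup G) ≤ 8 :=
    h8 ▸ card_le_of_le fun s hs => hstab s hs.2 (mem_cen.1 hs.1)
  have e := card_relIndex (inf_le_right : Cen d ⊓ (S : Subgroup G) ≤ S)
  rw [inf_relIndex_right, hS64] at e
  nlinarith

/-- `S` is of order `2 |Q|` with the two cosets `Q` and `Q w`. -/
theorem cases_S {w : G} (hw : w ∈ (S : Subgroup G)) (hwQ : w ∉ Q) {a : G} (ha : a ∈ (S : Subgroup G)) :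
    a ∈ Q ∨ ∃ p ∈ Q, a = p * w := by
  by_cases haQ : a ∈ Q
  · exact Or.inl haQ
  · refine Or.inr ⟨a * w⁻¹, L.d6.mul_mem_Q ha (inv_mem hw) haQ (fun h => hwQ (inv_inv w ▸ inv_mem h)), ?_⟩
    rw [inv_mul_cancel_right]

/-- `Ω₁(Z(S)) = ⟨z⟩`. -/
theorem zOne_small {v : G} (hv : v ∈ zOne (S : Subgroup G)) : v = 1 ∨ v = z := by
  classical
  by_contra hc
  obtain ⟨hv1, hvz⟩ := not_or.1 hc
  have : Fact (Nat.Prime 2) := ⟨Nat.prime_two⟩
  have hcenS : ∀ {c : G}, c ∈ zOne (S : Subgroup G) → c ∈ centralizer ((S : Subgroup G) : Set G) :=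
    fun hc => mem_centralizer_iff.2 hc.2.1
  have hburn : ∀ {c : G}, c ∈ zOne (S : Subgroup G) → c ≠ 1 →
      ∃ n ∈ normalizer ((S : Subgroup G) : Set G), n * c * n⁻¹ = z := by
    intro c hc hc1
    obtain ⟨g, hg⟩ := L.ctx.exists_conj (orderOf_eq_prime (by rw [pow_two]; exact hc.2.2) hc1)
    obtain ⟨n, hn, e⟩ := S.conj_eq_normalizer_conj_of_mem_centralizer c g⁻¹ (hcenS hc)
      (by rw [inv_inv, hg]; exact hcenS L.z_zOne)
    rw [inv_inv, hg] at e
    exact ⟨n⁻¹, inv_mem hn, by rw [inv_inv]; exact e.symm⟩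
  obtain ⟨y, hy, hyv⟩ := hburn hv hv1
  set z' := y * z * y⁻¹ with hz'
  have hz'm : z' ∈ zOne (S : Subgroup G) := zOne_conj hy L.z_zOne
  have hz'ne : z' ≠ z := fun e => hvz (mul_left_cancel (mul_right_cancel (hyv.trans e.symm)))
  have hz'1 : z' ≠ 1 := fun e => L.ctx.z_ne (conj_eq_one_iff.1 e)
  have hmap : (Cen z).map (MulAut.conj y).toMonoidHom = Cen z' := cen_map y z
  have hSz' : (S : Subgroup G) ≤ Cen z' := fun s hs => mem_cen.2 (hz'm.2.1 s hs)
  have hinf : Cen z ⊓ Cen z' = (S : Subgroup G) := by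
    refine le_antisymm ?_ (le_inf L.S_le hSz')
    set T := Cen z ⊓ Cen z' with hT
    have h3 : ∀ c ∈ T, orderOf c ≠ 3 := fun c hc ho => L.ctx.not_commute_two ho L.ctx.z_sq hz'm.2.2
      (mem_cen.1 (L.Q_le (L.zOne_le_Q hz'm))).symm L.ctx.z_ne hz'1 hz'ne.symm
      (mem_cen.1 hc.1) (mem_cen.1 hc.2)
    exact (S.3 (L.two_of_le inf_le_left h3) (le_inf L.S_le hSz')).le
  have hloc2 : SThreeLocal (Cen z') := hmap ▸ L.sThreeLocal.map y
  have hsyl : ∀ w, (S : Subgroup G) ≤ Cen w →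
      ∃ R : Sylow 2 (Cen w), (R : Subgroup (Cen w)) = (Cen z ⊓ Cen z').subgroupOf (Cen w) := by
    intro w hw
    exact ⟨S.subtype hw, by rw [hinf]; rfl⟩
  have hxz' : ¬ Commute x z' := fun hc => (L.ctx.eq_of_commute_x L.two L.Q_le (L.zOne_le_Q hz'm) hc.symm).elim
    hz'1 hz'ne
  have hcard := card_of_amalgam (Cen z) (Cen z') L.sThreeLocal hloc2 (hsyl z L.S_le) (hsyl z' hSz')
    (fun N hN hn hn' => by
      by_contra hN1
      refine L.no_common hv hv1 hvz hN1 (hinf ▸ hN) hn fun hle => hxz' ?_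
      have hcc : Nat.card (Cen z') = Nat.card (Cen z) := by
        rw [← hmap, card_map_of_injective (MulAut.conj y).injective]
      have heq : Cen z' = Cen z := Subgroup.eq_of_le_of_card_ge (hn'.trans hle) hcc.ge
      exact mem_cen.1 (heq.ge L.ctx.x_mem))
    (by
      rintro P (rfl | rfl)
      · refine ⟨z', hinf.ge hz'm.1, hz'm.2.2, fun t ht => hz'm.2.1 t (hinf.le ht), x, L.ctx.x_mem, hxz'⟩
      · set w := y * z' * y⁻¹ with hw
        have hwm : w ∈ zOne (S : Subgroup G) := zOne_conj hy hz'm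
        refine ⟨w, hinf.ge hwm.1, hwm.2.2, fun t ht => hwm.2.1 t (hinf.le ht), y * x * y⁻¹,
          hmap.le (mem_map_of_mem _ L.ctx.x_mem), fun hc => hxz' ?_⟩
        have := hc.map (MulAut.conj y⁻¹)
        simp only [MulAut.conj_apply, inv_inv, hw] at this
        rwa [show y⁻¹ * (y * x * y⁻¹) * y = x by group, show y⁻¹ * (y * z' * y⁻¹) * y = z' by group] at this)
  have hQ : Nat.card Q = 8 := by
    have := L.eight_le
    rw [L.card_H] at hcard
    omega
  -- now `Q = U` and `u` is central in `S`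
  have hQU := L.eq_U hQ
  obtain ⟨w, hw, hwQ⟩ := L.d6.exists_out
  have hzl : zpowers z ≤ uSub z x u := zpowers_le.2 z_mem_three
  have hwu : Commute w u := by
    rcases (mem_sup_invol L.u1_good.sq
      (L.ctx.pair_commute L.good.sq L.uz L.u1z L.comm_u1)).1 (hQU ▸ L.zOne_le_Q hv : v ∈ uSub z x u) with hv' | hv'
    · have e : u = v * u * (v * (1 : G)) := by
        rw [mul_one, mul_assoc, (comm_of_sq (fun _ h => L.U_sq h) a_mem_three
          ((L.zOne_le_Q hv |> fun h => (hQU ▸ h : v ∈ uSub z x u)))).eq, ← mul_assoc, hv.2.2, one_mul]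
      rcases (L.ctx.mem_pair L.good.sq L.uz).1 hv' with e1 | e1 | e1 | e1
      · exact absurd e1 hv1
      · exact absurd e1 hvz
      · rw [e, mul_one, e1, one_mul]
        exact hv.2.1 w hw
      · rw [e, mul_one, e1]
        exact (mem_cen.1 (L.S_le hw)).mul_right (hv.2.1 w hw)
    · exfalso
      set u1 := x * u * x⁻¹ with hu1
      obtain ⟨c, hc, e⟩ := L.conj_u1 hw hwQ
      have h1 : w * (v * u1) * w⁻¹ = v * (c * (x * u1 * x⁻¹)) := by
        rw [← e]
        calc w * (v * u1) * w⁻¹ = (w * v) * u1 * w⁻¹ := by group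
          _ = v * (w * u1 * w⁻¹) := by rw [hv.2.1 w hw]; group
      have h2 : cm w (v * u1) ∈ zpowers z := by
        have hcm : ∀ t ∈ zpowers z ⊔ zpowers u, cm w t ∈ zpowers z := by
          intro t ht
          let T : Subgroup G :=
            { carrier := {p | p ∈ (S : Subgroup G) ∧ cm w p ∈ zpowers z}
              one_mem' := ⟨one_mem _, by simp [cm]⟩
              mul_mem' := fun {a b} ha hb => ⟨mul_mem ha.1 hb.1, by
                rw [L.ctx.cm_mul_right L.S_le hw ha.1 hb.2]; exact mul_mem ha.2 hb.2⟩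
              inv_mem' := fun {a} ha => ⟨inv_mem ha.1, by
                rw [show cm w a⁻¹ = a⁻¹ * (cm w a)⁻¹ * a⁻¹⁻¹ by simp only [cm]; group,
                  L.ctx.conj_zpowers (inv_mem (L.S_le ha.1)) (inv_mem ha.2)]
                exact inv_mem ha.2⟩ }
          exact ((sup_le (zpowers_le.2 ⟨L.z_mem_S, by
            rw [cm_eq_one_iff.2 (mem_cen.1 (L.S_le hw))]; exact one_mem _⟩)
            (zpowers_le.2 ⟨L.goodS.mem, L.goodS.cent w hw⟩) : zpowers z ⊔ zpowers u ≤ T) ht).2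
        exact hcm _ hv'
      have h3 : cm w (v * u1) = c * ((x * u1 * x⁻¹) * u1⁻¹) := by
        show w * (v * u1) * w⁻¹ * (v * u1)⁻¹ = _
        have hvc : Commute v (c * ((x * u1 * x⁻¹) * u1⁻¹)) :=
          comm_of_sq (fun _ h => L.U_sq h) (hQU ▸ L.zOne_le_Q hv)
            (mul_mem (hzl hc) (mul_mem L.u2_mem (inv_mem b_mem_three)))
        rw [h1, show v * (c * (x * u1 * x⁻¹)) * (v * u1)⁻¹ = v * (c * (x * u1 * x⁻¹ * u1⁻¹)) * v⁻¹ by group,
          hvc.eq, mul_inv_cancel_right]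
      rw [h3] at h2
      refine L.ctx.good_x_ne L.two L.Q_le L.u1_good ?_
      rw [show x * u1 * x⁻¹ * u1 = c⁻¹ * (c * (x * u1 * x⁻¹ * u1⁻¹)) by
        rw [inv_mul_cancel_left, show u1⁻¹ = u1 from L.u1_good.inv_self]]
      exact mul_mem (inv_mem hc) h2
  set u1 := x * u * x⁻¹ with hu1
  set c0 := cm w u1 with hc0
  have hQc : ∀ {p q : G}, p ∈ Q → q ∈ Q → Commute p q := fun hp hq =>
    comm_of_sq (fun _ h => L.U_sq h) (hQU ▸ hp) (hQU ▸ hq)
  obtain ⟨c, hc, e⟩ := L.conj_u1 hw hwQ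
  have hc0e : c0 = c * (u * u1 * (x * u1 * x⁻¹)) * u := by
    have hu2Q : x * u1 * x⁻¹ ∈ Q := L.u2_good.mem
    have e' : w * u1 * w⁻¹ = c * (x * u1 * x⁻¹) := e
    have hi : u1⁻¹ = u1 := L.u1_good.inv_self
    have h1 := hQc L.good.mem (mul_mem (show u1 ∈ Q from L.u1_good.mem) hu2Q)
    have h2 := hQc hu2Q (show u1 ∈ Q from L.u1_good.mem)
    calc c0 = c * (x * u1 * x⁻¹ * u1) := by
          rw [hc0, show cm w u1 = w * u1 * w⁻¹ * u1⁻¹ from rfl, e', hi, mul_assoc]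
      _ = c * ((u1 * (x * u1 * x⁻¹)) * (u * u)) := by rw [L.good.sq, mul_one, h2.eq]
      _ = c * (u * (u1 * (x * u1 * x⁻¹)) * u) := by rw [h1.eq, mul_assoc (u1 * (x * u1 * x⁻¹))]
      _ = c * (u * u1 * (x * u1 * x⁻¹)) * u := by simp only [mul_assoc]
  have hc0z : c0 ∈ uSub z x u ∧ c0 * u ∈ zpowers z := by
    refine ⟨hc0e ▸ mul_mem (mul_mem (hzl hc) (hzl L.prod_mem)) a_mem_three, ?_⟩
    rw [hc0e, mul_assoc, L.good.sq, mul_one]
    exact mul_mem hc L.prod_mem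
  have hc0S : c0 ∈ zOne (S : Subgroup G) := by
    refine ⟨L.d6.Q_le_S (L.U_le hc0z.1), fun s hs => ?_, L.U_sq hc0z.1⟩
    have hsu : Commute s u := by
      rcases L.cases_S hw hwQ hs with hsQ | ⟨p, hp, rfl⟩
      · exact hQc hsQ L.good.mem
      · exact (hQc hp L.good.mem).mul_left hwu
    have := (L.ctx.comm_of_mem (L.S_le hs) hc0z.2).mul_right hsu
    rwa [mul_assoc, L.good.sq, mul_one] at this
  have hc01 : c0 ≠ 1 := fun e' => L.ctx.good_not_mem L.good (by simpa [e'] using hc0z.2)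
  have hc0ne : c0 ≠ z := fun e' => by
    have := hc0z.2
    rw [e'] at this
    exact L.ctx.good_not_mem L.good
      ((Subgroup.mul_mem_cancel_left _ (mem_zpowers z)).1 this)
  obtain ⟨n, hn, hnc⟩ := hburn hc0S hc01
  -- commutators of `S` lie in `⟨c₀⟩`
  have hcent : ∀ p ∈ (S : Subgroup G), ∀ t ∈ zpowers c0, p * t * p⁻¹ = t := by
    intro p hp t ht
    obtain ⟨k, rfl⟩ := mem_zpowers_iff.1 ht
    exact mul_inv_eq_iff_eq_mul.2 ((show Commute p c0 from hc0S.2.1 p hp).zpow_right k).eq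
  have hwp : ∀ p ∈ Q, cm w p ∈ zpowers c0 := by
    intro p hp
    let T : Subgroup G :=
      { carrier := {p | p ∈ (S : Subgroup G) ∧ cm w p ∈ zpowers c0}
        one_mem' := ⟨one_mem _, by simp [cm]⟩
        mul_mem' := fun {a b} ha hb => ⟨mul_mem ha.1 hb.1, by
          rw [show cm w (a * b) = cm w a * (a * cm w b * a⁻¹) by simp only [cm]; group, hcent a ha.1 _ hb.2]
          exact mul_mem ha.2 hb.2⟩
        inv_mem' := fun {a} ha => ⟨inv_mem ha.1, by
          rw [show cm w a⁻¹ = a⁻¹ * (cm w a)⁻¹ * a⁻¹⁻¹ by simp only [cm]; group,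
            hcent _ (inv_mem ha.1) _ (inv_mem ha.2)]
          exact inv_mem ha.2⟩ }
    exact (threeSub_le (T := T) ⟨L.z_mem_S, by
        rw [cm_eq_one_iff.2 (mem_cen.1 (L.S_le hw))]; exact one_mem _⟩
      ⟨L.goodS.mem, by rw [cm_eq_one_iff.2 hwu]; exact one_mem _⟩
      ⟨L.d6.Q_le_S L.u1_good.mem, mem_zpowers c0⟩ (hQU ▸ hp : p ∈ uSub z x u)).2
  have hall : ∀ a ∈ (S : Subgroup G), ∀ b ∈ (S : Subgroup G), cm a b ∈ zpowers c0 := by
    have hpw : ∀ p ∈ Q, ∀ q ∈ Q, cm (p * w) q ∈ zpowers c0 := by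
      intro p hp q hq
      rw [show cm (p * w) q = p * cm w q * p⁻¹ * cm p q by simp only [cm]; group,
        hcent p (L.d6.Q_le_S hp) _ (hwp q hq), cm_eq_one_iff.2 (hQc hp hq), mul_one]
      exact hwp q hq
    intro a ha b hb
    rcases L.cases_S hw hwQ ha with ha' | ⟨p, hp, rfl⟩ <;> rcases L.cases_S hw hwQ hb with hb' | ⟨q, hq, rfl⟩
    · rw [cm_eq_one_iff.2 (hQc ha' hb')]; exact one_mem _
    · rw [show cm a (q * w) = (cm (q * w) a)⁻¹ by simp only [cm]; group]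
      exact inv_mem (hpw q hq a ha')
    · exact hpw p hp b hb'
    · rw [show cm (p * w) (q * w) = p * cm w (q * p⁻¹) * p⁻¹ * cm p q by simp only [cm]; group,
        hcent p (L.d6.Q_le_S hp) _ (hwp _ (mul_mem hq (inv_mem hp))), cm_eq_one_iff.2 (hQc hp hq), mul_one]
      exact hwp _ (mul_mem hq (inv_mem hp))
  have hmem : n * c0 * n⁻¹ ∈ zpowers c0 := by
    rw [show n * c0 * n⁻¹ = cm (n * w * n⁻¹) (n * u1 * n⁻¹) by rw [hc0]; simp only [cm]; group]
    exact hall _ ((mem_normalizer_iff.1 hn w).1 hw) _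
      ((mem_normalizer_iff.1 hn u1).1 (L.d6.Q_le_S L.u1_good.mem))
  rw [hnc] at hmem
  obtain ⟨k, hk⟩ := mem_zpowers_iff.1 hmem
  rw [← zpow_mod_orderOf, orderOf_eq_prime (by rw [pow_two]; exact hc0S.2.2) hc01] at hk
  rcases Int.emod_two_eq_zero_or_one k with e1 | e1
  · rw [show ((2 : ℕ) : ℤ) = 2 from rfl, e1, zpow_zero] at hk
    exact L.ctx.z_ne hk.symm
  · rw [show ((2 : ℕ) : ℤ) = 2 from rfl, e1, zpow_one] at hk
    exact hc0ne hk

end Large

end Cfsg.Agent.Lib.SelfCentSix9
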