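import Cfsg.Agent.Lib.SelfCentSix9.Six.LargeElem
import Cfsg.Agent.Lib.Inv59.EightAuto

/-!
# A good involution in index six is impossible

`N(A)` would be transitive on the fifteen involutions of `A`, so of order `960`, and an element of order
five of it would commute modulo `A` with an element of `S ∖ A`.
-/

set_option autoImplicit false

namespace Cfsg.Agent.Lib.SelfCentSix9

open Subgroup
open Cfsg.Agent.Lib.Inv59.EightAuto (orb ncard_orb)

universe u

variable {G : Type u} [Group G] [Finite G] {z x u : G} {Q : Subgroup G} {S : Sylow 2 G}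

/-- An element of order five fixed-point-free on a 2-group fixes `1` modulo five. -/
theorem card_mod_five {p : G} (hp : orderOf p = 5) {F : Subgroup G} (hpF : p ∈ normalizer (F : Set G))
    (hfree : ∀ f ∈ F, Commute p f → f = 1) : Nat.card F % 5 = 1 := by
  classical
  have : Fact (Nat.Prime 5) := ⟨by norm_num⟩
  let _ : MulAction (zpowers p) F :=
    MulAction.compHom F ((F.normalizerMonoidHom).comp (Subgroup.inclusion (zpowers_le.2 hpF)))
  have hP : IsPGroup 5 (zpowers p) :=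
    IsPGroup.of_card (n := 1) (by rw [Nat.card_zpowers, hp, pow_one])
  have h := hP.card_modEq_card_fixedPoints F
  have e : Nat.card (MulAction.fixedPoints (zpowers p) F) = 1 := by
    rw [Nat.card_eq_one_iff_unique]
    refine ⟨⟨fun a b => ?_⟩, ⟨⟨1, fun g => ?_⟩⟩⟩
    · have key : ∀ t : MulAction.fixedPoints (zpowers p) F, ((t.1 : F) : G) = 1 := fun t => by
        have h1 : p * ((t.1 : F) : G) * p⁻¹ = ((t.1 : F) : G) :=
          congrArg Subtype.val (t.2 ⟨p, mem_zpowers p⟩)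
        exact hfree _ t.1.2 (mul_inv_eq_iff_eq_mul.1 h1)
      exact Subtype.ext (Subtype.ext ((key a).trans (key b).symm))
    · exact Subtype.ext (show (g : G) * ((1 : F) : G) * (g : G)⁻¹ = ((1 : F) : G) by simp)
  rw [e] at h
  exact h

namespace Large

variable (L : Large z x u Q S)
include L

/-- A good involution in index six is impossible. -/
theorem false : False := by
  classical
  have h2p : Fact (Nat.Prime 2) := ⟨Nat.prime_two⟩
  have h5p : Fact (Nat.Prime 5) := ⟨by norm_num⟩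
  obtain ⟨e, A, gS, hA, hAc, hAsq, hzA, huA, heA, a1, ha1, ha1Q⟩ := L.exists_A
  have hAab : ∀ a ∈ A, ∀ b ∈ A, Commute a b := fun a ha b hb => comm_of_sq hAsq ha hb
  have hAS : A ≤ (S : Subgroup G) := fun a ha => (hA.le ha).1.1
  set N := normalizer (A : Set G) with hN
  -- `S` normalises `A`
  have hSA : (S : Subgroup G) ≤ N := fun s hs => mem_normalizer_of_conj fun a ha => by
    obtain ⟨⟨haS, hau⟩, hae⟩ := hA.le ha
    refine hA.ge ⟨⟨(mul_mem (mul_mem hs haS) (inv_mem hs) : s * a * s⁻¹ ∈ (S : Subgroup G)), mem_cen.2 ?_⟩, mem_cen.2 ?_⟩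
    · have hm := L.goodS.cent s⁻¹ (inv_mem hs)
      have hc : Commute a (s⁻¹ * u * s) := by
        rw [show s⁻¹ * u * s = cm s⁻¹ u * u by simp only [cm]; group]
        exact (L.ctx.comm_of_mem (L.S_le haS) hm).mul_right (mem_cen.1 hau)
      have := hc.map (MulAut.conj s)
      simp only [MulAut.conj_apply] at this
      rwa [show s * (s⁻¹ * u * s) * s⁻¹ = u by group] at this
    · have hm := gS.cent s⁻¹ (inv_mem hs)
      have hc : Commute a (s⁻¹ * e * s) := by
        rw [show s⁻¹ * e * s = cm s⁻¹ e * e by simp only [cm]; group]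
        exact (L.ctx.comm_of_mem (L.S_le haS) hm).mul_right (mem_cen.1 hae)
      have := hc.map (MulAut.conj s)
      simp only [MulAut.conj_apply] at this
      rwa [show s * (s⁻¹ * e * s) * s⁻¹ = e by group] at this
  -- `C(A) = A`
  have hCA : ∀ y : G, (∀ a ∈ A, Commute y a) → y ∈ A := by
    intro y hy
    have hD := L.cen_pair (hy z hzA) (hy u huA)
    exact hA.ge ⟨hD, mem_cen.2 (hy e heA)⟩
  have hfixz : ∀ a ∈ A, (∀ s ∈ (S : Subgroup G), Commute s a) → a = 1 ∨ a = z := fun a ha hc =>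
    L.zOne_small ⟨hAS ha, fun s hs => (hc s hs).eq, hAsq a ha⟩
  -- the stabiliser of each involution of `A` contains a Sylow 2-subgroup
  have hstab : ∀ a ∈ A, a ≠ 1 → ∃ g : G, g * a * g⁻¹ = z ∧
      ∀ s ∈ (S : Subgroup G), g⁻¹ * s * g ∈ N := by
    intro a ha ha1'
    obtain ⟨g₀, hg₀⟩ := L.ctx.exists_conj (orderOf_eq_prime (by rw [pow_two]; exact hAsq a ha) ha1')
    set B₀ := A.map (MulAut.conj g₀).toMonoidHom with hB₀
    have hB₀z : B₀ ≤ Cen z := by
      rintro _ ⟨y, hy, rfl⟩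
      have := (hAab y hy a ha).map (MulAut.conj g₀)
      simp only [MulAut.conj_apply] at this
      rw [hg₀] at this
      exact mem_cen.2 (by simpa using this)
    obtain ⟨m, hm, hmS⟩ := L.exists_conj_le ((S.isPGroup'.to_le hAS).map _) hB₀z
    set g := m * g₀ with hgdef
    have hga : g * a * g⁻¹ = z := by
      rw [hgdef, show m * g₀ * a * (m * g₀)⁻¹ = m * (g₀ * a * g₀⁻¹) * m⁻¹ by group, hg₀,
        L.ctx.conj_zpowers hm (mem_zpowers z)]
    set B := A.map (MulAut.conj g).toMonoidHom with hB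
    have hBS : B ≤ (S : Subgroup G) := by
      rintro _ ⟨y, hy, rfl⟩
      have := hmS (g₀ * y * g₀⁻¹) ⟨y, hy, rfl⟩
      show g * y * g⁻¹ ∈ (S : Subgroup G)
      rwa [hgdef, show m * g₀ * y * (m * g₀)⁻¹ = m * (g₀ * y * g₀⁻¹) * m⁻¹ by group]
    have hBc : Nat.card B = 16 := by rw [hB, card_map_of_injective (MulAut.conj g).injective, hAc]
    have hBab : ∀ p ∈ B, ∀ q ∈ B, Commute p q := by
      rintro _ ⟨p, hp, rfl⟩ _ ⟨q, hq, rfl⟩
      exact (hAab p hp q hq).map (MulAut.conj g)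
    have hzB : z ∈ B := ⟨a, ha, hga⟩
    obtain ⟨b₀, hb₀, hb₀Q⟩ : ∃ b ∈ B, b ∉ Q := SetLike.not_le_iff_exists.1 fun hle => by
      have := L.card_abelian hle hBab
      omega
    set M := B ⊓ Q with hM
    have hMc : Nat.card M = 8 := by
      have h2 : (M.subgroupOf B).index = 2 := by
        rw [index_eq_two_iff]
        refine ⟨⟨b₀, hb₀⟩, fun b => ?_⟩
        simp only [mem_subgroupOf, Subgroup.coe_mul, hM, mem_inf, mul_mem b.2 hb₀, b.2, true_and]
        by_cases hb : (b : G) ∈ Q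
        · exact Or.inr ⟨hb, fun h => hb₀Q ((mul_mem_cancel_left hb).1 h)⟩
        · exact Or.inl ⟨L.d6.mul_mem_Q (hBS b.2) (hBS hb₀) hb hb₀Q, hb⟩
      have e' := card_relIndex (inf_le_left : M ≤ B)
      rw [show M.relIndex B = 2 from h2, hBc] at e'
      have e'' : Nat.card M * 2 = 16 := e'
      omega
    have hMab : ∀ p ∈ M, ∀ q ∈ M, Commute p q := fun p hp q hq => hBab p hp.1 q hq.1
    -- `C_S(M) = B`
    have hCM : ∀ c ∈ (S : Subgroup G), (∀ p ∈ M, Commute c p) → c ∈ B := by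
      intro c hc hcc
      by_cases hcQ : c ∈ Q
      · exact (L.mem_of_commute inf_le_right hMc hMab hcQ hcc).1
      · have h1 := L.mem_of_commute inf_le_right hMc hMab (L.d6.mul_mem_Q hc (hBS hb₀) hcQ hb₀Q)
          fun p hp => (hcc p hp).mul_left (hBab b₀ hb₀ p hp.1)
        exact (mul_mem_cancel_right hb₀).1 h1.1
    -- `S` normalises `M` modulo `⟨z⟩`
    have hsM : ∀ s ∈ (S : Subgroup G), ∀ p ∈ M, s⁻¹ * p * s ∈ B := by
      intro s hs p hp
      have hq : ∀ q ∈ Q, q⁻¹ * p * q ∈ B := by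
        intro q hq
        rw [show q⁻¹ * p * q = cm q⁻¹ p * p by simp only [cm]; group]
        exact mul_mem ((zpowers_le.2 hzB) (L.cm_mem_z (inv_mem hq) hp.2)) hp.1
      rcases L.cases_S (hBS hb₀) hb₀Q hs with hsQ | ⟨q, hq', rfl⟩
      · exact hq s hsQ
      · rw [show (q * b₀)⁻¹ * p * (q * b₀) = b₀⁻¹ * (q⁻¹ * p * q) * b₀ by group]
        exact mul_mem (mul_mem (inv_mem hb₀) (hq q hq')) hb₀
    have hSB : ∀ s ∈ (S : Subgroup G), ∀ y ∈ B, s * y * s⁻¹ ∈ B := by
      intro s hs y hy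
      refine hCM _ (mul_mem (mul_mem hs (hBS hy)) (inv_mem hs)) fun p hp => ?_
      have := (hBab y hy _ (hsM s hs p hp)).map (MulAut.conj s)
      simp only [MulAut.conj_apply] at this
      rwa [show s * (s⁻¹ * p * s) * s⁻¹ = p by group] at this
    refine ⟨g, hga, fun s hs => mem_normalizer_of_conj fun y hy => ?_⟩
    obtain ⟨y', hy', e'⟩ := hSB s hs (g * y * g⁻¹) ⟨y, hy, rfl⟩
    have e'' : g * y' * g⁻¹ = s * (g * y * g⁻¹) * s⁻¹ := e'
    rw [show g⁻¹ * s * g * y * (g⁻¹ * s * g)⁻¹ = g⁻¹ * (s * (g * y * g⁻¹) * s⁻¹) * g by group, ← e'',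
      show g⁻¹ * (g * y' * g⁻¹) * g = y' by group]
    exact hy'
  have hmemA : ∀ n ∈ N, ∀ a ∈ A, n * a * n⁻¹ ∈ A := fun n hn a ha => (mem_normalizer_iff.1 hn a).1 ha
  -- transitivity
  have horb : ∀ a ∈ A, a ≠ 1 → z ∈ orb N a := by
    intro a ha ha1'
    obtain ⟨g, hga, hgS⟩ := hstab a ha ha1'
    have hodd : ¬ 2 ∣ (orb N a).ncard := by
      rw [ncard_orb]
      intro h2
      set P : Sylow 2 G := g⁻¹ • S with hP
      have hPN : (P : Subgroup G) ≤ Cen a ⊓ N := by
        rw [hP, Sylow.coe_subgroup_smul]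
        rintro _ ⟨s, hs, rfl⟩
        show g⁻¹ * s * g⁻¹⁻¹ ∈ Cen a ⊓ N
        rw [inv_inv]
        refine ⟨mem_cen.2 ?_, hgS s hs⟩
        have := (mem_cen.1 (L.S_le hs)).map (MulAut.conj g⁻¹)
        simp only [MulAut.conj_apply, inv_inv] at this
        rwa [show g⁻¹ * z * g = a by rw [← hga]; group] at this
      refine P.not_dvd_index ((h2.trans ?_).trans (index_dvd_of_le hPN))
      rw [← relIndex_mul_index (inf_le_right : Cen a ⊓ N ≤ N), inf_relIndex_right]
      exact dvd_mul_right _ _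
    let : MulAction (S : Subgroup G) (orb N a) :=
      { smul := fun s y => ⟨(s : G) * y.1 * (s : G)⁻¹, by
          obtain ⟨n, hn, hy⟩ := y.2
          exact ⟨(s : G) * n, mul_mem (hSA s.2) hn, by rw [← hy]; group⟩⟩
        one_smul := fun y => Subtype.ext (show ((1 : (S : Subgroup G)) : G) * y.1 * ((1 : (S : Subgroup G)) : G)⁻¹ = y.1 by simp)
        mul_smul := fun s s' y => Subtype.ext (show ((s * s' : (S : Subgroup G)) : G) * y.1 * ((s * s' : (S : Subgroup G)) : G)⁻¹ =
          (s : G) * ((s' : G) * y.1 * (s' : G)⁻¹) * (s : G)⁻¹ by simp [mul_assoc]) }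
    obtain ⟨⟨y, hy⟩, hyf⟩ := S.isPGroup'.nonempty_fixed_point_of_prime_not_dvd_card (orb N a)
      (by rw [Nat.card_coe_set_eq]; exact hodd)
    obtain ⟨n, hn, hny⟩ := hy
    have hcy : ∀ s ∈ (S : Subgroup G), Commute s y := fun s hs =>
      mul_inv_eq_iff_eq_mul.1 (congrArg Subtype.val (hyf ⟨s, hs⟩))
    rcases hfixz y (hny ▸ hmemA n hn a ha) hcy with e' | e'
    · exact absurd (conj_eq_one_iff.1 (hny.trans e')) ha1'
    · exact ⟨n, hn, hny.trans e'⟩
  have horbz : orb N z = (A : Set G) \ {1} := by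
    ext a
    constructor
    · rintro ⟨n, hn, rfl⟩
      exact ⟨hmemA n hn z hzA, fun h => L.ctx.z_ne (conj_eq_one_iff.1 h)⟩
    · rintro ⟨ha, ha1'⟩
      obtain ⟨n, hn, hna⟩ := horb a ha ha1'
      exact ⟨n⁻¹, inv_mem hn, by rw [← hna]; group⟩
  -- the stabiliser of `z`
  have hNz : Cen z ⊓ N = (S : Subgroup G) := by
    refine le_antisymm ?_ (le_inf L.S_le hSA)
    have hle : (S : Subgroup G) ≤ Cen z ⊓ N := le_inf L.S_le hSA
    obtain ⟨k, hk⟩ := card_dvd_of_le hle
    have hH := card_dvd_of_le (inf_le_left : Cen z ⊓ N ≤ Cen z)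
    rw [L.card_H, L.card_Q, hk, L.card_S] at hH
    have hk3 : k ∣ 3 := Nat.dvd_of_mul_dvd_mul_left (by norm_num : 0 < 64) (by simpa using hH)
    rcases (Nat.dvd_prime Nat.prime_three).1 hk3 with rfl | rfl
    · exact (Subgroup.eq_of_le_of_card_ge hle (by rw [hk, mul_one])).ge
    · exfalso
      have hfull : Cen z ⊓ N = Cen z := Subgroup.eq_of_le_of_card_ge inf_le_left
        (by rw [hk, L.card_S, L.card_H, L.card_Q])
      have := L.ctx.card_mod (S.isPGroup'.to_le hAS) (hAS.trans L.S_le) hzA (hfull.ge L.ctx.x_mem).2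
      rw [hAc] at this
      norm_num at this
  have hNc : Nat.card N = 960 := by
    have h15 : (Cen z).relIndex N = 15 := by
      rw [← ncard_orb, horbz, Set.ncard_sdiff_singleton_of_mem (one_mem _)]
      show Nat.card A - 1 = 15
      omega
    have e' := card_relIndex (inf_le_right : Cen z ⊓ N ≤ N)
    rw [inf_relIndex_right, h15, hNz, L.card_S] at e'
    omega
  -- the quotient of order sixty
  set An := A.subgroupOf N with hAn
  have : An.Normal := normal_subgroupOf_of_le_normalizer le_rfl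
  have hY : Nat.card (N ⧸ An) = 60 := by
    have e' := card_eq_card_quotient_mul_card_subgroup An
    have hAnc : Nat.card An = 16 := by
      rw [hAn, Nat.card_congr (subgroupOfEquivOfLe le_normalizer).toEquiv, hAc]
    rw [hNc, hAnc] at e'
    omega
  set π := QuotientGroup.mk' An with hπ
  have hπ1 : ∀ g : N, π g = 1 ↔ (g : G) ∈ A := fun g =>
    (QuotientGroup.eq_one_iff g).trans mem_subgroupOf
  set Sb := ((S : Subgroup G).subgroupOf N).map π with hSb
  have hSmem : ∀ g : N, π g ∈ Sb → (g : G) ∈ (S : Subgroup G) := by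
    rintro g ⟨s, hs, hse⟩
    have h1 : π (s⁻¹ * g) = 1 := by rw [map_mul, map_inv, hse, inv_mul_cancel]
    have h2 := hAS ((hπ1 _).1 h1)
    rw [show (g : G) = (s : G) * ((s⁻¹ * g : N) : G) by simp]
    exact mul_mem hs h2
  have hSbc : Nat.card Sb = 4 := by
    have hcomap : Sb.comap π = (S : Subgroup G).subgroupOf N := by
      refine le_antisymm (fun g hg => mem_subgroupOf.2 (hSmem g hg)) fun g hg => mem_map_of_mem π hg
    have e' := congrArg Subgroup.index hcomap
    rw [index_comap_of_surjective _ (QuotientGroup.mk'_surjective An)] at e'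
    have e1 := Sb.card_mul_index
    have e2 := card_relIndex hSA
    rw [L.card_S, hNc] at e2
    rw [hY, e'] at e1
    have e3 : ((S : Subgroup G).subgroupOf N).index = 15 := by
      show (S : Subgroup G).relIndex N = 15
      omega
    rw [e3] at e1
    omega
  have hSbp : IsPGroup 2 Sb := IsPGroup.of_card (n := 2) (by rw [hSbc]; rfl)
  have hSbi : Sb.index = 15 := by
    have e1 := Sb.card_mul_index
    rw [hSbc, hY] at e1
    omega
  set P := hSbp.toSylow (by rw [hSbi]; norm_num) with hP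
  have hPSb : (P : Subgroup (N ⧸ An)) = Sb := rfl
  have hSbab : ∀ p ∈ Sb, ∀ q ∈ Sb, Commute p q := fun p hp q hq => by
    have := IsPGroup.isMulCommutative_of_card_eq_prime_sq (p := 2) (G := Sb) (by rw [hSbc]; rfl)
    exact congrArg Subtype.val (this.is_comm.comm (⟨p, hp⟩ : Sb) ⟨q, hq⟩)
  have hNP : normalizer ((P : Subgroup (N ⧸ An)) : Set (N ⧸ An)) ≤
      centralizer ((P : Subgroup (N ⧸ An)) : Set (N ⧸ An)) := by
    rw [hPSb]
    intro n hn
    obtain ⟨g, rfl⟩ := QuotientGroup.mk_surjective n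
    have hgS : ∀ t ∈ (S : Subgroup G), (g : G) * t * (g : G)⁻¹ ∈ (S : Subgroup G) := by
      intro t ht
      have h1 := (mem_normalizer_iff.1 hn (π ⟨t, hSA ht⟩)).1 (mem_map_of_mem π (mem_subgroupOf.2 ht))
      rw [show (g : N ⧸ An) = π g from rfl, ← map_inv, ← map_mul, ← map_mul] at h1
      simpa using hSmem _ h1
    have hgz : Commute (g : G) z := by
      have hgn : (g : G) ∈ normalizer ((S : Subgroup G) : Set G) := mem_normalizer_of_conj hgS
      rcases L.zOne_small (zOne_conj hgn L.z_zOne) with e' | e'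
      · exact absurd (conj_eq_one_iff.1 e') L.ctx.z_ne
      · exact mul_inv_eq_iff_eq_mul.1 e'
    have hgSb : π g ∈ Sb := mem_map_of_mem π (mem_subgroupOf.2 (hNz.le ⟨mem_cen.2 hgz, g.2⟩))
    exact mem_centralizer_iff.2 fun q hq => (hSbab q hq _ hgSb).eq
  have hcompl := MonoidHom.ker_transferSylow_isComplement' P hNP
  set K := (MonoidHom.transferSylow P hNP).ker with hK
  have hKc : Nat.card K = 15 := by
    have := hcompl.card_mul_card
    rw [hPSb, hSbc, hY] at this
    omega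
  -- a normal subgroup of order five
  let P5 : Sylow 5 K := default
  have hP5 : Nat.card (P5 : Subgroup K) = 5 := by
    rw [P5.card_eq_multiplicity, hKc, Nat.factorization_def 15 (Fact.out : Nat.Prime 5)]
    have : padicValNat 5 15 = 1 := by
      rw [show 15 = 5 * 3 from rfl, padicValNat.mul (by norm_num) (by norm_num),
        padicValNat_self, padicValNat.eq_zero_of_not_dvd (by norm_num : ¬ 5 ∣ 3)]
    rw [this, pow_one]
  have hP5n : (P5 : Subgroup K).Normal := by
    have : Subsingleton (Sylow 5 K) := by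
      refine Finite.card_le_one_iff_subsingleton.1 ?_
      have h1 := card_sylow_modEq_one 5 K
      have h2 := P5.card_dvd_index
      have h3 := (P5 : Subgroup K).card_mul_index
      rw [hP5, hKc] at h3
      rw [show (P5 : Subgroup K).index = 3 by omega] at h2
      have hle := Nat.le_of_dvd (by norm_num) h2
      unfold Nat.ModEq at h1
      omega
    exact P5.normal_of_subsingleton
  have : (P5 : Subgroup K).Characteristic := Sylow.characteristic_of_normal P5 hP5n
  have hKn : K.Normal := MonoidHom.normal_ker _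
  set R := (P5 : Subgroup K).map K.subtype with hR
  have hRn : R.Normal := Cores.normal_map_subtype K _
  have hRc : Nat.card R = 5 := by rw [hR, card_map_of_injective K.subtype_injective, hP5]
  obtain ⟨⟨pb, hpR⟩, hpo⟩ := exists_prime_orderOf_dvd_card' 5 (dvd_of_eq hRc.symm)
  rw [← Subgroup.orderOf_coe] at hpo
  replace hpo : orderOf pb = 5 := hpo
  have hRp : R = zpowers pb := (Subgroup.eq_of_le_of_card_ge (zpowers_le.2 hpR)
    (by rw [hRc, Nat.card_zpowers, hpo])).symm
  -- an involution of the image of `S` commuting with it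
  have hSb2 : ∀ t ∈ Sb, t * t = 1 := by
    rintro _ ⟨⟨s, hsN⟩, hs, rfl⟩
    rw [← map_mul, hπ1]
    show s * s ∈ A
    have hq : ∀ q ∈ Q, q * q ∈ A := fun q hq => (zpowers_le.2 hzA) (L.sq_mem_z hq)
    by_cases hsQ : s ∈ Q
    · exact hq s hsQ
    · have hq1 : s * a1 ∈ Q := L.d6.mul_mem_Q (mem_subgroupOf.1 hs) (hAS ha1) hsQ ha1Q
      have e' : s * s = (s * a1) * (s * a1) * ((s * a1)⁻¹ * a1⁻¹ * (s * a1)) * a1⁻¹ := by group
      rw [e']
      have h3 := hmemA _ (inv_mem (hSA (L.d6.Q_le_S hq1))) a1⁻¹ (inv_mem ha1)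
      rw [inv_inv] at h3
      exact mul_mem (mul_mem (hq _ hq1) h3) (inv_mem ha1)
  have hcases : ∀ t ∈ Sb, t * pb * t⁻¹ = pb ∨ t * pb * t⁻¹ = pb⁻¹ := by
    intro t ht
    have hm : t * pb * t⁻¹ ∈ zpowers pb := hRp ▸ hRn.conj_mem pb (hRp ▸ mem_zpowers pb) t
    obtain ⟨i, hi⟩ := mem_zpowers_iff.1 hm
    rw [← zpow_mod_orderOf, hpo] at hi
    have h1 : 0 ≤ i % ((5 : ℕ) : ℤ) := Int.emod_nonneg _ (by norm_num)
    have h2 : i % ((5 : ℕ) : ℤ) < 5 := Int.emod_lt_of_pos _ (by norm_num)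
    generalize i % ((5 : ℕ) : ℤ) = j at h1 h2 hi
    lift j to ℕ using h1
    rw [zpow_natCast] at hi
    have hj : pb ^ (j * j) = pb := by
      rw [pow_mul, hi, conj_pow, hi]
      calc t * (t * pb * t⁻¹) * t⁻¹ = (t * t) * pb * (t * t)⁻¹ := by group
        _ = pb := by rw [hSb2 t ht]; group
    have h5 : pb ^ 5 = 1 := hpo ▸ pow_orderOf_eq_one pb
    have hj' : pb ^ (j * j) = pb ^ 1 := by rw [pow_one]; exact hj
    rw [pow_eq_pow_iff_modEq, hpo] at hj'
    have hj5 : j < 5 := by omega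
    interval_cases j
    · exact absurd hj' (by decide)
    · exact Or.inl (by rw [← hi, pow_one])
    · exact absurd hj' (by decide)
    · exact absurd hj' (by decide)
    · refine Or.inr ?_
      rw [← hi, eq_inv_iff_mul_eq_one, ← pow_succ, h5]
  obtain ⟨t, ht, ht1, htp⟩ : ∃ t ∈ Sb, t ≠ 1 ∧ Commute t pb := by
    by_contra hc
    push Not at hc
    have hinv : ∀ t ∈ Sb, t ≠ 1 → t * pb * t⁻¹ = pb⁻¹ := fun t ht ht1 =>
      (hcases t ht).resolve_left fun e' => hc t ht ht1 (mul_inv_eq_iff_eq_mul.1 e')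
    obtain ⟨t1, h1, h11⟩ : ∃ t ∈ Sb, t ≠ 1 := by
      by_contra hall
      push Not at hall
      have := card_le_of_le (show Sb ≤ ⊥ from fun t ht => mem_bot.2 (hall t ht))
      rw [Subgroup.card_bot, hSbc] at this
      omega
    obtain ⟨t2, h2, h21⟩ : ∃ t ∈ Sb, t ∉ zpowers t1 := SetLike.not_le_iff_exists.1 fun hle => by
      have := card_le_of_le hle
      rw [hSbc, Nat.card_zpowers] at this
      have := orderOf_le_of_pow_eq_one two_pos ((pow_two t1).trans (hSb2 t1 h1))
      omega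
    have ht12 : t1 * t2 ≠ 1 := fun e' => h21 (by
      rw [eq_inv_of_mul_eq_one_right e']; exact inv_mem (mem_zpowers t1))
    refine hc (t1 * t2) (mul_mem h1 h2) ht12 (mul_inv_eq_iff_eq_mul.1 ?_)
    calc t1 * t2 * pb * (t1 * t2)⁻¹ = t1 * (t2 * pb * t2⁻¹) * t1⁻¹ := by group
      _ = (t1 * pb * t1⁻¹)⁻¹ := by rw [hinv t2 h2 fun e' => h21 (e' ▸ one_mem _)]; group
      _ = pb := by rw [hinv t1 h1 h11, inv_inv]
  obtain ⟨⟨s, hsN⟩, hs, rfl⟩ := ht
  obtain ⟨gp, hgp⟩ := QuotientGroup.mk'_surjective An pb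
  set pl : N := gp ^ 6 with hpl
  have hpl5 : pl ^ 5 = 1 := by
    have h1 : ((gp ^ 5 : N) : G) ∈ A := (hπ1 _).1 (by
      rw [map_pow, show π gp = pb from hgp, ← hpo, pow_orderOf_eq_one])
    have h2 : (gp ^ 5 : N) * gp ^ 5 = 1 := Subtype.ext (hAsq _ h1)
    rw [hpl, ← pow_mul]
    calc gp ^ (6 * 5) = (gp ^ 5 * gp ^ 5) * (gp ^ 5 * gp ^ 5) * (gp ^ 5 * gp ^ 5) := by
          simp only [← pow_add]
      _ = 1 := by rw [h2, mul_one, mul_one]
  have hplπ : π pl = pb := by
    have h5 : pb ^ 5 = 1 := hpo ▸ pow_orderOf_eq_one pb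
    rw [hpl, map_pow, show π gp = pb from hgp, pow_succ, h5, one_mul]
  have hplo : orderOf (pl : G) = 5 := by
    rw [Subgroup.orderOf_coe]
    refine orderOf_eq_prime hpl5 fun e' => ?_
    rw [e', map_one] at hplπ
    rw [← hplπ, orderOf_one] at hpo
    norm_num at hpo
  have hdiff : s * (pl : G) * s⁻¹ * (pl : G)⁻¹ ∈ A := by
    have h1 : π (⟨s, hsN⟩ * pl * ⟨s, hsN⟩⁻¹ * pl⁻¹) = 1 := by
      rw [map_mul, map_mul, map_mul, map_inv, map_inv, hplπ, htp.eq, mul_inv_cancel_right, mul_inv_cancel]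
    exact (hπ1 _).1 h1
  set F := A ⊓ Cen s with hF
  have hsA : s ∉ A := fun h => ht1 ((hπ1 _).2 h)
  have hplF : (pl : G) ∈ normalizer (F : Set G) := by
    refine mem_normalizer_of_conj fun y hy => ⟨hmemA _ pl.2 y hy.1, mem_cen.2 ?_⟩
    set a := s * (pl : G) * s⁻¹ * (pl : G)⁻¹ with hadef
    have hy' : (pl : G) * y * (pl : G)⁻¹ ∈ A := hmemA _ pl.2 y hy.1
    refine (mul_inv_eq_iff_eq_mul.1 ?_).symm
    calc s * ((pl : G) * y * (pl : G)⁻¹) * s⁻¹
        = a * ((pl : G) * (s * y * s⁻¹) * (pl : G)⁻¹) * a⁻¹ := by rw [hadef]; group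
      _ = a * ((pl : G) * y * (pl : G)⁻¹) * a⁻¹ := by
          rw [mul_inv_eq_iff_eq_mul.2 (mem_cen.1 hy.2).symm.eq]
      _ = (pl : G) * y * (pl : G)⁻¹ := mul_inv_eq_iff_eq_mul.2 (hAab a hdiff _ hy').eq
  have hfree : ∀ f ∈ F, Commute (pl : G) f → f = 1 := by
    intro f hf hc
    by_contra hf1
    obtain ⟨g, hg⟩ := L.ctx.exists_conj (orderOf_eq_prime (by rw [pow_two]; exact hAsq f hf.1) hf1)
    have hmem : g * (pl : G) * g⁻¹ ∈ Cen z := by
      refine mem_cen.2 ?_
      have := hc.map (MulAut.conj g)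
      simp only [MulAut.conj_apply] at this
      rwa [hg] at this
    have hd := orderOf_dvd_natCard (Cen z) hmem
    rw [← MulAut.conj_apply, MulEquiv.orderOf_eq, hplo, L.card_H, L.card_Q] at hd
    norm_num at hd
  have h1 := card_mod_five hplo hplF hfree
  have h2 : 2 ∣ Nat.card F := by
    rw [← L.ctx.hz]
    exact orderOf_dvd_natCard F ⟨hzA, mem_cen.2 (mem_cen.1 (L.S_le (mem_subgroupOf.1 hs))).symm⟩
  have h16 : Nat.card F ∣ 2 ^ 4 := (card_dvd_of_le inf_le_left).trans (dvd_of_eq (hAc.trans (by norm_num)))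
  obtain ⟨k, hk, hke⟩ := (Nat.dvd_prime_pow Nat.prime_two).1 h16
  rw [hke] at h1 h2
  have hF16 : Nat.card F = 16 := by
    rw [hke]
    interval_cases k <;> omega
  have hFA : F = A := Subgroup.eq_of_le_of_card_ge inf_le_left (by rw [hAc, hF16])
  exact hsA (hCA s fun a ha => (mem_cen.1 (hFA.ge ha).2).symm)

end Large

end Cfsg.Agent.Lib.SelfCentSix9
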