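import Cfsg.Agent.Lib.SelfCentSix9.Six.LargeU
import Cfsg.Agent.Lib.SelfCentSix9.Frob
import Cfsg.Agent.Lib.J4Five.Linear

/-!
# `|Q| = 8`: the normaliser of `Q` is `C(z)`

Otherwise `N(Q)/Q` has order `42` and an element of order seven of it would be centralised by `x`.
-/

set_option autoImplicit false

namespace Cfsg.Agent.Lib.SelfCentSix9

open Subgroup

universe u

variable {G : Type u} [Group G] [Finite G] {z x u : G} {Q : Subgroup G} {S : Sylow 2 G}

namespace Large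

variable (L : Large z x u Q S)
include L

/-- With `|Q| = 8` the group `Q` is `U`. -/
theorem eq_U (hQ : Nat.card Q = 8) : Q = uSub z x u :=
  (Subgroup.eq_of_le_of_card_ge L.U_le (by rw [L.U_card, hQ])).symm

/-- A normaliser of a subgroup between `H = C(z)` has odd index over `H`. -/
theorem odd_relIndex {N : Subgroup G} (hN : Cen z ≤ N) : ¬ 2 ∣ (Cen z).relIndex N := by
  have : Fact (Nat.Prime 2) := ⟨Nat.prime_two⟩
  intro h2
  have e := relIndex_mul_relIndex (S : Subgroup G) (Cen z) N L.S_le hN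
  exact S.not_dvd_index ((h2.trans ⟨_, by rw [← e, mul_comm]⟩).trans
    (dvd_trans ⟨_, (relIndex_mul_index (L.S_le.trans hN)).symm⟩ dvd_rfl))

/-- With `|Q| = 8` the normaliser of `Q` is `C(z)`. -/
theorem norm_eight (hQ : Nat.card Q = 8) {g : G} (hg : g ∈ normalizer (Q : Set G))
    (hgH : g ∉ Cen z) : False := by
  classical
  have : Fact (Nat.Prime 2) := ⟨Nat.prime_two⟩
  have : Fact (Nat.Prime 7) := ⟨by norm_num⟩
  have hQU := L.eq_U hQ
  set N := normalizer (Q : Set G) with hN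
  have hsq : ∀ a : Q, a * a = 1 := fun a => Subtype.ext (L.U_sq (hQU ▸ a.2))
  -- the image in the automorphisms of `Q`
  set φ := Q.normalizerMonoidHom with hφ
  have hker : φ.ker = Q.subgroupOf N := by
    ext a
    rw [hφ, Subgroup.normalizerMonoidHom_ker, mem_subgroupOf, mem_subgroupOf]
    constructor
    · intro ha
      have hc : ∀ q ∈ Q, Commute (a : G) q := fun q hq => (mem_centralizer_iff.1 ha q hq).symm
      exact L.centralizer_le (mem_cen.2 (hc z L.z_mem)) hc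
    · intro ha
      exact mem_centralizer_iff.2 fun q hq => (comm_of_sq (fun v hv => congrArg Subtype.val (hsq ⟨v, hv⟩))
        hq ha).eq
  have hkc : Nat.card φ.ker = 8 := by
    rw [hker, Nat.card_congr (subgroupOfEquivOfLe le_normalizer).toEquiv, hQ]
  set r := (Cen z).relIndex N with hr
  have hNc : Nat.card N = 48 * r := by
    rw [hr, ← card_relIndex L.Q_norm, L.card_H, hQ]
  have hr1 : r ≠ 1 := fun e => hgH (Subgroup.relIndex_eq_one.1 e hg)
  have hrodd : ¬ 2 ∣ r := L.odd_relIndex L.Q_norm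
  have hrng : Nat.card φ.range = 6 * r := by
    have e1 := φ.ker.card_mul_index
    rw [index_ker, hkc, hNc] at e1
    omega
  have hdvd : 6 * r ∣ 168 := by
    rw [← hrng, ← Lib.J4Five.Linear.card_mulAut hsq hQ]
    exact φ.range.card_subgroup_dvd_card
  have hr7 : r = 7 := by
    have h28 : r ∣ 28 := (Nat.mul_dvd_mul_iff_left (by norm_num : 0 < 6)).1 hdvd
    have hle := Nat.le_of_dvd (by norm_num) h28
    interval_cases r <;> omega
  -- the quotient of order 42
  set Qn := Q.subgroupOf N with hQn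
  have : Qn.Normal := normal_subgroupOf_of_le_normalizer le_rfl
  have hQnc : Nat.card Qn = 8 := by
    rw [hQn, Nat.card_congr (subgroupOfEquivOfLe le_normalizer).toEquiv, hQ]
  have hY : Nat.card (N ⧸ Qn) = 42 := by
    have e := card_eq_card_quotient_mul_card_subgroup Qn
    rw [hNc, hr7, hQnc] at e
    omega
  let P : Sylow 7 (N ⧸ Qn) := default
  have hPc : Nat.card (P : Subgroup (N ⧸ Qn)) = 7 := by
    rw [P.card_eq_multiplicity, hY, Nat.factorization_def 42 (Fact.out : Nat.Prime 7)]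
    have : padicValNat 7 42 = 1 := by
      rw [show 42 = 7 * 6 from rfl, padicValNat.mul (by norm_num) (by norm_num),
        padicValNat_self, padicValNat.eq_zero_of_not_dvd (by norm_num : ¬ 7 ∣ 6)]
    rw [this, pow_one]
  have hPn : (P : Subgroup (N ⧸ Qn)).Normal := by
    have : Subsingleton (Sylow 7 (N ⧸ Qn)) := by
      refine Finite.card_le_one_iff_subsingleton.1 ?_
      have h1 := card_sylow_modEq_one 7 (N ⧸ Qn)
      have h2 := P.card_dvd_index
      have h3 := (P : Subgroup (N ⧸ Qn)).card_mul_index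
      rw [hPc, hY] at h3
      have h4 : (P : Subgroup (N ⧸ Qn)).index = 6 := by omega
      rw [h4] at h2
      have hle := Nat.le_of_dvd (by norm_num) h2
      unfold Nat.ModEq at h1
      omega
    exact P.normal_of_subsingleton
  have hxN : x ∈ N := L.x_norm
  obtain ⟨w, hw, hwQ⟩ := L.d6.exists_out
  obtain ⟨q, hq, hwx⟩ := L.conj_x hw hwQ
  have hwN : w ∈ N := L.Q_norm (L.S_le hw)
  set xq : N ⧸ Qn := ((⟨x, hxN⟩ : N) : N ⧸ Qn) with hxq
  set wq : N ⧸ Qn := ((⟨w, hwN⟩ : N) : N ⧸ Qn) with hwq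
  have hwxq : wq * xq * wq⁻¹ = xq⁻¹ := by
    rw [hwq, hxq, ← QuotientGroup.mk_inv, ← QuotientGroup.mk_mul, ← QuotientGroup.mk_mul,
      ← QuotientGroup.mk_inv, QuotientGroup.eq, hQn, mem_subgroupOf]
    have e : (w * x * w⁻¹)⁻¹ * x⁻¹ = x * q⁻¹ * x⁻¹ := by rw [hwx]; group
    have h' : (w * x * w⁻¹)⁻¹ * x⁻¹ ∈ Q := e ▸ (mem_normalizer_iff.1 hxN q⁻¹).1 (inv_mem hq)
    simpa [mul_assoc] using h'
  -- the action on the cyclic group `P` is abelian
  have hPg : ∀ {p : N ⧸ Qn}, p ∈ (P : Subgroup (N ⧸ Qn)) → ∀ a : N ⧸ Qn, a * p * a⁻¹ ∈ (P : Subgroup _) :=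
    fun hp a => hPn.conj_mem _ hp a
  let ψ : (N ⧸ Qn) →* MulAut (P : Subgroup (N ⧸ Qn)) := MulAut.conjNormal
  have hψ : ψ (xq * xq) = 1 := by
    have hcomm : Commute (ψ wq) (ψ xq) := by
      have hcy : IsCyclic (P : Subgroup (N ⧸ Qn)) := isCyclic_of_prime_card (p := 7) hPc
      obtain ⟨p, hp⟩ := hcy.exists_generator
      obtain ⟨i, hi⟩ := mem_zpowers_iff.1 (hp (ψ wq p))
      obtain ⟨j, hj⟩ := mem_zpowers_iff.1 (hp (ψ xq p))
      refine MulEquiv.ext fun a => ?_
      obtain ⟨k, rfl⟩ := mem_zpowers_iff.1 (hp a)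
      simp only [MulAut.mul_apply, map_zpow, ← hi, ← hj, ← zpow_mul]
      congr 1
      ring
    have e : ψ wq * ψ xq * (ψ wq)⁻¹ = (ψ xq)⁻¹ := by
      rw [← map_inv, ← map_mul, ← map_mul, hwxq, map_inv]
    rw [hcomm.eq, mul_inv_cancel_right] at e
    rw [map_mul]
    nth_rw 2 [e]
    rw [mul_inv_cancel]
  have hψx : ψ xq = 1 := by
    have e : xq = (xq * xq) * (xq * xq) := by
      rw [hxq, ← QuotientGroup.mk_mul, ← QuotientGroup.mk_mul]
      congr 1
      refine Subtype.ext ?_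
      show x = x * x * (x * x)
      calc x = x * x ^ 3 := by rw [L.ctx.x_cube, mul_one]
        _ = x * x * (x * x) := by simp only [pow_succ, pow_zero, one_mul]; group
    rw [e, map_mul, hψ, one_mul]
  -- an `x`-invariant subgroup of order seven
  set M := ((P : Subgroup (N ⧸ Qn)).comap (QuotientGroup.mk' Qn)).map N.subtype with hM
  have hMc : Nat.card M = 56 := by
    rw [hM, card_map_of_injective N.subtype_injective]
    have := QuotientGroup.card_preimage_mk Qn ((P : Subgroup (N ⧸ Qn)) : Set (N ⧸ Qn))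
    rw [show Nat.card ((P : Subgroup (N ⧸ Qn)).comap (QuotientGroup.mk' Qn)) =
      Nat.card Qn * Nat.card (P : Subgroup (N ⧸ Qn)) from this, hQnc, hPc]
  have hxM : x ∈ normalizer (M : Set G) := by
    refine mem_normalizer_of_conj fun y hy => ?_
    obtain ⟨y', hy', rfl⟩ := hy
    refine ⟨⟨x, hxN⟩ * y' * ⟨x, hxN⟩⁻¹, ?_, rfl⟩
    rw [SetLike.mem_coe, mem_comap, map_mul, map_mul, map_inv]
    exact hPg hy' _
  obtain ⟨R, hRM, hR, hR1, hxR⟩ := exists_inv_sylow L.ctx.hx hxM (by rw [hMc]; norm_num)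
    (r := 7) (Fact.out) (by rw [hMc]; norm_num)
  obtain ⟨⟨p, hpR⟩, hpo⟩ := exists_prime_orderOf_dvd_card' 7
    (hR.card_eq_or_dvd.resolve_left fun e => hR1 (Subgroup.card_eq_one.1 e))
  rw [← Subgroup.orderOf_coe] at hpo
  obtain ⟨p', hp', hpe⟩ := hRM hpR
  have hfix : ψ xq ⟨(p' : N ⧸ Qn), hp'⟩ = ⟨(p' : N ⧸ Qn), hp'⟩ := by rw [hψx]; rfl
  have hcm : cm x p ∈ Q := by
    have e : xq * (p' : N ⧸ Qn) * xq⁻¹ = (p' : N ⧸ Qn) := congrArg Subtype.val hfix
    have h1 : ((⟨x, hxN⟩ * p' * ⟨x, hxN⟩⁻¹ * p'⁻¹ : N) : N ⧸ Qn) = 1 := by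
      rw [QuotientGroup.mk_mul, QuotientGroup.mk_mul, QuotientGroup.mk_mul, QuotientGroup.mk_inv,
        QuotientGroup.mk_inv, ← hxq, e, mul_inv_cancel]
    have h2 := mem_subgroupOf.1 ((QuotientGroup.eq_one_iff _).1 h1)
    simp only [Subgroup.coe_mul, Subgroup.coe_inv] at h2
    rw [← hpe]
    exact h2
  have hxp : Commute x p := by
    have hmem : cm x p ∈ R := mul_mem ((mem_normalizer_iff.1 hxR p).1 hpR) (inv_mem hpR)
    have hd : Disjoint R Q := IsPGroup.disjoint_of_ne 7 2 (by norm_num) _ _ hR L.two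
    exact cm_eq_one_iff.1 (mem_bot.1 (hd.eq_bot ▸ ⟨hmem, hcm⟩ : cm x p ∈ (⊥ : Subgroup G)))
  have hpN : p ∈ N := hpe ▸ p'.2
  have hfixz : Commute (p * z * p⁻¹) x :=
    (hxp.symm.mul_left L.ctx.comm).mul_left hxp.symm.inv_left
  rcases L.ctx.eq_of_commute_x L.two L.Q_le ((mem_normalizer_iff.1 hpN z).1 L.z_mem) hfixz with e | e
  · exact L.ctx.z_ne (conj_eq_one_iff.1 e)
  · have hd := orderOf_dvd_natCard (Cen z) (mem_cen.2 (mul_inv_eq_iff_eq_mul.1 e))
    rw [hpo, L.card_H, hQ] at hd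
    norm_num at hd

end Large

end Cfsg.Agent.Lib.SelfCentSix9
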