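import Cfsg.Agent.Lib.SelfCentSix9.Six.LargeQ32

/-!
# An elementary abelian subgroup of order sixteen of `S`

Some involution `e ∈ Q ∖ U` is good in `S` and commutes with `u`; `A = C_S(u) ∩ C_S(e)` is elementary
abelian of order sixteen.
-/

set_option autoImplicit false

namespace Cfsg.Agent.Lib.SelfCentSix9

open Subgroup

universe u

variable {G : Type u} [Group G] [Finite G] {z x u : G} {Q : Subgroup G} {S : Sylow 2 G}

namespace Large

variable (L : Large z x u Q S)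
include L

/-- The centraliser in `C(z)` of an involution `a ∈ Q ∖ Z(Q)` is not in `Q`. -/
theorem exists_cent_out {a : G} (ha : a ∈ Q) (ha2 : a * a = 1) (haz : a ∉ zpowers z) :
    ∃ b ∈ Cen z, Commute b a ∧ b ∉ Q := by
  by_contra hno
  push Not at hno
  set W := Q ⊓ Cen a with hW
  have hWc : Nat.card W = 16 := L.card_cen ha haz
  obtain ⟨p, hp, r, hr, hpr⟩ : ∃ p ∈ W, ∃ r ∈ W, cm p r = z := by
    by_contra hc
    push Not at hc
    have := L.card_abelian (W := W) inf_le_left fun p hp r hr => cm_eq_one_iff.1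
      ((L.ctx.cases_zpowers_z (L.cm_mem_z hp.1 hr.1)).resolve_right (hc p hp r hr))
    omega
  have haz' : a ≠ z := fun e => haz (e ▸ mem_zpowers z)
  obtain ⟨g, hg⟩ := L.ctx.exists_conj (orderOf_eq_prime (by rw [pow_two, ha2]) (fun e => haz (by rw [e]; exact one_mem _)))
  set z' := g * z * g⁻¹ with hz'
  set W' := W.map (MulAut.conj g).toMonoidHom with hW'
  have hW'z : W' ≤ Cen z := by
    rintro _ ⟨y, hy, rfl⟩
    refine mem_cen.2 ?_
    have := (mem_cen.1 hy.2).map (MulAut.conj g)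
    simp only [MulAut.conj_apply] at this
    rw [hg] at this
    simpa using this
  have hz'e : cm (g * p * g⁻¹) (g * r * g⁻¹) = z' := by
    rw [hz', ← hpr]; simp only [cm]; group
  have hW'2 : IsPGroup 2 W' := (L.two.to_le inf_le_left).map _
  have hz'Q : z' ∈ Q := hz'e ▸ L.cm_mem hW'2 hW'z ⟨p, hp, rfl⟩ ⟨r, hr, rfl⟩
  have hne : z' ≠ z := fun e => haz' (by
    have e' : g * z * g⁻¹ = g * a * g⁻¹ := by rw [hg]; exact e
    exact (mul_left_cancel (mul_right_cancel e')).symm)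
  have hz'z : z' ∉ zpowers z := fun hm => (L.ctx.cases_zpowers_z hm).elim
    (fun e => L.ctx.z_ne (conj_eq_one_iff.1 e)) hne
  have hle : Q ⊓ Cen z' ≤ W' := by
    intro y hy
    refine ⟨g⁻¹ * y * g, ?_, by simp [mul_assoc]⟩
    have h1 : Commute (g⁻¹ * y * g) z := by
      have := (mem_cen.1 hy.2).map (MulAut.conj g⁻¹)
      simp only [MulAut.conj_apply, inv_inv] at this
      rwa [show g⁻¹ * z' * g = z by rw [hz']; group] at this
    have h2 : Commute (g⁻¹ * y * g) a := by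
      have := (mem_cen.1 (L.Q_le hy.1)).map (MulAut.conj g⁻¹)
      simp only [MulAut.conj_apply, inv_inv] at this
      rwa [show g⁻¹ * z * g = a by rw [← hg]; group] at this
    exact ⟨hno _ (mem_cen.2 h1) h2, mem_cen.2 h2⟩
  have heq := Subgroup.eq_of_le_of_card_ge hle (by
    rw [L.card_cen hz'Q hz'z, hW', card_map_of_injective (MulAut.conj g).injective, hWc])
  refine hz'z (hz'e ▸ L.cm_mem_z ?_ ?_)
  · exact (heq.ge (show g * p * g⁻¹ ∈ W' from ⟨p, hp, rfl⟩)).1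
  · exact (heq.ge (show g * r * g⁻¹ ∈ W' from ⟨r, hr, rfl⟩)).1

/-- An involution of `Q ∖ U` good in `S` commuting with `u` and with an element of `S ∖ Q`. -/
theorem exists_e : ∃ e, e ∈ Q ∧ e ∉ uSub z x u ∧ Good z (S : Subgroup G) e ∧ Commute e u ∧
    ∃ s ∈ (S : Subgroup G), s ∉ Q ∧ Commute s e := by
  obtain ⟨p, hp, p0, -⟩ := L.exists_frame
  obtain ⟨a, ha, ha2, haU⟩ : ∃ a ∈ Q, a * a = 1 ∧ a ∉ uSub z x u := by
    have hpU : p ∉ uSub z x u := fun h => L.ctx.z_ne (p0 ▸ cm_eq_one_iff.2 (L.U_comm h a_mem_three))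
    rcases L.ctx.cases_zpowers_z (L.sq_mem_z hp) with e | e
    · exact ⟨p, hp, e, hpU⟩
    · refine ⟨p * u, mul_mem hp L.good.mem, ?_, fun h => hpU ?_⟩
      · have hup : u * p = z * (p * u) := by
          have e' : cm u p = z := by rw [L.ctx.cm_symm (L.good.cent p hp)]; exact p0
          rw [← e']; simp only [cm]; group
        calc p * u * (p * u) = p * (u * p) * u := by group
          _ = p * z * p * (u * u) := by rw [hup]; group
          _ = z * (p * p) := by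
              rw [L.good.sq, mul_one, (mem_cen.1 (L.Q_le hp)).eq, mul_assoc]
          _ = 1 := by rw [e, L.ctx.z_sq]
      · rw [show p = p * u * u by rw [mul_assoc, L.good.sq, mul_one]]
        exact mul_mem h a_mem_three
  have haz : a ∉ zpowers z := fun h => haU ((zpowers_le.2 z_mem_three) h)
  obtain ⟨b, hb, hba, hbQ⟩ := L.exists_cent_out ha ha2 haz
  set T := Cen z ⊓ Cen a with hT
  have h3 : ∀ c ∈ T, orderOf c ≠ 3 := fun c hc ho => L.ctx.not_commute_two ho L.ctx.z_sq ha2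
    (mem_cen.1 (L.Q_le ha)).symm L.ctx.z_ne (fun e => haz (e ▸ one_mem _))
    (fun e => haz (e ▸ mem_zpowers z)) (mem_cen.1 hc.1) (mem_cen.1 hc.2)
  obtain ⟨m, hm, hmS⟩ := L.exists_conj_le (L.two_of_le inf_le_left h3) inf_le_left
  set e := m * a * m⁻¹ with he
  set s := m * b * m⁻¹ with hs
  have heQ : e ∈ Q := (mem_normalizer_iff.1 (L.Q_norm hm) a).1 ha
  have heU : e ∉ uSub z x u := fun h => haU ((mem_normalizer_iff.1 (L.U_norm hm) a).2 h)
  have hsS : s ∈ (S : Subgroup G) := hmS b ⟨hb, mem_cen.2 hba⟩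
  have hsQ : s ∉ Q := fun h => hbQ ((mem_normalizer_iff.1 (L.Q_norm hm) b).2 h)
  have hse : Commute s e := by simpa only [MulAut.conj_apply] using hba.map (MulAut.conj m)
  have he1 : e ≠ 1 := fun h => heU (h ▸ one_mem _)
  have gS : Good z (S : Subgroup G) e := by
    refine ⟨L.d6.Q_le_S heQ, orderOf_eq_prime ?_ he1, fun h => heU (h ▸ z_mem_three), fun c hc => ?_⟩
    · rw [pow_two, he, show m * a * m⁻¹ * (m * a * m⁻¹) = m * (a * a) * m⁻¹ by group, ha2]; group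
    · rcases L.cases_S hsS hsQ hc with hcQ | ⟨q, hq, rfl⟩
      · exact L.cm_mem_z hcQ heQ
      · rw [show cm (q * s) e = q * cm s e * q⁻¹ * cm q e by simp only [cm]; group, cm_eq_one_iff.2 hse,
          mul_one, mul_inv_cancel, one_mul]
        exact L.cm_mem_z hq heQ
  refine ⟨e, heQ, heU, gS, ?_, s, hsS, hsQ, hse⟩
  obtain ⟨c, hc, hcu⟩ := L.conj_u1 hsS hsQ
  set u1 := x * u * x⁻¹ with hu1
  set u2 := x * u1 * x⁻¹ with hu2
  have h12 : cm e u2 = cm e u1 := by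
    have h2 : cm e (c * u2) = cm e u2 := by
      rw [L.ctx.cm_mul_right L.Q_le heQ ((zpowers_le.2 L.z_mem) hc) (L.u2_good.cent e heQ),
        cm_eq_one_iff.2 (L.ctx.comm_of_mem (L.Q_le heQ) hc), one_mul]
    rw [← h2, ← hcu, show cm e (s * u1 * s⁻¹) = s * cm (s⁻¹ * e * s) u1 * s⁻¹ by simp only [cm]; group,
      show s⁻¹ * e * s = e by rw [mul_assoc, ← hse.eq, inv_mul_cancel_left],
      L.ctx.conj_zpowers (L.S_le hsS) (L.u1_good.cent e heQ)]
  have hprod : cm e (u * u1 * u2) = cm e u * cm e u1 * cm e u2 := by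
    rw [L.ctx.cm_mul_right L.Q_le heQ (mul_mem L.good.mem L.u1_good.mem) (L.u2_good.cent e heQ),
      L.ctx.cm_mul_right L.Q_le heQ L.good.mem (L.u1_good.cent e heQ)]
  rw [cm_eq_one_iff.2 (L.ctx.comm_of_mem (L.Q_le heQ) L.prod_mem), h12, mul_assoc,
    L.ctx.mul_self_eq (L.u1_good.cent e heQ), mul_one] at hprod
  exact cm_eq_one_iff.1 hprod.symm

/-- The square of an element of `S ∖ Q` centralising a good involution `v` is `1`, `v` or `v z`. -/
theorem sq_cases {v : G} (g : Good z (S : Subgroup G) v) (hvQ : v ∈ Q) {d : G}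
    (hd : d ∈ (S : Subgroup G)) (hdQ : d ∉ Q) (hdv : Commute d v) :
    d * d = 1 ∨ d * d = v ∨ d * d = v * z := by
  obtain ⟨c, hc3, hcD, c1, c2, c3⟩ := L.ctx.exists_fuse S L.S_le (fun _ hw => L.zOne_small hw) g
  have c3' : c ^ 3 = 1 := hc3 ▸ pow_orderOf_eq_one c
  set D := (S : Subgroup G) ⊓ Cen v with hD
  have hDc : Nat.card D = 32 := by
    have e := card_relIndex (inf_le_left : D ≤ (S : Subgroup G))
    rw [L.ctx.relIndex_centralizer S L.S_le (fun _ hw => L.zOne_small hw) g, L.card_S] at e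
    have e' : Nat.card D * 2 = 64 := e
    omega
  have hvz : v ∉ zpowers z := fun hm => (L.ctx.cases_zpowers_z hm).elim g.ne_one g.ne
  set C1 := Q ⊓ Cen v with hC1
  set C2 := C1.map (MulAut.conj c).toMonoidHom with hC2
  set C3 := C2.map (MulAut.conj c).toMonoidHom with hC3
  have m2 : ∀ {y : G}, y ∈ C1 → c * y * c⁻¹ ∈ C2 := fun hy => ⟨_, hy, rfl⟩
  have m2' : ∀ {y : G}, c * y * c⁻¹ ∈ C2 → y ∈ C1 := fun hy =>
    (Subgroup.mem_map_iff_mem (MulAut.conj c).injective).1 hy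
  have m3 : ∀ {y : G}, y ∈ C2 → c * y * c⁻¹ ∈ C3 := fun hy => ⟨_, hy, rfl⟩
  have m3' : ∀ {y : G}, c * y * c⁻¹ ∈ C3 → y ∈ C2 := fun hy =>
    (Subgroup.mem_map_iff_mem (MulAut.conj c).injective).1 hy
  have m1 : ∀ {y : G}, y ∈ C3 → c * y * c⁻¹ ∈ C1 := by
    rintro _ ⟨_, ⟨y, hy, rfl⟩, rfl⟩
    have e : c * (c * (c * y * c⁻¹) * c⁻¹) * c⁻¹ = y := by
      calc _ = c ^ 3 * y * (c ^ 3)⁻¹ := by simp only [pow_succ, pow_zero, one_mul]; group
        _ = y := by rw [c3']; group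
    simpa [e] using hy
  have m1' : ∀ {y : G}, c * y * c⁻¹ ∈ C1 → y ∈ C3 := by
    intro y hy
    have e : c * (c * (c * y * c⁻¹) * c⁻¹) * c⁻¹ = y := by
      calc _ = c ^ 3 * y * (c ^ 3)⁻¹ := by simp only [pow_succ, pow_zero, one_mul]; group
        _ = y := by rw [c3']; group
    exact e ▸ m3 (m2 hy)
  have hC1D : C1 ≤ D := fun y hy => ⟨L.d6.Q_le_S hy.1, hy.2⟩
  have hC2D : C2 ≤ D := by
    rintro _ ⟨y, hy, rfl⟩
    exact (mem_normalizer_iff.1 hcD y).1 (hC1D hy)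
  have hC3D : C3 ≤ D := by
    rintro _ ⟨y, hy, rfl⟩
    exact (mem_normalizer_iff.1 hcD y).1 (hC2D hy)
  have h1c : Nat.card C1 = 16 := L.card_cen hvQ hvz
  have h2c : Nat.card C2 = 16 := by rw [hC2, card_map_of_injective (MulAut.conj c).injective, h1c]
  have h3c : Nat.card C3 = 16 := by rw [hC3, card_map_of_injective (MulAut.conj c).injective, h2c]
  -- squares
  by_cases hd2 : d ∈ C2
  · obtain ⟨y, hy, rfl⟩ := hd2
    have e : MulAut.conj c y * MulAut.conj c y = MulAut.conj c (y * y) := (map_mul _ _ _).symm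
    show MulAut.conj c y * MulAut.conj c y = 1 ∨ MulAut.conj c y * MulAut.conj c y = v ∨
      MulAut.conj c y * MulAut.conj c y = v * z
    rw [e]
    rcases L.ctx.cases_zpowers_z (L.sq_mem_z hy.1) with e' | e' <;> rw [e']
    · exact Or.inl (map_one _)
    · exact Or.inr (Or.inl c1)
  by_cases hd3 : d ∈ C3
  · obtain ⟨_, ⟨y, hy, rfl⟩, rfl⟩ := hd3
    show MulAut.conj c (MulAut.conj c y) * MulAut.conj c (MulAut.conj c y) = 1 ∨
      MulAut.conj c (MulAut.conj c y) * MulAut.conj c (MulAut.conj c y) = v ∨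
      MulAut.conj c (MulAut.conj c y) * MulAut.conj c (MulAut.conj c y) = v * z
    rw [← map_mul, ← map_mul]
    rcases L.ctx.cases_zpowers_z (L.sq_mem_z hy.1) with e' | e' <;> rw [e']
    · exact Or.inl (by simp)
    · exact Or.inr (Or.inr (by rw [MulAut.conj_apply, MulAut.conj_apply, c1]; exact c2))
  have hd1 : d ∉ C1 := fun h => hdQ h.1
  have hdD : d ∈ D := ⟨hd, mem_cen.2 hdv⟩
  -- products modulo a subgroup of index two
  have hidx : ∀ C : Subgroup G, C ≤ D → Nat.card C = 16 →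
      ∀ a ∈ D, ∀ b ∈ D, a * b ∈ C ↔ (a ∈ C ↔ b ∈ C) := by
    intro C hC hCc a ha b hb
    have e := card_relIndex hC
    rw [hCc, hDc] at e
    have h2 : (C.subgroupOf D).index = 2 := by
      show C.relIndex D = 2
      omega
    exact Subgroup.mul_mem_iff_of_index_two h2 (a := (⟨a, ha⟩ : D)) (b := ⟨b, hb⟩)
  have hne12 : C1 ≠ C2 := by
    intro e
    obtain ⟨p, hp, r, hr, hpr⟩ : ∃ p ∈ C1, ∃ r ∈ C1, cm p r = z := by
      by_contra hc
      push Not at hc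
      have := L.card_abelian (W := C1) inf_le_left fun p hp r hr => cm_eq_one_iff.1
        ((L.ctx.cases_zpowers_z (L.cm_mem_z hp.1 hr.1)).resolve_right (hc p hp r hr))
      omega
    refine hvz ?_
    have hv' : cm (c * p * c⁻¹) (c * r * c⁻¹) = v := by rw [← c1, ← hpr]; simp only [cm]; group
    exact hv' ▸ L.cm_mem_z (e.ge (m2 hp)).1 (e.ge (m2 hr)).1
  have hne13 : C1 ≠ C3 := by
    intro e
    refine hne12 (Subgroup.eq_of_le_of_card_ge (fun y hy => ?_) (by rw [h1c, h2c]))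
    have h1 : c * (c * y * c⁻¹) * c⁻¹ ∈ C1 := e.ge (m3 (m2 hy))
    exact m3' (m1' h1)
  have hne23 : C2 ≠ C3 := fun e => hne12 (Subgroup.map_injective (MulAut.conj c).injective e)
  obtain ⟨p, hp1, hp2⟩ : ∃ p ∈ C1, p ∉ C2 := SetLike.not_le_iff_exists.1 fun hle =>
    hne12 (Subgroup.eq_of_le_of_card_ge hle (by rw [h1c, h2c]))
  set I := C1 ⊓ C2 with hI
  obtain ⟨i, hiI, hi3⟩ : ∃ i ∈ I, i ∉ C3 := by
    refine SetLike.not_le_iff_exists.1 fun hle => ?_
    obtain ⟨y, hy, hyI⟩ : ∃ y ∈ C3, y ∉ I := SetLike.not_le_iff_exists.1 fun hle' =>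
      hne13 (Subgroup.eq_of_le_of_card_ge (hle'.trans inf_le_left) (by rw [h1c, h3c])).symm
    by_cases hy1 : y ∈ C1
    · have hy2 : y ∉ C2 := fun h => hyI ⟨hy1, h⟩
      refine hne13 (Subgroup.eq_of_le_of_card_ge (fun a ha => ?_) (by rw [h1c, h3c]))
      by_cases ha2 : a ∈ C2
      · exact hle ⟨ha, ha2⟩
      · have : a * y ∈ I := ⟨mul_mem ha hy1,
          (hidx C2 hC2D h2c a (hC1D ha) y (hC1D hy1)).2 (iff_of_false ha2 hy2)⟩
        exact (mul_mem_cancel_right hy).1 (hle this)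
    by_cases hy2 : y ∈ C2
    · refine hne23 (Subgroup.eq_of_le_of_card_ge (fun a ha => ?_) (by rw [h2c, h3c]))
      by_cases ha1 : a ∈ C1
      · exact hle ⟨ha1, ha⟩
      · have : a * y ∈ I := ⟨(hidx C1 hC1D h1c a (hC2D ha) y (hC2D hy2)).2 (iff_of_false ha1 hy1),
          mul_mem ha hy2⟩
        exact (mul_mem_cancel_right hy).1 (hle this)
    · exact hd3 ((mul_mem_cancel_right hy).1 (hle
        ⟨(hidx C1 hC1D h1c d hdD y (hC3D hy)).2 (iff_of_false hd1 hy1),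
          (hidx C2 hC2D h2c d hdD y (hC3D hy)).2 (iff_of_false hd2 hy2)⟩))
  have hIc : Nat.card I = 8 := by
    have h2 : (I.subgroupOf C1).index = 2 := by
      rw [index_eq_two_iff]
      refine ⟨⟨p, hp1⟩, fun a => ?_⟩
      have h := hidx C2 hC2D h2c a (hC1D a.2) p (hC1D hp1)
      simp only [mem_subgroupOf, Subgroup.coe_mul, hI, mem_inf, mul_mem a.2 hp1, a.2, true_and]
      by_cases ha : (a : G) ∈ C2 <;> simp [h, ha, hp2]
    have e := card_relIndex (inf_le_left : I ≤ C1)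
    rw [show I.relIndex C1 = 2 from h2, h1c] at e
    have e' : Nat.card I * 2 = 16 := e
    omega
  set J := I ⊓ C3 with hJ
  have hJc : Nat.card J = 4 := by
    have h2 : (J.subgroupOf I).index = 2 := by
      rw [index_eq_two_iff]
      refine ⟨⟨i, hiI⟩, fun a => ?_⟩
      have h := hidx C3 hC3D h3c a (hC1D a.2.1) i (hC1D hiI.1)
      simp only [mem_subgroupOf, Subgroup.coe_mul, hJ, mem_inf, mul_mem a.2 hiI, a.2, true_and]
      by_cases ha : (a : G) ∈ C3 <;> simp [h, ha, hi3]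
    have e := card_relIndex (inf_le_left : J ≤ I)
    rw [show J.relIndex I = 2 from h2, hIc] at e
    have e' : Nat.card J * 2 = 8 := e
    omega
  have hz1 : z ∈ C1 := ⟨L.z_mem, mem_cen.2 (mem_cen.1 (L.Q_le hvQ)).symm⟩
  have hv1 : v ∈ C1 := ⟨hvQ, mem_cen.2 (Commute.refl v)⟩
  have hv2 : v ∈ C2 := c1 ▸ m2 hz1
  have hz2 : z ∈ C2 := c3 ▸ m2 (mul_mem hv1 hz1)
  have hzJ : z ∈ J := ⟨⟨hz1, hz2⟩, c3 ▸ m3 (mul_mem hv2 hz2)⟩
  have hvJ : v ∈ J := ⟨⟨hv1, hv2⟩, c1 ▸ m3 hz2⟩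
  have hEJ : zpowers z ⊔ zpowers v = J := Subgroup.eq_of_le_of_card_ge
    (sup_le (zpowers_le.2 hzJ) (zpowers_le.2 hvJ))
    (by rw [hJc, L.ctx.card_pair g.sq (mem_cen.1 (L.Q_le hvQ)) hvz])
  set d' := c * d * c⁻¹ with hd'
  have hd'D : d' ∈ D := (mem_normalizer_iff.1 hcD d).1 hdD
  have hprod : ∀ a ∈ D, a ∉ C1 → a ∉ C2 → a ∉ C3 → ∀ b ∈ D, b ∉ C1 → b ∉ C2 → b ∉ C3 → a * b ∈ J :=
    fun a ha a1 a2 a3 b hb b1 b2 b3 =>
      ⟨⟨(hidx C1 hC1D h1c a ha b hb).2 (iff_of_false a1 b1),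
        (hidx C2 hC2D h2c a ha b hb).2 (iff_of_false a2 b2)⟩,
        (hidx C3 hC3D h3c a ha b hb).2 (iff_of_false a3 b3)⟩
  have hdd : d * d ∈ J := hprod d hdD hd1 hd2 hd3 d hdD hd1 hd2 hd3
  have hε : d' * d⁻¹ ∈ J := hprod d' hd'D (fun h => hd3 (m1' h)) (fun h => hd1 (m2' h))
    (fun h => hd2 (m3' h)) d⁻¹ (inv_mem hdD) (fun h => hd1 (inv_mem_iff.1 h))
    (fun h => hd2 (inv_mem_iff.1 h)) (fun h => hd3 (inv_mem_iff.1 h))
  set ε := d' * d⁻¹ with hεd
  have hεc : Commute ε d := by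
    have hle : zpowers z ⊔ zpowers v ≤ Cen d := sup_le (zpowers_le.2 (mem_cen.2 (mem_cen.1 (L.S_le hd)).symm))
      (zpowers_le.2 (mem_cen.2 hdv.symm))
    exact mem_cen.1 (hle (hEJ.ge hε))
  have hε2 : ε * ε = 1 := L.ctx.sq_pair g.sq (mem_cen.1 (L.Q_le hvQ)) ε (hEJ.ge hε)
  have hfix : c * (d * d) * c⁻¹ = d * d := by
    calc c * (d * d) * c⁻¹ = d' * d' := by rw [hd']; group
      _ = ε * d * (ε * d) := by rw [hεd]; group
      _ = ε * (d * ε) * d := by group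
      _ = ε * ε * (d * d) := by rw [← hεc.eq]; group
      _ = d * d := by rw [hε2, one_mul]
  left
  rcases (L.ctx.mem_pair g.sq (mem_cen.1 (L.Q_le hvQ))).1 (hEJ.ge hdd) with e | e | e | e
  · exact e
  · rw [e, c1] at hfix
    exact absurd hfix g.ne
  · have e' : d * d = v := (eq_inv_of_mul_eq_one_left e).trans g.inv_self
    rw [e', c2] at hfix
    exact absurd (mul_eq_left.1 hfix) L.ctx.z_ne
  · have e' : d * d = v * z := by
      calc d * d = d * d * v * v := by rw [mul_assoc (d * d), g.sq, mul_one]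
        _ = v * z := by rw [e, (mem_cen.1 (L.Q_le hvQ)).eq]
    rw [e', c3] at hfix
    exact absurd (mul_eq_right.1 hfix.symm) g.ne_one

/-- The elementary abelian subgroup of order sixteen. -/
theorem exists_A : ∃ (e : G) (A : Subgroup G), Good z (S : Subgroup G) e ∧
    A = (S : Subgroup G) ⊓ Cen u ⊓ Cen e ∧ Nat.card A = 16 ∧ (∀ a ∈ A, a * a = 1) ∧
    z ∈ A ∧ u ∈ A ∧ e ∈ A ∧ ∃ a ∈ A, a ∉ Q := by
  obtain ⟨e, heQ, heU, gS, heu, s, hsS, hsQ, hse⟩ := L.exists_e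
  have hez : e ∉ zpowers z := fun h => heU ((zpowers_le.2 z_mem_three) h)
  have heuz : e * u ∉ zpowers z := fun h => heU (by
    rw [show e = e * u * u by rw [mul_assoc, L.good.sq, mul_one]]
    exact mul_mem ((zpowers_le.2 z_mem_three) h) a_mem_three)
  have hezc : Commute e z := mem_cen.1 (L.Q_le heQ)
  set A := (S : Subgroup G) ⊓ Cen u ⊓ Cen e with hA
  set B := threeSub z u e with hB
  have hBsq : ∀ b ∈ B, b * b = 1 := L.ctx.sq_three L.good.sq gS.sq L.uz hezc heu.symm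
  have hBc : Nat.card B = 8 := L.ctx.card_three L.good.sq gS.sq L.uz hezc heu.symm
    (L.ctx.good_not_mem L.good) hez heuz
  have hBQ : B ≤ Q := threeSub_le L.z_mem L.good.mem heQ
  have hBA : B ≤ A := threeSub_le
    ⟨⟨L.z_mem_S, mem_cen.2 L.uz.symm⟩, mem_cen.2 hezc.symm⟩
    ⟨⟨L.goodS.mem, mem_cen.2 (Commute.refl u)⟩, mem_cen.2 heu.symm⟩
    ⟨⟨gS.mem, mem_cen.2 heu⟩, mem_cen.2 (Commute.refl e)⟩
  have hAQ : ∀ a ∈ A, a ∈ Q → a ∈ B := by
    intro a ha haQ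
    refine L.mem_of_commute hBQ hBc (fun p hp q hq => comm_of_sq hBsq hp hq) haQ fun b hb => ?_
    have hle : B ≤ Cen a := threeSub_le (mem_cen.2 (mem_cen.1 (L.S_le ha.1.1)).symm)
      (mem_cen.2 (mem_cen.1 ha.1.2).symm) (mem_cen.2 (mem_cen.1 ha.2).symm)
    exact (mem_cen.1 (hle hb)).symm
  obtain ⟨a1, ha1, ha1Q⟩ : ∃ a ∈ A, a ∉ Q := by
    rcases L.ctx.cases_zpowers_z (L.goodS.cent s hsS) with hsu | hsu
    · exact ⟨s, ⟨⟨hsS, mem_cen.2 (cm_eq_one_iff.1 hsu)⟩, mem_cen.2 hse⟩, hsQ⟩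
    obtain ⟨q, hq, hqu, hqe⟩ : ∃ q ∈ Q, cm q u = z ∧ cm q e = 1 := by
      obtain ⟨q, hq, hqu⟩ := L.exists_cm L.good.mem (L.ctx.good_not_mem L.good)
      rcases L.ctx.cases_zpowers_z (L.cm_mem_z hq heQ) with hqe | hqe
      · exact ⟨q, hq, hqu, hqe⟩
      obtain ⟨r, hr, hre⟩ := L.exists_cm (mul_mem heQ L.good.mem) heuz
      rw [L.ctx.cm_mul_right L.Q_le hr heQ (L.good.cent r hr)] at hre
      rcases L.ctx.cases_zpowers_z (L.cm_mem_z hr heQ) with h1 | h1
      · exact ⟨r, hr, by rwa [h1, one_mul] at hre, h1⟩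
      · rw [h1, mul_eq_left] at hre
        refine ⟨q * r, mul_mem hq hr, ?_, ?_⟩
        · rw [L.ctx.cm_mul_left L.Q_le hq L.good.mem (L.good.cent r hr), hqu, hre, mul_one]
        · rw [L.ctx.cm_mul_left L.Q_le hq heQ (L.cm_mem_z hr heQ), hqe, h1, L.ctx.z_sq]
    refine ⟨q * s, ⟨⟨mul_mem (L.d6.Q_le_S hq) hsS, mem_cen.2 (cm_eq_one_iff.1 ?_)⟩,
      mem_cen.2 (cm_eq_one_iff.1 ?_)⟩, fun h => hsQ ((mul_mem_cancel_left hq).1 h)⟩
    · rw [L.ctx.cm_mul_left L.S_le (L.d6.Q_le_S hq) L.goodS.mem (L.goodS.cent s hsS), hqu, hsu, L.ctx.z_sq]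
    · rw [L.ctx.cm_mul_left L.S_le (L.d6.Q_le_S hq) gS.mem (gS.cent s hsS), hqe, one_mul,
        cm_eq_one_iff.2 hse]
  have ha1i : a1⁻¹ ∉ Q := fun h => ha1Q (inv_inv a1 ▸ inv_mem h)
  have hdec : ∀ a ∈ A, a ∈ B ∨ a * a1⁻¹ ∈ B := fun a ha => by
    by_cases haQ : a ∈ Q
    · exact Or.inl (hAQ a ha haQ)
    · exact Or.inr (hAQ _ (mul_mem ha (inv_mem ha1))
        (L.d6.mul_mem_Q ha.1.1 (inv_mem ha1.1.1) haQ ha1i))
  have hsq1 : a1 * a1 = 1 := by
    rcases L.sq_cases L.goodS L.good.mem ha1.1.1 ha1Q (mem_cen.1 ha1.1.2) with e1 | e1 | e1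
    · exact e1
    all_goals
      rcases L.sq_cases gS heQ ha1.1.1 ha1Q (mem_cen.1 ha1.2) with e2 | e2 | e2
      · exact e2
      all_goals
        exfalso
        rw [e1] at e2
        apply heU
    · exact e2 ▸ a_mem_three
    · rw [show e = u * z by rw [e2, mul_assoc, L.ctx.z_sq, mul_one]]
      exact mul_mem a_mem_three z_mem_three
    · exact e2 ▸ mul_mem a_mem_three z_mem_three
    · rw [← mul_right_cancel e2]
      exact a_mem_three
  have hBa : B ≤ Cen a1 := threeSub_le (mem_cen.2 (mem_cen.1 (L.S_le ha1.1.1)).symm)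
    (mem_cen.2 (mem_cen.1 ha1.1.2).symm) (mem_cen.2 (mem_cen.1 ha1.2).symm)
  have hAsq : ∀ a ∈ A, a * a = 1 := by
    intro a ha
    rcases hdec a ha with h | h
    · exact hBsq a h
    · have hc : Commute (a * a1⁻¹) a1 := mem_cen.1 (hBa h)
      rw [show a = a * a1⁻¹ * a1 by group]
      set b := a * a1⁻¹ with hb
      rw [show b * a1 * (b * a1) = b * (a1 * b) * a1 by group, ← hc.eq,
        show b * (b * a1) * a1 = b * b * (a1 * a1) by group, hBsq b h, hsq1, one_mul]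
  have hAc : Nat.card A = 16 := by
    have h2 : (B.subgroupOf A).index = 2 := by
      rw [index_eq_two_iff]
      refine ⟨⟨a1, ha1⟩, fun a => ?_⟩
      simp only [mem_subgroupOf, Subgroup.coe_mul]
      have hi : a1⁻¹ = a1 := inv_eq_of_mul_eq_one_right hsq1
      have h := hdec a a.2
      rw [hi] at h
      have ha1B : a1 ∉ B := fun h => ha1Q (hBQ h)
      by_cases haB : (a : G) ∈ B
      · exact Or.inr ⟨haB, fun h' => ha1B ((mul_mem_cancel_left haB).1 h')⟩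
      · exact Or.inl ⟨h.resolve_left haB, haB⟩
    have e' := card_relIndex hBA
    rw [show B.relIndex A = 2 from h2, hBc] at e'
    omega
  exact ⟨e, A, gS, rfl, hAc, hAsq, hBA z_mem_three, hBA a_mem_three, hBA b_mem_three, a1, ha1, ha1Q⟩

end Large

end Cfsg.Agent.Lib.SelfCentSix9
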