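import Cfsg.Agent.Lib.SelfCentSix9.Six.LargeEight

/-!
# A 2-local subgroup above `C(z)`

If `1 ≠ N ≤ Q` is normalised by `C(z)` and `N(N) ≠ C(z)`, then `|Q| = 32` and `O₂(N(N))` is a
subgroup of order eight of `Q` containing its centraliser.
-/

set_option autoImplicit false

namespace Cfsg.Agent.Lib.SelfCentSix9

open Subgroup
open Cfsg.Agent.Lib.Spectrum.SelfThree

universe u

variable {G : Type u} [Group G]

/-- Comparing 2-parts. -/
theorem two_part_eq {a b r m : ℕ} (h : 2 ^ a * r = 2 ^ b * m) (hr : ¬ 2 ∣ r) (hm : ¬ 2 ∣ m) : a = b := by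
  have key : ∀ {a b r m : ℕ}, 2 ^ a * r = 2 ^ b * m → ¬ 2 ∣ m → a ≤ b := by
    intro a b r m h hm
    refine (Nat.pow_dvd_pow_iff_le_right (by norm_num : 1 < 2)).1 ?_
    exact (Nat.Coprime.pow_left a (Nat.prime_two.coprime_iff_not_dvd.2 hm)).dvd_of_dvd_mul_right ⟨r, h.symm⟩
  exact le_antisymm (key h hm) (key h.symm hr)

variable [Finite G] {z x u : G} {Q : Subgroup G} {S : Sylow 2 G}

namespace Large

variable (L : Large z x u Q S)
include L

/-- The image of `x` in a 2-local above `C(z)` is self-centralising. -/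
theorem sc_quotient {M : Subgroup G} {D : Subgroup M} [D.Normal] (hxM : x ∈ M) (hD : IsPGroup 2 D)
    (hzD : z ∈ D.map M.subtype) (hDQ : D.map M.subtype ≤ Q) :
    SC ((⟨x, hxM⟩ : M) : M ⧸ D) := by
  classical
  have : Fact (Nat.Prime 3) := ⟨Nat.prime_three⟩
  set x' : M := ⟨x, hxM⟩ with hx'
  have hx3 : orderOf x' = 3 := by rw [hx', Subgroup.orderOf_mk]; exact L.ctx.hx
  have hxD : x' ∉ D := fun hm => by
    have hd := orderOf_dvd_natCard D hm
    obtain ⟨n, hn⟩ := hD.exists_card_eq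
    rw [hn, hx3] at hd
    exact absurd (Nat.prime_three.dvd_of_dvd_pow hd) (by norm_num)
  have hord : orderOf (x' : M ⧸ D) = 3 := by
    refine orderOf_eq_prime ?_ fun e => hxD ((QuotientGroup.eq_one_iff _).1 e)
    rw [← QuotientGroup.mk_pow, ← hx3, pow_orderOf_eq_one, QuotientGroup.mk_one]
  refine ⟨hord, fun y hy => ?_⟩
  obtain ⟨g, rfl⟩ := QuotientGroup.mk_surjective y
  set T : Subgroup M := zpowers x' ⊔ D with hT
  have hTc : Nat.card T ∣ 3 * Nat.card D := by
    rw [← hx3, ← Nat.card_zpowers]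
    exact Cores.card_sup_dvd_mul _ _
  have hyT : g * x' * g⁻¹ ∈ T := by
    have h1 : x'⁻¹ * (g * x' * g⁻¹) ∈ D := by
      rw [← QuotientGroup.eq, QuotientGroup.mk_mul, QuotientGroup.mk_mul, QuotientGroup.mk_inv, hy,
        mul_inv_cancel_right]
    rw [show g * x' * g⁻¹ = x' * (x'⁻¹ * (g * x' * g⁻¹)) by group]
    exact mul_mem (mem_sup_left (mem_zpowers x')) (mem_sup_right h1)
  -- both subgroups of order three are Sylow subgroups of `T`
  have hsyl : ∀ c : M, c ∈ T → orderOf c = 3 → ∃ P : Sylow 3 T, (P : Subgroup T) = (zpowers c).subgroupOf T := by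
    intro c hc hco
    have hp : IsPGroup 3 ((zpowers c).subgroupOf T) :=
      IsPGroup.of_card (n := 1) (by
        rw [Nat.card_congr (subgroupOfEquivOfLe (zpowers_le.2 hc)).toEquiv, Nat.card_zpowers, hco, pow_one])
    obtain ⟨P, hP⟩ := hp.exists_le_sylow
    refine ⟨P, (Subgroup.eq_of_le_of_card_ge hP ?_).symm⟩
    rw [Nat.card_congr (subgroupOfEquivOfLe (zpowers_le.2 hc)).toEquiv, Nat.card_zpowers, hco]
    obtain ⟨k, hk⟩ := P.isPGroup'.exists_card_eq
    have hd : 3 ^ k ∣ 3 * Nat.card D := hk ▸ ((P : Subgroup T).card_subgroup_dvd_card.trans hTc)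
    obtain ⟨n, hn⟩ := hD.exists_card_eq
    rw [hn] at hd
    have := Nat.le_of_dvd (by norm_num)
      ((Nat.Coprime.pow k n (by norm_num : Nat.Coprime 3 2)).dvd_of_dvd_mul_right hd)
    omega
  have hxT : x' ∈ T := mem_sup_left (mem_zpowers x')
  obtain ⟨P₁, hP₁⟩ := hsyl x' hxT hx3
  obtain ⟨P₂, hP₂⟩ := hsyl _ hyT (by rw [← MulAut.conj_apply, MulEquiv.orderOf_eq, hx3])
  obtain ⟨m, hm⟩ := MulAction.exists_smul_eq T P₂ P₁
  have hmem : (m : M) * (g * x' * g⁻¹) * (m : M)⁻¹ ∈ zpowers x' := by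
    have h1 := Subgroup.smul_mem_pointwise_smul (a := MulAut.conj m) (⟨_, hyT⟩ : T) _
      (show (⟨_, hyT⟩ : T) ∈ (P₂ : Subgroup T) by rw [hP₂]; exact mem_subgroupOf.2 (mem_zpowers _))
    rw [← Sylow.coe_subgroup_smul, hm, hP₁] at h1
    simpa [mem_subgroupOf] using h1
  have hmq : ((m : M) : M ⧸ D) ∈ zpowers (x' : M ⧸ D) := by
    have : T ≤ (zpowers (x' : M ⧸ D)).comap (QuotientGroup.mk' D) :=
      sup_le (zpowers_le.2 (mem_zpowers _)) (fun d hd => by
        rw [mem_comap, QuotientGroup.mk'_apply, (QuotientGroup.eq_one_iff _).2 hd]; exact one_mem _)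
    exact this m.2
  set k : M := (m : M) * g with hk
  have hkc : ((k : M) : M ⧸ D) * x' = x' * k := by
    obtain ⟨i, hi⟩ := mem_zpowers_iff.1 hmq
    rw [hk, QuotientGroup.mk_mul, ← hi]
    exact ((Commute.refl (x' : M ⧸ D)).zpow_left i).mul_left hy |>.eq
  have hconj : k * x' * k⁻¹ ∈ zpowers x' := by
    rw [show k * x' * k⁻¹ = (m : M) * (g * x' * g⁻¹) * (m : M)⁻¹ by rw [hk]; group]
    exact hmem
  have hkx : k * x' = x' * k := by
    obtain ⟨i, hi⟩ := mem_zpowers_iff.1 hconj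
    rw [← zpow_mod_orderOf, hx3] at hi
    have h1 : 0 ≤ i % ((3 : ℕ) : ℤ) := Int.emod_nonneg _ (by norm_num)
    have h2 : i % ((3 : ℕ) : ℤ) < 3 := Int.emod_lt_of_pos _ (by norm_num)
    generalize i % ((3 : ℕ) : ℤ) = j at h1 h2 hi
    interval_cases j
    · rw [zpow_zero, eq_comm, conj_eq_one_iff] at hi
      exact absurd (hi ▸ one_mem D) hxD
    · rw [zpow_one] at hi
      exact eq_mul_inv_iff_mul_eq.1 hi |>.symm
    · exfalso
      have h3 := congrArg (fun t : M => (t : M ⧸ D)) hi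
      simp only [QuotientGroup.mk_mul, QuotientGroup.mk_inv, hkc, mul_inv_cancel_right] at h3
      rw [show ((2 : ℤ)) = ((2 : ℕ) : ℤ) from rfl, zpow_natCast, pow_two, QuotientGroup.mk_mul,
        mul_eq_left] at h3
      exact hxD ((QuotientGroup.eq_one_iff _).1 h3)
  have hcom : Commute (k : G) x := congrArg Subtype.val hkx
  obtain ⟨z', hz', hzz⟩ := hzD
  have hDn : ((k * z' * k⁻¹ : M) : G) ∈ Q := hDQ ⟨_, Subgroup.Normal.conj_mem inferInstance z' hz' k, rfl⟩
  have hkz : Commute (k : G) z := by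
    have hzG : ((k * z' * k⁻¹ : M) : G) = (k : G) * z * (k : G)⁻¹ := by
      rw [← hzz]; rfl
    rw [hzG] at hDn
    rcases L.ctx.eq_of_commute_x L.two L.Q_le hDn
      ((hcom.mul_left L.ctx.comm).mul_left hcom.inv_left) with e | e
    · exact absurd (conj_eq_one_iff.1 e) L.ctx.z_ne
    · exact mul_inv_eq_iff_eq_mul.1 e
  obtain ⟨j, hj⟩ := mem_zpowers_iff.1 (L.ctx.cent _ hkz hcom)
  have hzM : z ∈ M := hzz ▸ z'.2
  have ek : k = ((⟨z, hzM⟩ : M) * x') ^ j := Subtype.ext (by simp [← hj, hx'])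
  have hkq : (k : M ⧸ D) ∈ zpowers (x' : M ⧸ D) := by
    rw [ek, QuotientGroup.mk_zpow, QuotientGroup.mk_mul,
      (QuotientGroup.eq_one_iff _).2 (show (⟨z, hzM⟩ : M) ∈ D by
        rw [show (⟨z, hzM⟩ : M) = z' from Subtype.ext hzz.symm]; exact hz'), one_mul]
    exact zpow_mem_zpowers _ j
  have e : (g : M ⧸ D) = ((m : M) : M ⧸ D)⁻¹ * k := by rw [hk, QuotientGroup.mk_mul]; group
  rw [e]
  exact mul_mem (inv_mem hmq) hkq

/-- An element of odd prime order other than three commutes with no nontrivial element of `Q`. -/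
theorem fpf {R : Subgroup G} {r : ℕ} (hr : r.Prime) (hr2 : r ≠ 2) (hr3 : r ≠ 3) (hR : IsPGroup r R)
    {D : Subgroup G} (hD : D ≤ Q) :
    ∀ y ∈ R, y ≠ 1 → ∀ s ∈ D, Commute y s → s = 1 := by
  intro y hy hy1 s hs hc
  by_contra hs1
  rcases L.prime_dvd hr (L.ctx.dvd_of_commute hr hR hy hy1 L.two (hD hs) hs1 hc) with e | e
  · exact hr2 e
  · exact hr3 e

/-- Lemma on a 2-local above `C(z)`. -/
theorem local_eight {N : Subgroup G} (hN1 : N ≠ ⊥) (hNQ : N ≤ Q)
    (hNn : Cen z ≤ normalizer (N : Set G)) (hne : ¬ normalizer (N : Set G) ≤ Cen z) :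
    Nat.card Q = 32 ∧ ∃ D : Subgroup G, N ≤ D ∧ D ≤ Q ∧ Nat.card D = 8 ∧ z ∈ D ∧
      normalizer (N : Set G) ≤ normalizer (D : Set G) ∧
      ∀ c ∈ normalizer (N : Set G), (∀ d ∈ D, Commute c d) → c ∈ D := by
  classical
  have : Fact (Nat.Prime 2) := ⟨Nat.prime_two⟩
  set M := normalizer (N : Set G) with hM
  set Dl : Subgroup M := Cfsg.pCore 2 M with hDl
  set D := Dl.map M.subtype with hD
  have hDp : IsPGroup 2 Dl := Cores.pCore_isPGroup 2
  have hDpG : IsPGroup 2 D := hDp.map _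
  have hDM : M ≤ normalizer (D : Set G) := by
    intro g hg
    refine mem_normalizer_of_conj fun y hy => ?_
    obtain ⟨y', hy', rfl⟩ := hy
    exact ⟨⟨g, hg⟩ * y' * ⟨g, hg⟩⁻¹, Subgroup.Normal.conj_mem inferInstance y' hy' _, rfl⟩
  have hDle : D ≤ M := map_subtype_le _
  have hDS : D ≤ (S : Subgroup G) := by
    have hp : IsPGroup 2 ((S : Subgroup G) ⊔ D : Subgroup G) :=
      S.isPGroup'.to_sup_of_normal_right' hDpG fun s hs => hDM (hNn (L.S_le hs))
    exact (S.3 hp le_sup_left) ▸ le_sup_right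
  have hDQ : D ≤ Q := L.le_Q_of_normal hDpG (hDS.trans L.S_le) (hNn.trans hDM)
  have hND : N ≤ D := by
    have : (N.subgroupOf M).Normal := normal_subgroupOf_of_le_normalizer le_rfl
    have h1 : N.subgroupOf M ≤ Dl := Cores.le_pCore
      ((L.two.to_le hNQ).of_equiv (subgroupOfEquivOfLe le_normalizer).symm)
    intro y hy
    exact ⟨⟨y, le_normalizer hy⟩, h1 (mem_subgroupOf.2 hy), rfl⟩
  have hHM : Nat.card (Cen z) < Nat.card M :=
    lt_of_le_of_ne (card_le_of_le hNn) fun e => hne (Subgroup.eq_of_le_of_card_ge hNn e.ge).ge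
  -- an involution `e` of `D`
  have hd2 : 2 ∣ Nat.card D := hDpG.card_eq_or_dvd.resolve_left fun e =>
    hN1 (le_bot_iff.1 (hND.trans (Subgroup.card_eq_one.1 e).le))
  obtain ⟨⟨e, heD⟩, heo⟩ := exists_prime_orderOf_dvd_card' 2 hd2
  rw [← Subgroup.orderOf_coe] at heo
  obtain ⟨g₀, hg₀⟩ := L.ctx.exists_conj heo
  have hCe : Nat.card (Cen e) = Nat.card (Cen z) := by
    have : Cen z = (Cen e).map (MulAut.conj g₀).toMonoidHom := by
      ext y
      constructor
      · intro hy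
        refine ⟨g₀⁻¹ * y * g₀, mem_cen.2 ?_, by simp [mul_assoc]⟩
        have := (mem_cen.1 hy).map (MulAut.conj g₀⁻¹)
        simp only [MulAut.conj_apply, inv_inv] at this
        rwa [show g₀⁻¹ * z * g₀ = e by rw [← hg₀]; group] at this
      · rintro ⟨y, hy, rfl⟩
        refine mem_cen.2 ?_
        have := (mem_cen.1 hy).map (MulAut.conj g₀)
        simp only [MulAut.conj_apply] at this
        rwa [hg₀] at this
    rw [this, card_map_of_injective (MulAut.conj g₀).injective]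
  -- the centraliser of `D` in `M` is in `D`
  have hcent : ∀ c ∈ M, (∀ d ∈ D, Commute c d) → c ∈ D := by
    set C := M ⊓ centralizer (D : Set G) with hC
    have hCe' : C ≤ Cen e := fun c hc => mem_cen.2 (mem_centralizer_iff.1 hc.2 e heD).symm
    have h3 : ∀ c ∈ C, orderOf c ≠ 3 := by
      intro c hc ho
      have hDc : D ≤ Cen c := fun d hd => mem_cen.2 (mem_centralizer_iff.1 hc.2 d hd)
      have h2 := L.ctx.two_card_le ho hDpG hDc
      have hDe : D = zpowers e := (Subgroup.eq_of_le_of_card_ge (zpowers_le.2 heD)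
        (by rw [Nat.card_zpowers, heo]; exact h2)).symm
      have hMe : M ≤ Cen e := by
        intro g hg
        have h1 : g * e * g⁻¹ ∈ zpowers e := hDe ▸ (mem_normalizer_iff.1 (hDM hg) e).1 heD
        obtain ⟨k, hk⟩ := mem_zpowers_iff.1 h1
        refine mem_cen.2 ?_
        rw [← zpow_mod_orderOf, heo] at hk
        rcases Int.emod_two_eq_zero_or_one k with e1 | e1
        · rw [show ((2 : ℕ) : ℤ) = 2 from rfl, e1, zpow_zero, eq_comm, conj_eq_one_iff] at hk
          simp [hk] at heo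
        · rw [show ((2 : ℕ) : ℤ) = 2 from rfl, e1, zpow_one] at hk
          exact mul_inv_eq_iff_eq_mul.1 hk.symm
      exact absurd ((card_le_of_le hMe).trans_eq hCe) (not_le.2 hHM)
    obtain ⟨n, -, hn⟩ := L.exists_card
    have hCp : IsPGroup 2 C := isPGroup_two_of_no_three
      (n := n + 1) (by rw [← hn, ← hCe]; exact card_dvd_of_le hCe') h3
    have : (C.subgroupOf M).Normal := by
      refine normal_subgroupOf_of_le_normalizer fun g hg => mem_normalizer_of_conj fun y hy => ?_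
      refine ⟨(mul_mem (mul_mem hg hy.1) (inv_mem hg) : g * y * g⁻¹ ∈ M), ?_⟩
      refine mem_centralizer_iff.2 fun d hd => ?_
      have hd' : g⁻¹ * d * g ∈ D := by
        have := (mem_normalizer_iff.1 (inv_mem (hDM hg)) d).1 hd
        rwa [inv_inv] at this
      have e1 := mem_centralizer_iff.1 hy.2 _ hd'
      calc d * (g * y * g⁻¹) = g * ((g⁻¹ * d * g) * y) * g⁻¹ := by group
        _ = g * y * g⁻¹ * d := by rw [e1]; group
    have h1 : C.subgroupOf M ≤ Dl := Cores.le_pCore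
      (hCp.of_equiv (subgroupOfEquivOfLe (inf_le_left : C ≤ M)).symm)
    intro c hc hcd
    exact ⟨⟨c, hc⟩, h1 (mem_subgroupOf.2 ⟨hc, mem_centralizer_iff.2 fun d hd => (hcd d hd).eq.symm⟩), rfl⟩
  have hzM : z ∈ M := hNn (L.Q_le L.z_mem)
  have hzD : z ∈ D := hcent z hzM fun d hd => (mem_cen.1 (L.Q_le (hDQ hd))).symm
  -- the quotient
  have hxM : x ∈ M := hNn L.ctx.x_mem
  set x' : M := ⟨x, hxM⟩ with hx'
  have hsc : SC (x' : M ⧸ Dl) := L.sc_quotient hxM hDp hzD hDQ
  have hcore : Cfsg.pCore 2 (M ⧸ Dl) = ⊥ := Cores.pCore_quotient_pCore (G := M) 2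
  have hDc : Nat.card D = Nat.card Dl := card_map_of_injective M.subtype_injective
  have hMc : Nat.card M = Nat.card (M ⧸ Dl) * Nat.card D := by
    rw [hDc]; exact card_eq_card_quotient_mul_card_subgroup Dl
  obtain ⟨a, ha⟩ := L.two.exists_card_eq
  obtain ⟨b, hb⟩ := hDpG.exists_card_eq
  have hr : ¬ 2 ∣ (S : Subgroup G).relIndex M := fun h2 =>
    S.not_dvd_index (h2.trans ⟨_, (relIndex_mul_index (L.S_le.trans hNn)).symm⟩)
  have hSM : Nat.card (S : Subgroup G) * (S : Subgroup G).relIndex M = Nat.card M :=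
    card_relIndex (L.S_le.trans hNn)
  have hxD : x ∈ normalizer (D : Set G) := hDM hxM
  have hDmod := L.ctx.card_mod hDpG (hDQ.trans L.Q_le) hzD hxD
  have hQmod := L.card_mod
  -- an invariant subgroup of the quotient of order prime to three gives order eight
  have height : ∀ (T : Subgroup (M ⧸ Dl)), (x' : M ⧸ Dl) ∈ normalizer (T : Set (M ⧸ Dl)) →
      ¬ 3 ∣ Nat.card T → ∀ r : ℕ, r.Prime → r ≠ 2 → r ≠ 3 → r ∣ Nat.card T → Nat.card D = 8 := by
    intro T hxT hT3 r hr hr2 hr3 hrT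
    set P := (T.comap (QuotientGroup.mk' Dl)).map M.subtype with hP
    have hPc : Nat.card P = Nat.card Dl * Nat.card T := by
      rw [hP, card_map_of_injective M.subtype_injective]
      exact QuotientGroup.card_preimage_mk Dl (T : Set (M ⧸ Dl))
    have hxP : x ∈ normalizer (P : Set G) := by
      refine mem_normalizer_of_conj fun y hy => ?_
      obtain ⟨y', hy', rfl⟩ := hy
      refine ⟨x' * y' * x'⁻¹, ?_, rfl⟩
      rw [SetLike.mem_coe, mem_comap, map_mul, map_mul, map_inv]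
      exact (mem_normalizer_iff.1 hxT _).1 hy'
    have hP3 : ¬ 3 ∣ Nat.card P := by
      rw [hPc, ← hDc, hb, Nat.prime_three.dvd_mul]
      exact not_or.2 ⟨fun hd => absurd (Nat.prime_three.dvd_of_dvd_pow hd) (by norm_num), hT3⟩
    obtain ⟨R, hRP, hR, hR1, hxR⟩ := exists_inv_sylow L.ctx.hx hxP hP3 hr
      (hrT.trans (Dvd.intro_left _ hPc.symm))
    exact L.ctx.card_eight hDpG (hDQ.trans L.Q_le) hzD hxD hr hr2 hr3 hR hR1 hxR
      ((hRP.trans (map_subtype_le _)).trans hDM) (L.fpf hr hr2 hr3 hR hDQ)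
  rcases shape hsc with ⟨N₀, hN₀, h3, hidx⟩ | ⟨N₀, hN₀, hexp, h60, -⟩ | ⟨h168, -⟩
  · -- soluble shape
    exfalso
    have hxN₀ : (x' : M ⧸ Dl) ∈ normalizer (N₀ : Set (M ⧸ Dl)) := by
      rw [normalizer_eq_top]; exact mem_top _
    have hnil : Group.IsNilpotent N₀ := Inv.isNilpotent hsc ⟨h3, hxN₀⟩
    have hodd : ¬ 2 ∣ Nat.card N₀ := by
      intro h2
      let P : Sylow 2 N₀ := default
      refine P.ne_bot_of_dvd_card h2 ?_
      have e := Cores.map_subtype_pCore 2 N₀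
      rw [hcore, inf_bot_eq, map_eq_bot_iff_of_injective _ N₀.subtype_injective] at e
      exact le_bot_iff.1 (e ▸ Cores.le_pCore P.isPGroup')
    have hsq : SC ((x' : M ⧸ Dl) : (M ⧸ Dl) ⧸ N₀) := hsc.quotient h3
    let φ : M →* (M ⧸ Dl) ⧸ N₀ := (QuotientGroup.mk' N₀).comp (QuotientGroup.mk' Dl)
    have htwo : ∀ q : M, (∃ n : ℕ, q ^ 2 ^ n = 1) → ∃ n : ℕ, orderOf (φ q) ∣ 2 ^ n := by
      rintro q ⟨n, hn⟩
      exact ⟨n, orderOf_dvd_of_pow_eq_one (by rw [← map_pow, hn, map_one])⟩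
    have hpow : ∀ y ∈ (S : Subgroup G), ∃ n : ℕ, ∀ hy : y ∈ M, (⟨y, hy⟩ : M) ^ 2 ^ n = 1 := by
      intro y hy
      obtain ⟨n, hn⟩ := S.isPGroup' ⟨y, hy⟩
      exact ⟨n, fun hy' => Subtype.ext (by simpa using congrArg Subtype.val hn)⟩
    rcases hidx with h3i | h6i
    · obtain ⟨w, hw, hwQ⟩ := L.d6.exists_out
      obtain ⟨q, hq, hwx⟩ := L.conj_x hw hwQ
      have htriv : ∀ y ∈ (S : Subgroup G), ∀ hy : y ∈ M, φ ⟨y, hy⟩ = 1 := by
        intro y hy hy'
        obtain ⟨n, hn⟩ := hpow y hy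
        obtain ⟨k, hk⟩ := htwo _ ⟨n, hn hy'⟩
        have hd : orderOf (φ ⟨y, hy'⟩) ∣ 3 := by
          rw [← h3i, index_eq_card]; exact _root_.orderOf_dvd_natCard _
        exact orderOf_eq_one_iff.1 (Nat.eq_one_of_dvd_coprimes (Nat.Coprime.pow_left k (by norm_num)) hk hd)
      have e1 : (⟨w, hNn (L.S_le hw)⟩ : M) * x' * ⟨w, hNn (L.S_le hw)⟩⁻¹ =
          ⟨q, hNn (L.Q_le hq)⟩ * x'⁻¹ := Subtype.ext hwx
      have e2 := congrArg φ e1
      rw [map_mul, map_mul, map_inv, map_mul, map_inv, htriv w hw, htriv q (L.d6.Q_le_S hq),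
        one_mul, one_mul, inv_one, mul_one, eq_inv_iff_mul_eq_one, ← pow_two] at e2
      have hd := orderOf_dvd_of_pow_eq_one e2
      rw [show φ x' = ((x' : M ⧸ Dl) : (M ⧸ Dl) ⧸ N₀) from rfl, hsq.ord] at hd
      norm_num at hd
    · -- `Q ≤ D`
      have hQM : Q ≤ M := L.Q_le.trans hNn
      set Qi := (Q.subgroupOf M).map φ with hQi
      have hQip : IsPGroup 2 Qi := (L.two.of_equiv (subgroupOfEquivOfLe hQM).symm).map _
      have hQle : Qi = ⊥ := by
        have h6 : Nat.card Qi ∣ 6 := by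
          rw [← h6i, index_eq_card]; exact Qi.card_subgroup_dvd_card
        obtain ⟨k, hk⟩ := hQip.exists_card_eq
        have h2 : Nat.card Qi ≤ 2 := by
          rw [hk] at h6 ⊢
          have h2' : 2 ^ k ∣ 2 :=
            (Nat.Coprime.pow_left k (by norm_num : Nat.Coprime 2 3)).dvd_of_dvd_mul_right
              (show 2 ^ k ∣ 2 * 3 from h6)
          exact Nat.le_of_dvd (by norm_num) h2'
        refine eq_bot_iff.2 fun t ht => mem_bot.2 ?_
        by_contra ht1
        have hxt : φ x' * t * (φ x')⁻¹ ∈ Qi := by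
          obtain ⟨q, hq, rfl⟩ := ht
          refine ⟨x' * q * x'⁻¹, (mem_normalizer_iff.1 L.x_norm q).1 hq, ?_⟩
          rw [map_mul, map_mul, map_inv]
        have hpair : ({1, t} : Set ((M ⧸ Dl) ⧸ N₀)) = (Qi : Set ((M ⧸ Dl) ⧸ N₀)) := by
          refine Set.eq_of_subset_of_ncard_le (fun y hy => ?_) ?_ (Set.toFinite _)
          · rcases hy with rfl | rfl
            exacts [one_mem _, ht]
          · rw [Set.ncard_pair (Ne.symm ht1), ← Nat.card_coe_set_eq]
            exact h2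
        have hfix : φ x' * t * (φ x')⁻¹ = t := by
          have := hpair.ge hxt
          rcases this with e1 | e1
          · exact absurd (conj_eq_one_iff.1 e1) ht1
          · exact e1
        rcases hsq.cases_mem (hsq.cent t (mul_inv_eq_iff_eq_mul.1 hfix).symm) with e1 | e1 | e1
        · exact ht1 e1
        all_goals
          have ho : orderOf t ∣ Nat.card Qi := orderOf_dvd_natCard Qi ht
          rw [e1, show φ x' = ((x' : M ⧸ Dl) : (M ⧸ Dl) ⧸ N₀) from rfl] at *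
          simp only [orderOf_inv, hsq.ord] at ho
          have := Nat.le_of_dvd Nat.card_pos ho
          omega
      have hQD : Q ≤ D := by
        intro q hq
        refine ⟨⟨q, hQM hq⟩, ?_, rfl⟩
        rw [SetLike.mem_coe, ← QuotientGroup.eq_one_iff]
        have h1 : φ ⟨q, hQM hq⟩ = 1 := mem_bot.1 (hQle ▸ mem_map_of_mem φ (mem_subgroupOf.2 hq))
        have h2 : ((⟨q, hQM hq⟩ : M) : M ⧸ Dl) ∈ N₀ := (QuotientGroup.eq_one_iff _).1 h1
        obtain ⟨n, hn⟩ := hpow q (L.d6.Q_le_S hq)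
        refine orderOf_eq_one_iff.1 (Nat.eq_one_of_dvd_coprimes
          (Nat.Coprime.pow_left n (Nat.prime_two.coprime_iff_not_dvd.2 hodd))
          (orderOf_dvd_of_pow_eq_one ?_) (orderOf_dvd_natCard N₀ h2))
        rw [← QuotientGroup.mk_pow, hn (hQM hq), QuotientGroup.mk_one]
      have hQeq : D = Q := le_antisymm hDQ hQD
      have hN₀1 : Nat.card N₀ ≠ 1 := by
        intro e1
        have e2 := N₀.card_mul_index
        rw [e1, one_mul, h6i] at e2
        have : Nat.card M = Nat.card (Cen z) := by rw [hMc, ← e2, hQeq, L.card_H]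
        omega
      obtain ⟨r, hr', hrN⟩ := Nat.exists_prime_and_dvd hN₀1
      have hr2 : r ≠ 2 := fun e => hodd (e ▸ hrN)
      have hr3 : r ≠ 3 := fun e => h3 (e ▸ hrN)
      have h8 := height N₀ hxN₀ h3 r hr' hr2 hr3 hrN
      rw [hQeq] at h8
      obtain ⟨g, hg, hgH⟩ := Set.not_subset.1 hne
      exact L.norm_eight h8 (hQeq ▸ hDM hg) hgH
  · -- sixty
    exfalso
    have hN₀2 : IsPGroup 2 N₀ := fun n => ⟨1, Subtype.ext (by rw [pow_one]; exact hexp n n.2)⟩
    have hN₀b : N₀ = ⊥ := le_bot_iff.1 (hcore ▸ Cores.le_pCore hN₀2)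
    subst hN₀b
    have h60' : Nat.card (M ⧸ Dl) = 60 := by
      rw [← h60]; exact Nat.card_congr QuotientGroup.quotientBot.symm.toEquiv
    rw [L.d6.card_S, ha, hMc, h60', hb, ← pow_succ'] at hSM
    have e := two_part_eq (a := a + 1) (b := b + 2) (m := 15) (hSM.trans (by ring)) hr (by norm_num)
    rw [ha, show a = b + 1 by omega, pow_succ, ← hb] at hQmod
    omega
  · -- 168
    rw [L.d6.card_S, ha, hMc, h168, hb, ← pow_succ'] at hSM
    have e := two_part_eq (a := a + 1) (b := b + 3) (m := 21) (hSM.trans (by ring)) hr (by norm_num)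
    have : Fact (Nat.Prime 7) := ⟨by norm_num⟩
    have : Fact (Nat.Prime 3) := ⟨Nat.prime_three⟩
    let P₀ : Sylow 7 (M ⧸ Dl) := default
    have h3P : ¬ 3 ∣ Nat.card (Sylow 7 (M ⧸ Dl)) := by
      intro hd
      have h7c : Nat.card (P₀ : Subgroup (M ⧸ Dl)) = 7 := by
        rw [P₀.card_eq_multiplicity, h168, Nat.factorization_def 168 (Fact.out : Nat.Prime 7)]
        have : padicValNat 7 168 = 1 := by
          rw [show 168 = 7 * 24 from rfl, padicValNat.mul (by norm_num) (by norm_num),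
            padicValNat_self, padicValNat.eq_zero_of_not_dvd (by norm_num : ¬ 7 ∣ 24)]
        rw [this, pow_one]
      have h1 := card_sylow_modEq_one 7 (M ⧸ Dl)
      have h2 := P₀.card_dvd_index
      have h3 := (P₀ : Subgroup (M ⧸ Dl)).card_mul_index
      rw [h7c, h168] at h3
      rw [show (P₀ : Subgroup (M ⧸ Dl)).index = 24 by omega] at h2
      have hle := Nat.le_of_dvd (by norm_num) h2
      unfold Nat.ModEq at h1
      generalize Nat.card (Sylow 7 (M ⧸ Dl)) = c at h1 h2 hle hd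
      interval_cases c <;> omega
    have hz3 : IsPGroup 3 (zpowers (x' : M ⧸ Dl)) :=
      IsPGroup.of_card (n := 1) (by rw [hsc.card_zpowers, pow_one])
    obtain ⟨P, hP⟩ := hz3.nonempty_fixed_point_of_prime_not_dvd_card (Sylow 7 (M ⧸ Dl)) h3P
    have hxP : (x' : M ⧸ Dl) ∈ normalizer ((P : Subgroup (M ⧸ Dl)) : Set (M ⧸ Dl)) :=
      Sylow.smul_eq_iff_mem_normalizer.1 (hP ⟨_, mem_zpowers _⟩)
    have h7 : 7 ∣ Nat.card (P : Subgroup (M ⧸ Dl)) := P.dvd_card_of_dvd_card (by rw [h168]; norm_num)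
    have hP3 : ¬ 3 ∣ Nat.card (P : Subgroup (M ⧸ Dl)) := by
      obtain ⟨k, hk⟩ := P.isPGroup'.exists_card_eq
      rw [hk]
      exact fun hd => absurd (Nat.prime_three.dvd_of_dvd_pow hd) (by norm_num)
    have h8 := height _ hxP hP3 7 (Fact.out) (by norm_num) (by norm_num) h7
    refine ⟨?_, D, hND, hDQ, h8, hzD, hDM, hcent⟩
    rw [ha, show a = b + 2 by omega, pow_add, ← hb, h8]
    norm_num

end Large

end Cfsg.Agent.Lib.SelfCentSix9
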