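import Cfsg.Agent.Lib.SelfCentSix9.Six.LargeSmall

/-!
# The structure of `Q` of order 32

`C_Q(U) = U`, `Z(Q) = ⟨z⟩`, commutators and squares lie in `⟨z⟩`, and no abelian subgroup has order 16.
-/

set_option autoImplicit false

namespace Cfsg.Agent.Lib.SelfCentSix9

open Subgroup

universe u

variable {G : Type u} [Group G] [Finite G] {z x u : G} {Q : Subgroup G} {S : Sylow 2 G}

namespace Ctx

variable (h : Ctx G z x)
include h

omit [Finite G] in
theorem cm_inv_left {a p : G} (ha : a ∈ Cen z) (hc : cm a p ∈ zpowers z) : cm a⁻¹ p = cm a p := by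
  rw [show cm a⁻¹ p = a⁻¹ * (cm a p)⁻¹ * a⁻¹⁻¹ by simp only [cm]; group,
    h.conj_zpowers (inv_mem ha) (inv_mem hc), h.inv_eq_self hc]

omit [Finite G] in
/-- Commutation with `a` modulo `⟨z⟩` halves a subgroup moved by `a`. -/
theorem relIndex_cen {P : Subgroup G} (hPz : P ≤ Cen z) {a : G} (ha : a ∈ Cen z)
    (hc : ∀ p ∈ P, cm p a ∈ zpowers z) {p₀ : G} (hp₀ : p₀ ∈ P) (hm : cm p₀ a = z) :
    (P ⊓ Cen a).relIndex P = 2 := by
  rw [Subgroup.relIndex, index_eq_two_iff]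
  refine ⟨⟨p₀, hp₀⟩, fun s => ?_⟩
  have hsp : cm ((s : G) * p₀) a = cm (s : G) a * z := by
    rw [h.cm_mul_left le_rfl (hPz s.2) ha (hc p₀ hp₀), hm]
  simp only [mem_subgroupOf, Subgroup.coe_mul, mem_inf, mem_cen, mul_mem s.2 hp₀, s.2, true_and,
    ← cm_eq_one_iff, hsp]
  rcases h.cases_zpowers_z (hc s s.2) with e | e <;> rw [e]
  · exact Or.inr ⟨rfl, fun e' => h.z_ne (by simpa using e')⟩
  · exact Or.inl ⟨h.z_sq, h.z_ne⟩

omit [Finite G] in
theorem card_inf_cen {P : Subgroup G} (hPz : P ≤ Cen z) {a : G} (ha : a ∈ Cen z)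
    (hc : ∀ p ∈ P, cm p a ∈ zpowers z) {p₀ : G} (hp₀ : p₀ ∈ P) (hm : cm p₀ a = z) :
    2 * Nat.card (P ⊓ Cen a : Subgroup G) = Nat.card P := by
  have e := card_relIndex (inf_le_left : P ⊓ Cen a ≤ P)
  rw [h.relIndex_cen hPz ha hc hp₀ hm, mul_comm] at e
  exact e

end Ctx

namespace Large

variable (L : Large z x u Q S)
include L

theorem card_Q : Nat.card Q = 32 := L.thirty_two.1

theorem card_S : Nat.card (S : Subgroup G) = 64 := by rw [L.d6.card_S, L.card_Q]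

/-- The linear forms given by `u` and `x u x⁻¹` under the action of `x`. -/
theorem forms_conj {q : G} (hq : q ∈ Q) :
    cm (x * q * x⁻¹) (x * u * x⁻¹) = cm q u ∧
      cm (x * q * x⁻¹) u = cm q u * cm q (x * u * x⁻¹) := by
  have hq' : x * q * x⁻¹ ∈ Q := (mem_normalizer_iff.1 L.x_norm q).1 hq
  set u1 := x * u * x⁻¹ with hu1
  set u2 := x * u1 * x⁻¹ with hu2
  have hx := L.ctx.x_mem
  constructor
  · rw [hu1, show cm (x * q * x⁻¹) (x * u * x⁻¹) = x * cm q u * x⁻¹ by simp only [cm]; group,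
      L.ctx.conj_zpowers hx (L.good.cent q hq)]
  · have e : cm (x * q * x⁻¹) u = cm q u2 := by
      conv_lhs => rw [← L.x_u2]
      rw [show cm (x * q * x⁻¹) (x * u2 * x⁻¹) = x * cm q u2 * x⁻¹ by simp only [cm]; group,
        L.ctx.conj_zpowers hx (L.u2_good.cent q hq)]
    have e2 : cm q (u * u1 * u2) = cm q u * cm q u1 * cm q u2 := by
      rw [L.ctx.cm_mul_right L.Q_le hq (mul_mem L.good.mem L.u1_good.mem) (L.u2_good.cent q hq),
        L.ctx.cm_mul_right L.Q_le hq L.good.mem (L.u1_good.cent q hq)]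
    rw [cm_eq_one_iff.2 (L.ctx.comm_of_mem (L.Q_le hq) L.prod_mem)] at e2
    rw [e, eq_inv_of_mul_eq_one_right e2.symm,
      L.ctx.inv_eq_self (mul_mem (L.good.cent q hq) (L.u1_good.cent q hq))]

/-- Two elements of `Q` forming a dual frame to `u` and `x u x⁻¹`. -/
theorem exists_frame : ∃ q ∈ Q, cm q u = z ∧ cm q (x * u * x⁻¹) = 1 ∧
    cm (x * q * x⁻¹) u = z ∧ cm (x * q * x⁻¹) (x * u * x⁻¹) = z ∧
    cm (x * (x * q * x⁻¹) * x⁻¹) u = 1 ∧ cm (x * (x * q * x⁻¹) * x⁻¹) (x * u * x⁻¹) = z := by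
  obtain ⟨p, hp, hpu⟩ := L.thirty_two.2
  obtain ⟨q, hq, h0, h1⟩ : ∃ q ∈ Q, cm q u = z ∧ cm q (x * u * x⁻¹) = 1 := by
    rcases L.ctx.cases_zpowers_z (L.u1_good.cent p hp) with e | e
    · exact ⟨p, hp, hpu, e⟩
    · have hp' := (mem_normalizer_iff.1 L.x_norm p).1 hp
      have a1 := L.forms_conj hp
      rw [hpu, e, L.ctx.z_sq] at a1
      have a2 := L.forms_conj hp'
      rw [a1.1, a1.2, one_mul] at a2
      exact ⟨_, (mem_normalizer_iff.1 L.x_norm _).1 hp', a2.2, a2.1⟩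
  have a1 := L.forms_conj hq
  rw [h0, h1, mul_one] at a1
  have a2 := L.forms_conj ((mem_normalizer_iff.1 L.x_norm q).1 hq)
  rw [a1.1, a1.2, L.ctx.z_sq] at a2
  exact ⟨q, hq, h0, h1, a1.2, a1.1, a2.2, a2.1⟩

/-- `C_Q(U) = U`. -/
theorem mem_U {q : G} (hq : q ∈ Q) (h0 : cm q u = 1) (h1 : cm q (x * u * x⁻¹) = 1) : q ∈ uSub z x u := by
  obtain ⟨p, hp, p0, -, -, -, r0, r1⟩ := L.exists_frame
  set r := x * (x * p * x⁻¹) * x⁻¹ with hr
  have hrQ : r ∈ Q := (mem_normalizer_iff.1 L.x_norm _).1 ((mem_normalizer_iff.1 L.x_norm p).1 hp)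
  set P1 := Q ⊓ Cen u with hP1
  have c1 : 2 * Nat.card P1 = Nat.card Q :=
    L.ctx.card_inf_cen L.Q_le (L.Q_le L.good.mem) L.good.cent hp p0
  have c2 : 2 * Nat.card (P1 ⊓ Cen (x * u * x⁻¹) : Subgroup G) = Nat.card P1 :=
    L.ctx.card_inf_cen (inf_le_left.trans L.Q_le) (L.Q_le L.u1_good.mem)
      (fun s hs => L.u1_good.cent s hs.1) ⟨hrQ, mem_cen.2 (cm_eq_one_iff.1 r0)⟩ r1
  have hle : uSub z x u ≤ P1 ⊓ Cen (x * u * x⁻¹) := fun v hv =>
    ⟨⟨L.U_le hv, mem_cen.2 (L.U_comm hv a_mem_three)⟩, mem_cen.2 (L.U_comm hv b_mem_three)⟩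
  rw [L.card_Q] at c1
  exact (Subgroup.eq_of_le_of_card_ge hle (by rw [L.U_card]; omega)).ge
    ⟨⟨hq, mem_cen.2 (cm_eq_one_iff.1 h0)⟩, mem_cen.2 (cm_eq_one_iff.1 h1)⟩

/-- `Z(Q) = ⟨z⟩`. -/
theorem center_Q {q : G} (hq : q ∈ Q) (hc : ∀ p ∈ Q, Commute p q) : q ∈ zpowers z := by
  obtain ⟨p, hp, p0, p1, r0, r1, -⟩ := L.exists_frame
  set r := x * p * x⁻¹ with hr
  have hrQ : r ∈ Q := (mem_normalizer_iff.1 L.x_norm p).1 hp
  have hqU : q ∈ uSub z x u := L.mem_U hq (cm_eq_one_iff.2 (hc u L.good.mem).symm)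
    (cm_eq_one_iff.2 (hc _ L.u1_good.mem).symm)
  -- the value of `cm p` on `⟨z, u⟩`
  have key : ∀ t ∈ zpowers z ⊔ zpowers u, cm p t = 1 → t ∈ zpowers z := by
    intro t ht h1
    rcases (L.ctx.mem_pair L.good.sq L.uz).1 ht with e | e | e | e
    · exact e ▸ one_mem _
    · exact e ▸ mem_zpowers z
    all_goals
      exfalso
      have htu : cm p (t * u) = 1 := by
        rw [e]
        first | exact cm_eq_one_iff.2 (Commute.one_right p) | exact cm_eq_one_iff.2 (mem_cen.1 (L.Q_le hp))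
      rw [L.ctx.cm_mul_right L.Q_le hp (L.U_le (show t ∈ uSub z x u from mem_sup_left ht)) (L.good.cent p hp), h1, p0, one_mul] at htu
      exact L.ctx.z_ne htu
  rcases (mem_sup_invol L.u1_good.sq
    (L.ctx.pair_commute L.good.sq L.uz L.u1z L.comm_u1)).1 hqU with h | h
  · exact key q h (cm_eq_one_iff.2 (hc p hp))
  · exfalso
    set u1 := x * u * x⁻¹ with hu1
    have ht : q * u1 ∈ zpowers z := key _ h (by
      rw [L.ctx.cm_mul_right L.Q_le hp hq (p1 ▸ one_mem _), p1, cm_eq_one_iff.2 (hc p hp), one_mul])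
    have h2 : cm r (q * u1) = 1 := cm_eq_one_iff.2 (L.ctx.comm_of_mem (L.Q_le hrQ) ht)
    rw [L.ctx.cm_mul_right L.Q_le hrQ hq (r1 ▸ mem_zpowers z), r1, cm_eq_one_iff.2 (hc r hrQ), one_mul] at h2
    exact L.ctx.z_ne h2

omit [Finite G] in
/-- The linear form of a good involution takes its values in the abelian `⟨z⟩`. -/
theorem cm_cm {e : G} (g : Good z Q e) {a b : G} (ha : a ∈ Q) (hb : b ∈ Q) : cm (cm a b) e = 1 := by
  have hi : ∀ {c : G}, c ∈ Q → cm c⁻¹ e = cm c e := fun hc => L.ctx.cm_inv_left (L.Q_le hc) (g.cent _ hc)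
  have hc := fun {c d : G} (h1 : c ∈ Q) (h2 : d ∈ Q) =>
    L.ctx.cm_mul_left L.Q_le h1 g.mem (g.cent d h2)
  rw [show cm a b = a * b * a⁻¹ * b⁻¹ from rfl, hc (mul_mem (mul_mem ha hb) (inv_mem ha)) (inv_mem hb),
    hc (mul_mem ha hb) (inv_mem ha), hc ha hb, hi ha, hi hb]
  rcases L.ctx.cases_zpowers_z (g.cent a ha) with e1 | e1 <;>
    rcases L.ctx.cases_zpowers_z (g.cent b hb) with e2 | e2 <;> simp [e1, e2, L.ctx.z_sq]

/-- Commutators of `Q` lie in `⟨z⟩`. -/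
theorem cm_mem_z {a b : G} (ha : a ∈ Q) (hb : b ∈ Q) : cm a b ∈ zpowers z := by
  obtain ⟨p, hp, p0, p1, r0, r1, s0, s1⟩ := L.exists_frame
  set u1 := x * u * x⁻¹ with hu1
  set r := x * p * x⁻¹ with hr
  set s := x * r * x⁻¹ with hs
  have hrQ : r ∈ Q := (mem_normalizer_iff.1 L.x_norm p).1 hp
  have hsQ : s ∈ Q := (mem_normalizer_iff.1 L.x_norm r).1 hrQ
  have hf := fun {e c d : G} (g : Good z Q e) (h1 : c ∈ Q) (h2 : d ∈ Q) =>
    L.ctx.cm_mul_left L.Q_le h1 g.mem (g.cent d h2)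
  -- `[p, r] ∈ ⟨z⟩`
  have hpr : cm p r ∈ zpowers z := by
    set m := cm p r with hm
    have hmQ : m ∈ Q := mul_mem (mul_mem (mul_mem hp hrQ) (inv_mem hp)) (inv_mem hrQ)
    have hmU : m ∈ uSub z x u := L.mem_U hmQ (L.cm_cm L.good hp hrQ) (L.cm_cm L.u1_good hp hrQ)
    set t := (p * r)⁻¹ * s with ht
    have hi : cm (p * r)⁻¹ u = 1 ∧ cm (p * r)⁻¹ u1 = z := by
      rw [L.ctx.cm_inv_left (L.Q_le (mul_mem hp hrQ)) (L.good.cent _ (mul_mem hp hrQ)),
        L.ctx.cm_inv_left (L.Q_le (mul_mem hp hrQ)) (L.u1_good.cent _ (mul_mem hp hrQ)),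
        hf L.good hp hrQ, hf L.u1_good hp hrQ, p0, p1, r0, r1, L.ctx.z_sq, one_mul]
      exact ⟨rfl, rfl⟩
    have htQ : t ∈ Q := mul_mem (inv_mem (mul_mem hp hrQ)) hsQ
    have htU : t ∈ uSub z x u := L.mem_U htQ
      (by rw [ht, hf L.good (inv_mem (mul_mem hp hrQ)) hsQ, hi.1, s0, one_mul])
      (by rw [ht, hf L.u1_good (inv_mem (mul_mem hp hrQ)) hsQ, hi.2, s1, L.ctx.z_sq])
    have hw := L.U_cent hrQ htU
    have e : x * m * x⁻¹ = m⁻¹ * cm r t := by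
      have e1 : x * m * x⁻¹ = cm r s := by
        simp only [hm, hs, hr, cm]; group
      have e2 : cm r s = m⁻¹ * (p * (r * cm r t * r⁻¹) * p⁻¹) := by
        simp only [hm, ht, cm]; group
      rw [e1, e2, L.ctx.conj_zpowers (L.Q_le hrQ) hw, L.ctx.conj_zpowers (L.Q_le hp) hw]
    have hmi : m⁻¹ = m := inv_eq_of_mul_eq_one_right (L.U_sq hmU)
    have hfix : cm x m ∈ zpowers z := by
      rw [show cm x m = x * m * x⁻¹ * m⁻¹ from rfl, e, hmi]
      have : m * cm r t * m⁻¹ = cm r t := L.ctx.conj_zpowers (L.Q_le hmQ) hw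
      rw [hmi] at this
      rw [this]
      exact hw
    rcases L.ctx.mem_of_fixed_mod L.two L.Q_le hmQ hfix with e' | e' <;> rw [e']
    · exact one_mem _
    · exact mem_zpowers z
  -- any element is in a coset of `U` by `1`, `p`, `r` or `p r`
  have hgen : ∀ (T : Subgroup G), uSub z x u ≤ T → p ∈ T → r ∈ T → ∀ c ∈ Q, c ∈ T := by
    intro T hU hpT hrT c hc
    have step : ∀ d ∈ Q, d ∈ T → cm (c * d) u = 1 → cm (c * d) u1 = 1 → c ∈ T := by
      intro d hd hdT e0 e1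
      rw [show c = c * d * d⁻¹ by group]
      exact mul_mem (hU (L.mem_U (mul_mem hc hd) e0 e1)) (inv_mem hdT)
    have v0 := fun {d : G} (hd : d ∈ Q) => hf L.good hc hd
    have v1 := fun {d : G} (hd : d ∈ Q) => hf L.u1_good hc hd
    have hprv0 := hf L.good hp hrQ
    have hprv1 := hf L.u1_good hp hrQ
    rw [p0, r0, L.ctx.z_sq] at hprv0
    rw [p1, r1, one_mul] at hprv1
    rcases L.ctx.cases_zpowers_z (L.good.cent c hc) with e0 | e0 <;>
      rcases L.ctx.cases_zpowers_z (L.u1_good.cent c hc) with e1 | e1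
    · exact hU (L.mem_U hc e0 e1)
    · exact step _ (mul_mem hp hrQ) (mul_mem hpT hrT) (by rw [v0 (mul_mem hp hrQ), e0, hprv0, one_mul])
        (by rw [v1 (mul_mem hp hrQ), e1, hprv1, L.ctx.z_sq])
    · exact step _ hp hpT (by rw [v0 hp, e0, p0, L.ctx.z_sq]) (by rw [v1 hp, e1, p1, one_mul])
    · exact step _ hrQ hrT (by rw [v0 hrQ, e0, r0, L.ctx.z_sq]) (by rw [v1 hrQ, e1, r1, L.ctx.z_sq])
  let T : G → Subgroup G := fun c =>
    { carrier := {d | d ∈ Q ∧ cm c d ∈ zpowers z ∧ c ∈ Q ∨ d = 1}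
      one_mem' := Or.inr rfl
      mul_mem' := by
        rintro d e (⟨hd, hdc, hc⟩ | rfl) (⟨he, hec, hc'⟩ | rfl)
        · exact Or.inl ⟨mul_mem hd he, by rw [L.ctx.cm_mul_right L.Q_le hc hd hec]; exact mul_mem hdc hec, hc⟩
        · exact Or.inl ⟨by rwa [mul_one], by rwa [mul_one], hc⟩
        · exact Or.inl ⟨by rwa [one_mul], by rwa [one_mul], hc'⟩
        · exact Or.inr (one_mul 1)
      inv_mem' := by
        rintro d (⟨hd, hdc, hc⟩ | rfl)
        · refine Or.inl ⟨inv_mem hd, ?_, hc⟩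
          rw [show cm c d⁻¹ = d⁻¹ * (cm c d)⁻¹ * d⁻¹⁻¹ by simp only [cm]; group,
            L.ctx.conj_zpowers (inv_mem (L.Q_le hd)) (inv_mem hdc)]
          exact inv_mem hdc
        · exact Or.inr inv_one }
  have hT : ∀ {c d : G}, c ∈ Q → d ∈ T c → cm c d ∈ zpowers z := by
    rintro c d hc (⟨-, h, -⟩ | rfl)
    · exact h
    · simp [cm]
  have hsymm : ∀ {c d : G}, cm c d ∈ zpowers z → cm d c ∈ zpowers z := fun h => by
    rw [L.ctx.cm_symm h]; exact h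
  have hUT : ∀ {c : G}, c ∈ Q → uSub z x u ≤ T c := fun hc v hv =>
    Or.inl ⟨L.U_le hv, L.U_cent hc hv, hc⟩
  have hp_all : ∀ {c : G}, c ∈ Q → cm p c ∈ zpowers z := fun hc => hT hp
    (hgen (T p) (hUT hp) (Or.inl ⟨hp, by simp [cm], hp⟩) (Or.inl ⟨hrQ, hpr, hp⟩) _ hc)
  have hr_all : ∀ {c : G}, c ∈ Q → cm r c ∈ zpowers z := fun hc => hT hrQ
    (hgen (T r) (hUT hrQ) (Or.inl ⟨hp, hsymm hpr, hrQ⟩) (Or.inl ⟨hrQ, by simp [cm], hrQ⟩) _ hc)
  exact hT ha (hgen (T a) (hUT ha) (Or.inl ⟨hp, hsymm (hp_all ha), ha⟩)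
    (Or.inl ⟨hrQ, hsymm (hr_all ha), ha⟩) _ hb)

/-- Squares of `Q` lie in `⟨z⟩`. -/
theorem sq_mem_z {b : G} (hb : b ∈ Q) : b * b ∈ zpowers z := by
  refine L.center_Q (mul_mem hb hb) fun a ha => cm_eq_one_iff.1 ?_
  rw [L.ctx.cm_mul_right L.Q_le ha hb (L.cm_mem_z ha hb), L.ctx.mul_self_eq (L.cm_mem_z ha hb)]

/-- A noncentral element of `Q` is moved by some element. -/
theorem exists_cm {a : G} (ha : a ∈ Q) (haz : a ∉ zpowers z) : ∃ p ∈ Q, cm p a = z := by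
  by_contra hc
  push Not at hc
  exact haz (L.center_Q ha fun p hp =>
    cm_eq_one_iff.1 ((L.ctx.cases_zpowers_z (L.cm_mem_z hp ha)).resolve_right (hc p hp)))

/-- `|C_Q(a)| = 16` for `a ∉ Z(Q)`. -/
theorem card_cen {a : G} (ha : a ∈ Q) (haz : a ∉ zpowers z) : Nat.card (Q ⊓ Cen a : Subgroup G) = 16 := by
  obtain ⟨p, hp, e⟩ := L.exists_cm ha haz
  have := L.ctx.card_inf_cen L.Q_le (L.Q_le ha) (fun q hq => L.cm_mem_z hq ha) hp e
  rw [L.card_Q] at this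
  omega

/-- No abelian subgroup of `Q` has order sixteen or more. -/
theorem card_abelian {W : Subgroup G} (hW : W ≤ Q) (hab : ∀ a ∈ W, ∀ b ∈ W, Commute a b) :
    Nat.card W ≤ 8 := by
  by_contra h8
  have hdvd : Nat.card W ∣ 2 ^ 5 := (card_dvd_of_le hW).trans (dvd_of_eq (L.card_Q.trans (by norm_num)))
  have h16 : 16 ≤ Nat.card W := by
    obtain ⟨k, -, hk⟩ := (Nat.dvd_prime_pow Nat.prime_two).1 hdvd
    rw [hk] at h8 ⊢
    have : 4 ≤ k := by
      by_contra hc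
      exact h8 ((Nat.pow_le_pow_right (by norm_num : 0 < 2) (show k ≤ 3 by omega)).trans (by norm_num))
    exact (show 16 = 2 ^ 4 by norm_num) ▸ Nat.pow_le_pow_right (by norm_num : 0 < 2) this
  obtain ⟨q, hq, hqW⟩ : ∃ q ∈ Q, q ∉ W := by
    by_contra hc
    push Not at hc
    exact L.ctx.good_not_mem L.good (L.center_Q L.good.mem fun p hp => hab p (hc p hp) u (hc u L.good.mem))
  -- the part of `W` commuting with `q` is central
  have hcen : W ⊓ Cen q ≤ zpowers z := by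
    intro y hy
    refine L.center_Q (hW hy.1) fun p hp => ?_
    have hle : W ⊔ zpowers q ≤ Q ⊓ Cen y := sup_le (fun w hw => ⟨hW hw, mem_cen.2 (hab w hw y hy.1)⟩)
      (zpowers_le.2 ⟨hq, mem_cen.2 (mem_cen.1 hy.2).symm⟩)
    have hlt : Nat.card W < Nat.card (Q ⊓ Cen y : Subgroup G) := by
      refine lt_of_le_of_ne (card_le_of_le (le_sup_left.trans hle)) fun e => hqW ?_
      exact (Subgroup.eq_of_le_of_card_ge (le_sup_left.trans hle) e.ge).ge
        (hle (mem_sup_right (mem_zpowers q)))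
    by_cases hy' : y ∈ zpowers z
    · exact L.ctx.comm_of_mem (L.Q_le hp) hy'
    · rw [L.card_cen (hW hy.1) hy'] at hlt
      omega
  have hge : 8 ≤ Nat.card (W ⊓ Cen q : Subgroup G) := by
    by_cases hm : ∃ p ∈ W, cm p q = z
    · obtain ⟨p, hp, e⟩ := hm
      have := L.ctx.card_inf_cen (hW.trans L.Q_le) (L.Q_le hq) (fun w hw => L.cm_mem_z (hW hw) hq) hp e
      omega
    · push Not at hm
      rw [show W ⊓ Cen q = W from inf_eq_left.2 fun w hw => mem_cen.2 (cm_eq_one_iff.1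
        ((L.ctx.cases_zpowers_z (L.cm_mem_z (hW hw) hq)).resolve_right (hm w hw)))]
      omega
  have := card_le_of_le hcen
  rw [Nat.card_zpowers, L.ctx.hz] at this
  omega

/-- An element of `Q` centralising an abelian subgroup of order eight lies in it. -/
theorem mem_of_commute {M : Subgroup G} (hM : M ≤ Q) (h8 : Nat.card M = 8)
    (hab : ∀ a ∈ M, ∀ b ∈ M, Commute a b) {q : G} (hq : q ∈ Q) (hc : ∀ a ∈ M, Commute q a) : q ∈ M := by
  have hcomm : ∀ a ∈ (M : Set G) ∪ {q}, ∀ b ∈ (M : Set G) ∪ {q}, a * b = b * a := by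
    rintro a (ha | rfl) b (hb | rfl)
    exacts [hab a ha b hb, ((hc a ha).symm).eq, (hc b hb).eq, rfl]
  set W := closure ((M : Set G) ∪ {q}) with hW
  have hMW : M ≤ W := fun a ha => subset_closure (Or.inl ha)
  have := L.card_abelian (W := W) ((closure_le _).2 (Set.union_subset hM (by simpa using hq)))
    fun a ha b hb => by
      have := Subgroup.isMulCommutative_closure hcomm
      exact congrArg Subtype.val (this.is_comm.comm (⟨a, ha⟩ : W) ⟨b, hb⟩)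
  exact (Subgroup.eq_of_le_of_card_ge hMW (by omega)).ge (subset_closure (Or.inr rfl))

end Large

end Cfsg.Agent.Lib.SelfCentSix9
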