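import Cfsg.Agent.Lib.SelfCentSix9.Six.LargeBig
import Cfsg.Agent.Lib.LargeExtra.FourGroup
import Cfsg.Agent.S2751

/-!
# `|Q| = 32`

With `Ω₁(Z(S)) = ⟨z⟩` the normaliser of `⟨z, u⟩` and `C(z)` form a Goldschmidt amalgam, so `|Q| ∈ {8, 32}`,
and `|Q| = 8` is impossible.
-/

set_option autoImplicit false

namespace Cfsg.Agent.Lib.SelfCentSix9

open Subgroup

universe u

variable {G : Type u} [Group G] [Finite G] {z x u : G} {Q : Subgroup G} {S : Sylow 2 G}

namespace Large

variable (L : Large z x u Q S)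
include L

theorem exists_fuse : ∃ c : G, orderOf c = 3 ∧
    c ∈ normalizer (((S : Subgroup G) ⊓ Cen u : Subgroup G) : Set G) ∧
    c * z * c⁻¹ = u ∧ c * u * c⁻¹ = u * z ∧ c * (u * z) * c⁻¹ = z :=
  L.ctx.exists_fuse S L.S_le (fun _ hv => L.zOne_small hv) L.goodS

theorem card_D0 : 2 * Nat.card ((S : Subgroup G) ⊓ Cen u : Subgroup G) = Nat.card (S : Subgroup G) := by
  have e := card_relIndex (inf_le_left : (S : Subgroup G) ⊓ Cen u ≤ S)
  rw [L.ctx.relIndex_centralizer S L.S_le (fun _ hv => L.zOne_small hv) L.goodS] at e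
  omega

/-- `C(z) ∩ C(u) = C_S(u)`. -/
theorem cen_pair {y : G} (hz : Commute y z) (hu : Commute y u) :
    y ∈ (S : Subgroup G) ⊓ Cen u := by
  set T := Cen z ⊓ Cen u with hT
  have h3 : ∀ c ∈ T, orderOf c ≠ 3 := fun c hc ho => L.ctx.not_commute_two ho L.ctx.z_sq L.good.sq
    L.uz.symm L.ctx.z_ne L.good.ne_one L.good.ne.symm (mem_cen.1 hc.1) (mem_cen.1 hc.2)
  have hT2 := L.two_of_le inf_le_left h3
  obtain ⟨m, hm, hmS⟩ := L.exists_conj_le hT2 inf_le_left
  have hmap : T.map (MulAut.conj m).toMonoidHom ≤ (S : Subgroup G) := by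
    rintro _ ⟨t, ht, rfl⟩
    exact hmS t ht
  have hcT : Nat.card (T.map (MulAut.conj m).toMonoidHom) = Nat.card T :=
    card_map_of_injective (MulAut.conj m).injective
  have hdvd : Nat.card T ∣ Nat.card (S : Subgroup G) := hcT ▸ card_dvd_of_le hmap
  have hne : Nat.card T ≠ Nat.card (S : Subgroup G) := by
    intro e
    have heq := Subgroup.eq_of_le_of_card_ge hmap (by rw [hcT, e])
    have hcen : m * u * m⁻¹ ∈ zOne (S : Subgroup G) := by
      refine ⟨heq ▸ ⟨u, ⟨mem_cen.2 L.uz, mem_cen.2 (Commute.refl u)⟩, rfl⟩, fun s hs => ?_,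
        by rw [show m * u * m⁻¹ * (m * u * m⁻¹) = m * (u * u) * m⁻¹ by group, L.good.sq]; group⟩
      rw [← heq] at hs
      obtain ⟨t, ht, rfl⟩ := hs
      simpa [MulAut.conj_apply] using ((mem_cen.1 ht.2).map (MulAut.conj m)).eq
    rcases L.zOne_small hcen with e1 | e1
    · exact L.good.ne_one (conj_eq_one_iff.1 e1)
    · refine L.good.ne ?_
      calc u = m⁻¹ * (m * u * m⁻¹) * m⁻¹⁻¹ := by group
        _ = z := by rw [e1, L.ctx.conj_zpowers (inv_mem hm) (mem_zpowers z)]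
  have hle : (S : Subgroup G) ⊓ Cen u ≤ T := inf_le_inf L.S_le le_rfl
  obtain ⟨k, hk⟩ := hdvd
  have hcard := L.card_D0
  have h1 := card_le_of_le hle
  have hk2 : 2 ≤ k := by
    rcases k with _ | _ | k
    · have : 0 < Nat.card (S : Subgroup G) := Nat.card_pos
      simp at hk; omega
    · exact absurd (by simpa using hk.symm) hne
    · omega
  have hge : Nat.card T ≤ Nat.card ((S : Subgroup G) ⊓ Cen u : Subgroup G) := by nlinarith
  exact (Subgroup.eq_of_le_of_card_ge hle hge).ge ⟨mem_cen.2 hz, mem_cen.2 hu⟩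

/-- `|Q| = 32` and some element of `Q` moves `u`. -/
theorem thirty_two : Nat.card Q = 32 ∧ ∃ q ∈ Q, cm q u = z := by
  classical
  have : Fact (Nat.Prime 2) := ⟨Nat.prime_two⟩
  obtain ⟨c, hc3, hcD, c1, c2, c3⟩ := L.exists_fuse
  obtain ⟨q, hq, hqu⟩ := L.ctx.exists_moving S L.S_le (fun _ hv => L.zOne_small hv) L.goodS
  set D0 := (S : Subgroup G) ⊓ Cen u with hD0
  have hcH : c ∉ Cen z := fun hcz => L.good.ne (by rw [← c1, mul_inv_eq_iff_eq_mul.2 (mem_cen.1 hcz).eq])
  have hu2 : u * u = 1 := L.good.sq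
  have hQD : Q ≤ Cen u → Q = D0 := by
    intro hc
    refine Subgroup.eq_of_le_of_card_ge (le_inf L.d6.Q_le_S hc) ?_
    have := L.card_D0
    rw [L.d6.card_S] at this
    rw [hD0]; omega
  -- the four-group and its normaliser
  set E := zpowers z ⊔ zpowers u with hE
  have hzE : z ∈ E := mem_sup_left (mem_zpowers z)
  have huE : u ∈ E := mem_sup_right (mem_zpowers u)
  set M := normalizer (E : Set G) with hM
  have hmem : ∀ g : G, g * z * g⁻¹ ∈ E → g * u * g⁻¹ ∈ E → g ∈ M := fun g h1 h2 =>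
    mem_normalizer_of_conj fun y hy =>
      (sup_le (zpowers_le.2 h1) (zpowers_le.2 h2) : E ≤ E.comap (MulAut.conj g).toMonoidHom) hy
  have hcM : c ∈ M := hmem c (c1.symm ▸ huE) (c2.symm ▸ mul_mem huE hzE)
  have hSM : (S : Subgroup G) ≤ M := fun s hs => hmem s
    (by rw [L.ctx.conj_zpowers (L.S_le hs) (mem_zpowers z)]; exact hzE)
    (by
      rw [show s * u * s⁻¹ = cm s u * u by simp only [cm]; group]
      exact mul_mem ((zpowers_le.2 hzE) (L.goodS.cent s hs)) huE)
  have hEmem : ∀ y ∈ E, y = 1 ∨ y = z ∨ y = u ∨ y = u * z := by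
    intro y hy
    rcases (L.ctx.mem_pair hu2 L.uz).1 hy with e | e | e | e
    · exact Or.inl e
    · exact Or.inr (Or.inl e)
    · exact Or.inr (Or.inr (Or.inl ((eq_inv_of_mul_eq_one_left e).trans L.good.inv_self)))
    · refine Or.inr (Or.inr (Or.inr ?_))
      calc y = y * u * u := by rw [mul_assoc, hu2, mul_one]
        _ = u * z := by rw [e, L.uz.eq]
  let Ω := {y : G // y ∈ ({z, u, u * z} : Set G)}
  have huz : u * z ≠ z := fun e => L.good.ne_one (mul_eq_right.1 e)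
  have huz' : u * z ≠ u := fun e => L.ctx.z_ne (mul_eq_left.1 e)
  have huz1 : u * z ≠ 1 := fun e => L.good.ne ((eq_inv_of_mul_eq_one_left e).trans L.ctx.z_inv)
  have hΩ : Nat.card Ω = 3 := by
    show Nat.card (({z, u, u * z} : Set G) : Type _) = 3
    rw [Nat.card_coe_set_eq, Set.ncard_eq_three]
    exact ⟨z, u, u * z, L.good.ne.symm, huz.symm, huz'.symm, rfl⟩
  have hΩmem : ∀ (g : M) (y : Ω), (g : G) * y.1 * (g : G)⁻¹ ∈ ({z, u, u * z} : Set G) := by
    rintro ⟨g, hg⟩ ⟨y, hy⟩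
    have hy1 : y ≠ 1 := by rcases hy with rfl | rfl | rfl <;> [exact L.ctx.z_ne; exact L.good.ne_one; exact huz1]
    have hyE : y ∈ E := by rcases hy with rfl | rfl | rfl <;> [exact hzE; exact huE; exact mul_mem huE hzE]
    rcases hEmem _ ((mem_normalizer_iff.1 hg y).1 hyE) with e | e | e | e
    · exact absurd (conj_eq_one_iff.1 e) hy1
    all_goals simp [e]
  let : MulAction M Ω :=
    { smul := fun g y => ⟨(g : G) * y.1 * (g : G)⁻¹, hΩmem g y⟩
      one_smul := fun y => Subtype.ext (show ((1 : M) : G) * y.1 * ((1 : M) : G)⁻¹ = y.1 by simp)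
      mul_smul := fun g g' y => Subtype.ext (show ((g * g' : M) : G) * y.1 * ((g * g' : M) : G)⁻¹ =
        (g : G) * ((g' : G) * y.1 * (g' : G)⁻¹) * (g : G)⁻¹ by simp [mul_assoc]) }
  let φ : M →* Equiv.Perm (Fin 3) :=
    ((Finite.equivFinOfCardEq hΩ).permCongrHom.toMonoidHom).comp (MulAction.toPermHom M Ω)
  have hφ : ∀ g : M, φ g = 1 ↔ (g : G) ∈ D0 := by
    intro g
    rw [MonoidHom.comp_apply, MulEquiv.coe_toMonoidHom, EmbeddingLike.map_eq_one_iff]
    constructor
    · intro hg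
      have hz' := congrArg Subtype.val (Equiv.ext_iff.1 hg ⟨z, by simp⟩)
      have hu' := congrArg Subtype.val (Equiv.ext_iff.1 hg ⟨u, by simp⟩)
      exact L.cen_pair (mul_inv_eq_iff_eq_mul.1 hz') (mul_inv_eq_iff_eq_mul.1 hu')
    · intro hg
      have cz : Commute (g : G) z := mem_cen.1 (L.S_le hg.1)
      have cu : Commute (g : G) u := mem_cen.1 hg.2
      refine Equiv.ext fun ⟨y, hy⟩ => Subtype.ext ?_
      show (g : G) * y * (g : G)⁻¹ = y
      rcases hy with rfl | rfl | rfl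
      · exact mul_inv_eq_iff_eq_mul.2 cz.eq
      · exact mul_inv_eq_iff_eq_mul.2 cu.eq
      · exact mul_inv_eq_iff_eq_mul.2 (cu.mul_right cz).eq
  have hq0 : q ∉ D0 := fun h => by
    have e := mul_inv_eq_iff_eq_mul.2 (mem_cen.1 h.2).eq
    rw [hqu] at e
    exact huz' e
  have hcd0 : c ∉ D0 := fun h => hcH (L.S_le h.1)
  have hqq : q * q ∈ D0 := by
    refine ⟨mul_mem hq hq, mem_cen.2 (mul_inv_eq_iff_eq_mul.1 ?_)⟩
    calc q * q * u * (q * q)⁻¹ = q * (q * u * q⁻¹) * q⁻¹ := by group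
      _ = q * (u * z) * q⁻¹ := by rw [hqu]
      _ = (q * u * q⁻¹) * (q * z * q⁻¹) := by group
      _ = u := by
          rw [hqu, L.ctx.conj_zpowers (L.S_le hq) (mem_zpowers z), mul_assoc, L.ctx.z_sq, mul_one]
  have hsurj : Function.Surjective φ := by
    rw [← MonoidHom.range_eq_top]
    refine Subgroup.eq_top_of_le_card _ ?_
    have : Fact (Nat.Prime 3) := ⟨Nat.prime_three⟩
    have o2 : orderOf (φ ⟨q, hSM hq⟩) = 2 := orderOf_eq_prime
      (by rw [← map_pow, hφ, SubmonoidClass.coe_pow, pow_two]; exact hqq) fun e => hq0 ((hφ _).1 e)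
    have o3 : orderOf (φ ⟨c, hcM⟩) = 3 := orderOf_eq_prime
      (by rw [← map_pow, show (⟨c, hcM⟩ : M) ^ 3 = 1 from Subtype.ext (hc3 ▸ pow_orderOf_eq_one c), map_one])
      fun e => hcd0 ((hφ _).1 e)
    have d2 := orderOf_dvd_natCard φ.range (show φ ⟨q, hSM hq⟩ ∈ φ.range from ⟨_, rfl⟩)
    have d3 := orderOf_dvd_natCard φ.range (show φ ⟨c, hcM⟩ ∈ φ.range from ⟨_, rfl⟩)
    rw [o2] at d2
    rw [o3] at d3
    rw [Nat.card_eq_fintype_card (α := Equiv.Perm (Fin 3)), Fintype.card_perm, Fintype.card_fin]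
    rw [show Nat.factorial 3 = 2 * 3 from rfl]
    exact Nat.le_of_dvd Nat.card_pos (Nat.Coprime.mul_dvd_of_dvd_of_dvd (show Nat.Coprime 2 3 by norm_num) d2 d3)
  have hD0M : D0 ≤ M := inf_le_left.trans hSM
  have hker : φ.ker = D0.subgroupOf M := Subgroup.ext fun g => by
    rw [MonoidHom.mem_ker, hφ, mem_subgroupOf]
  have hcore : Cfsg.pCore 2 M = φ.ker := by
    refine le_antisymm ?_ (Cores.le_pCore (by
      rw [hker]
      exact (S.isPGroup'.to_le inf_le_left).of_equiv (subgroupOfEquivOfLe hD0M).symm))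
    have hn : ((Cfsg.pCore 2 M).map φ).Normal := Subgroup.Normal.map inferInstance _ hsurj
    rw [← Subgroup.map_eq_bot_iff]
    exact LargeExtra.FourGroup.normal_two_eq_bot _ ((Cores.pCore_isPGroup 2).map φ)
  have hinf : Cen z ⊓ M = (S : Subgroup G) := by
    refine le_antisymm ?_ (le_inf L.S_le hSM)
    rintro g ⟨hg, hgM⟩
    have hgz : Commute g z := mem_cen.1 hg
    rcases hEmem _ ((mem_normalizer_iff.1 hgM u).1 huE) with e | e | e | e
    · exact absurd (conj_eq_one_iff.1 e) L.good.ne_one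
    · refine absurd ?_ L.good.ne
      calc u = g⁻¹ * (g * u * g⁻¹) * g := by group
        _ = z := by rw [e, mul_assoc, ← hgz.eq, inv_mul_cancel_left]
    · exact (L.cen_pair hgz (mul_inv_eq_iff_eq_mul.1 e)).1
    · have h1 := (L.cen_pair ((mem_cen.1 (L.S_le hq)).inv_left.mul_left hgz)
        (show Commute (q⁻¹ * g) u from mul_inv_eq_iff_eq_mul.1 (by
          calc q⁻¹ * g * u * (q⁻¹ * g)⁻¹ = q⁻¹ * (g * u * g⁻¹) * q := by group
            _ = q⁻¹ * (q * u * q⁻¹) * q := by rw [e, hqu]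
            _ = u := by group))).1
      rw [show g = q * (q⁻¹ * g) by group]
      exact mul_mem hq h1
  -- `|Q| = 32` or a subgroup of order at most `2 ^ 7`
  have hcases : Nat.card Q = 32 ∨ Nat.card (S : Subgroup G) ≤ 2 ^ 7 := by
    by_contra hc
    obtain ⟨hQ, hS⟩ := not_or.1 hc
    refine hS (hinf ▸ Cfsg.Agent.S2751.result (Cen z) M ⟨S.subtype L.S_le, ?_⟩ ⟨S.subtype hSM, ?_⟩
      L.sThreeLocal.quot ⟨(QuotientGroup.quotientMulEquivOfEq hcore).trans
        (QuotientGroup.quotientKerEquivOfSurjective φ hsurj)⟩ fun N hN hn1 hn2 => ?_)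
    · rw [hinf]; rfl
    · rw [hinf]; rfl
    by_contra hN1
    have hk1 : Cen z ≤ normalizer (N : Set G) :=
      (normal_subgroupOf_iff_le_normalizer (hN.trans inf_le_left)).1 hn1
    have hk2 : M ≤ normalizer (N : Set G) :=
      (normal_subgroupOf_iff_le_normalizer (hN.trans inf_le_right)).1 hn2
    have hNS : N ≤ (S : Subgroup G) := hinf ▸ hN
    have hNQ := L.le_Q_of_normal (S.isPGroup'.to_le hNS) (hNS.trans L.S_le) hk1
    exact hQ (L.local_eight hN1 hNQ hk1 fun h => hcH (h (hk2 hcM))).1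
  have h32 : Nat.card Q = 32 := by
    by_contra hne
    have hS := hcases.resolve_left hne
    obtain ⟨a, ha⟩ := L.two.exists_card_eq
    have hmod := L.card_mod
    have h8 := L.eight_le
    rw [L.d6.card_S] at hS
    have hQ8 : Nat.card Q = 8 := by
      rw [ha] at hS hmod h8 hne ⊢
      have ha7 : a ≤ 6 := by
        by_contra h
        have := Nat.pow_le_pow_right (by norm_num : 0 < 2) (show 7 ≤ a by omega)
        omega
      interval_cases a <;> omega
    have hQU := L.eq_U hQ8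
    refine L.norm_eight hQ8 ?_ hcH
    rw [hQD fun p hp => mem_cen.2 (L.U_comm (hQU ▸ hp) a_mem_three)]
    exact hcD
  refine ⟨h32, ?_⟩
  by_contra hno
  push Not at hno
  have hQc : Q ≤ Cen u := fun p hp => mem_cen.2 (cm_eq_one_iff.1
    ((L.ctx.cases_zpowers_z (L.good.cent p hp)).resolve_right (hno p hp)))
  obtain ⟨-, D, hND, -, h8, -⟩ := L.local_eight (N := Q)
    (fun e => L.ctx.z_ne (mem_bot.1 (e ▸ L.z_mem))) le_rfl L.Q_norm
    fun h => hcH (h (hQD hQc ▸ hcD))
  have := card_le_of_le hND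
  omega

end Large

end Cfsg.Agent.Lib.SelfCentSix9
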