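import Cfsg.Agent.Lib.SelfCentSix9.Six.LargeBasic

/-!
# The elementary abelian normal subgroup `U = ⟨z, u, x u x⁻¹⟩` of order eight
-/

set_option autoImplicit false

namespace Cfsg.Agent.Lib.SelfCentSix9

open Subgroup

universe u

variable {G : Type u} [Group G]

/-- Membership in `V ⟨b⟩` for an involution `b` centralising `V`. -/
theorem mem_sup_invol {V : Subgroup G} {b : G} (hb : b * b = 1) (hc : ∀ v ∈ V, Commute v b) {y : G} :
    y ∈ V ⊔ zpowers b ↔ y ∈ V ∨ y * b ∈ V := by
  let W : Subgroup G :=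
    { carrier := {y | y ∈ V ∨ y * b ∈ V}
      one_mem' := Or.inl (one_mem _)
      mul_mem' := by
        rintro p q (hp | hp) (hq | hq)
        · exact Or.inl (mul_mem hp hq)
        · exact Or.inr (by rw [mul_assoc]; exact mul_mem hp hq)
        · refine Or.inr ?_
          rw [show p * q * b = p * (q * b) by group, (hc q hq).eq, ← mul_assoc]
          exact mul_mem hp hq
        · refine Or.inl ?_
          have e : p * b * (q * b) = p * q := by
            rw [mul_assoc p b, ← (hc _ hq).eq, mul_assoc q, hb, mul_one]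
          exact e ▸ mul_mem hp hq
      inv_mem' := by
        rintro p (hp | hp)
        · exact Or.inl (inv_mem hp)
        · refine Or.inr ?_
          have hb' : b⁻¹ = b := inv_eq_of_mul_eq_one_right hb
          have h1 : (p * b)⁻¹ = b * p⁻¹ := by rw [mul_inv_rev, hb']
          have h2 := (hc _ (inv_mem hp)).eq
          rw [h1] at h2
          have h3 : p⁻¹ * b = b * p⁻¹ := by
            calc p⁻¹ * b = b * (b * p⁻¹ * b) := by
                  simp only [← mul_assoc, hb, one_mul]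
              _ = b * (b * (b * p⁻¹)) := by rw [h2]
              _ = b * p⁻¹ := by rw [← mul_assoc b b, hb, one_mul]
          rw [h3, ← h1]
          exact inv_mem hp }
  constructor
  · exact fun hy => (sup_le (fun v hv => Or.inl hv) (zpowers_le.2 (Or.inr (hb ▸ one_mem V))) :
      V ⊔ zpowers b ≤ W) hy
  · rintro (hy | hy)
    · exact mem_sup_left hy
    · rw [show y = y * b * b by rw [mul_assoc, hb, mul_one]]
      exact mul_mem (mem_sup_left hy) (mem_sup_right (mem_zpowers b))

/-- `V ⟨b⟩` is elementary abelian. -/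
theorem sq_sup_invol {V : Subgroup G} {b : G} (hb : b * b = 1) (hc : ∀ v ∈ V, Commute v b)
    (hV : ∀ v ∈ V, v * v = 1) {y : G} (hy : y ∈ V ⊔ zpowers b) : y * y = 1 := by
  rcases (mem_sup_invol hb hc).1 hy with h | h
  · exact hV y h
  · have e : y = y * b * b := by rw [mul_assoc, hb, mul_one]
    calc y * y = y * b * b * (y * b * b) := by rw [← e]
      _ = y * b * (b * (y * b)) * b := by group
      _ = y * b * (y * b * b) * b := by rw [(hc _ h).eq]
      _ = (y * b) * (y * b) * (b * b) := by group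
      _ = 1 := by rw [hV _ h, hb, one_mul]

/-- `|V ⟨b⟩| = 2 |V|`. -/
theorem card_sup_invol [Finite G] {V : Subgroup G} {b : G} (hb : b * b = 1)
    (hc : ∀ v ∈ V, Commute v b) (hbV : b ∉ V) : Nat.card (V ⊔ zpowers b : Subgroup G) = 2 * Nat.card V := by
  have e : ((V ⊔ zpowers b : Subgroup G) : Set G) = (V : Set G) ∪ (fun v => v * b) '' (V : Set G) := by
    ext y
    simp only [SetLike.mem_coe, mem_sup_invol hb hc, Set.mem_union, Set.mem_image]
    refine or_congr Iff.rfl ⟨fun h => ⟨_, h, by rw [mul_assoc, hb, mul_one]⟩, ?_⟩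
    rintro ⟨v, hv, rfl⟩
    rwa [mul_assoc, hb, mul_one]
  have hd : Disjoint (V : Set G) ((fun v => v * b) '' (V : Set G)) := by
    rw [Set.disjoint_left]
    rintro _ hy ⟨v, hv, rfl⟩
    exact hbV (by rw [show b = v⁻¹ * (v * b) by group]; exact mul_mem (inv_mem hv) hy)
  calc Nat.card (V ⊔ zpowers b : Subgroup G) = ((V ⊔ zpowers b : Subgroup G) : Set G).ncard :=
        Nat.card_coe_set_eq _
    _ = _ := by
        rw [e, Set.ncard_union_eq hd (Set.toFinite _) (Set.toFinite _),
          Set.ncard_image_of_injective _ (mul_left_injective b), two_mul, ← Nat.card_coe_set_eq]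
        rfl

/-- In a subgroup of exponent two all elements commute. -/
theorem comm_of_sq {V : Subgroup G} (hV : ∀ v ∈ V, v * v = 1) {a b : G} (ha : a ∈ V) (hb : b ∈ V) :
    Commute a b := by
  have hi : ∀ v ∈ V, v⁻¹ = v := fun v hv => inv_eq_of_mul_eq_one_right (hV v hv)
  calc a * b = (a * b)⁻¹ := (hi _ (mul_mem ha hb)).symm
    _ = b * a := by rw [mul_inv_rev, hi a ha, hi b hb]

variable {z x u : G} {Q : Subgroup G} {S : Sylow 2 G}

/-- The subgroup `⟨z, a, b⟩`. -/
def threeSub (z a b : G) : Subgroup G := zpowers z ⊔ zpowers a ⊔ zpowers b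

/-- `U = ⟨z, u, x u x⁻¹⟩`. -/
abbrev uSub (z x u : G) : Subgroup G := threeSub z u (x * u * x⁻¹)

namespace Ctx

variable (h : Ctx G z x)
include h

/-- `⟨z, a⟩` for an involution `a` commuting with `z`. -/
theorem mem_pair {a : G} (ha : a * a = 1) (haz : Commute a z) {y : G} :
    y ∈ zpowers z ⊔ zpowers a ↔ y = 1 ∨ y = z ∨ y * a = 1 ∨ y * a = z := by
  rw [mem_sup_invol ha (fun v hv => by
    rcases h.cases_zpowers_z hv with e | e <;> rw [e]
    · exact Commute.one_left a
    · exact haz.symm)]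
  constructor
  · rintro (hy | hy) <;> rcases h.cases_zpowers_z hy with e | e <;> simp [e]
  · rintro (e | e | e | e) <;> simp [e]

/-- `⟨z, a⟩` has order four. -/
theorem card_pair [Finite G] {a : G} (ha : a * a = 1) (haz : Commute a z) (hne : a ∉ zpowers z) :
    Nat.card (zpowers z ⊔ zpowers a : Subgroup G) = 4 := by
  rw [card_sup_invol ha (fun v hv => by
    rcases h.cases_zpowers_z hv with e | e <;> rw [e]
    · exact Commute.one_left a
    · exact haz.symm) hne, Nat.card_zpowers, h.hz]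

theorem pair_commute {a b : G} (ha : a * a = 1) (haz : Commute a z) (hbz : Commute b z)
    (hab : Commute a b) : ∀ v ∈ zpowers z ⊔ zpowers a, Commute v b := by
  intro v hv
  have e1 : v = v * a * a := by rw [mul_assoc, ha, mul_one]
  rcases (h.mem_pair ha haz).1 hv with e | e | e | e
  · rw [e]; exact Commute.one_left b
  · rw [e]; exact hbz.symm
  · rw [e1, e, one_mul]; exact hab
  · rw [e1, e]; exact hbz.symm.mul_left hab

theorem sq_pair {a : G} (ha : a * a = 1) (haz : Commute a z) :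
    ∀ v ∈ zpowers z ⊔ zpowers a, v * v = 1 := fun v hv =>
  sq_sup_invol ha (fun w hw => by
    rcases h.cases_zpowers_z hw with e | e <;> rw [e]
    · exact Commute.one_left a
    · exact haz.symm) (fun w hw => h.mul_self_eq hw) hv

theorem sq_three {a b : G} (ha : a * a = 1) (hb : b * b = 1) (haz : Commute a z) (hbz : Commute b z)
    (hab : Commute a b) : ∀ v ∈ threeSub z a b, v * v = 1 := fun _ hv =>
  sq_sup_invol hb (h.pair_commute ha haz hbz hab) (h.sq_pair ha haz) hv

theorem card_three [Finite G] {a b : G} (ha : a * a = 1) (hb : b * b = 1) (haz : Commute a z)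
    (hbz : Commute b z) (hab : Commute a b) (hne : a ∉ zpowers z) (hb1 : b ∉ zpowers z)
    (hb2 : b * a ∉ zpowers z) : Nat.card (threeSub z a b) = 8 := by
  rw [threeSub, card_sup_invol hb (h.pair_commute ha haz hbz hab), h.card_pair ha haz hne]
  intro hm
  rcases (h.mem_pair ha haz).1 hm with e | e | e | e
  · exact hb1 (e ▸ one_mem _)
  · exact hb1 (e ▸ mem_zpowers z)
  · exact hb2 (e ▸ one_mem _)
  · exact hb2 (e ▸ mem_zpowers z)

end Ctx

/-- Generators detect membership. -/
theorem threeSub_le {z a b : G} {T : Subgroup G} (hz : z ∈ T) (ha : a ∈ T) (hb : b ∈ T) :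
    threeSub z a b ≤ T :=
  sup_le (sup_le (zpowers_le.2 hz) (zpowers_le.2 ha)) (zpowers_le.2 hb)

theorem z_mem_three {z a b : G} : z ∈ threeSub z a b := mem_sup_left (mem_sup_left (mem_zpowers z))

theorem a_mem_three {z a b : G} : a ∈ threeSub z a b := mem_sup_left (mem_sup_right (mem_zpowers a))

theorem b_mem_three {z a b : G} : b ∈ threeSub z a b := mem_sup_right (mem_zpowers b)

/-- Conjugation maps `⟨z, a, b⟩` into `T` if it does so on generators. -/
theorem conj_three_le {z a b g : G} {T : Subgroup G} (hz : g * z * g⁻¹ ∈ T) (ha : g * a * g⁻¹ ∈ T)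
    (hb : g * b * g⁻¹ ∈ T) {y : G} (hy : y ∈ threeSub z a b) : g * y * g⁻¹ ∈ T :=
  threeSub_le (T := T.comap (MulAut.conj g).toMonoidHom) hz ha hb hy

namespace Large

variable [Finite G] (L : Large z x u Q S)
include L

omit [Finite G] in
theorem uz : Commute u z := mem_cen.1 (L.Q_le L.good.mem)

omit [Finite G] in
theorem u1z : Commute (x * u * x⁻¹) z := mem_cen.1 (L.Q_le L.u1_good.mem)

omit [Finite G] in
theorem U_le : uSub z x u ≤ Q := threeSub_le L.z_mem L.good.mem L.u1_good.mem

theorem U_sq {v : G} (hv : v ∈ uSub z x u) : v * v = 1 :=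
  L.ctx.sq_three L.good.sq L.u1_good.sq L.uz L.u1z L.comm_u1 v hv

theorem U_comm {v w : G} (hv : v ∈ uSub z x u) (hw : w ∈ uSub z x u) : Commute v w :=
  comm_of_sq (fun _ h => L.U_sq h) hv hw

theorem U_card : Nat.card (uSub z x u) = 8 :=
  L.ctx.card_three L.good.sq L.u1_good.sq L.uz L.u1z L.comm_u1 (L.ctx.good_not_mem L.good)
    (L.ctx.good_not_mem L.u1_good) (L.ctx.good_x_ne L.two L.Q_le L.good)

omit [Finite G] in
/-- `U` is central in `Q` modulo `⟨z⟩`. -/
theorem U_cent {s v : G} (hs : s ∈ Q) (hv : v ∈ uSub z x u) : cm s v ∈ zpowers z := by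
  let T : Subgroup G :=
    { carrier := {y | y ∈ Q ∧ cm s y ∈ zpowers z}
      one_mem' := ⟨one_mem _, by simp [cm]⟩
      mul_mem' := fun {a b} ha hb => ⟨mul_mem ha.1 hb.1, by
        rw [L.ctx.cm_mul_right L.Q_le hs ha.1 hb.2]; exact mul_mem ha.2 hb.2⟩
      inv_mem' := fun {a} ha => ⟨inv_mem ha.1, by
        rw [show cm s a⁻¹ = a⁻¹ * (cm s a)⁻¹ * a⁻¹⁻¹ by simp only [cm]; group,
          L.ctx.conj_zpowers (inv_mem (L.Q_le ha.1)) (inv_mem ha.2)]
        exact inv_mem ha.2⟩ }
  exact (threeSub_le (T := T) ⟨L.z_mem, by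
      rw [cm_eq_one_iff.2 (mem_cen.1 (L.Q_le hs))]; exact one_mem _⟩
    ⟨L.good.mem, L.good.cent s hs⟩ ⟨L.u1_good.mem, L.u1_good.cent s hs⟩ hv).2

theorem u2_mem : x * (x * u * x⁻¹) * x⁻¹ ∈ uSub z x u := by
  have e : x * (x * u * x⁻¹) * x⁻¹ =
      (x * u * x⁻¹)⁻¹ * u⁻¹ * (u * (x * u * x⁻¹) * (x * (x * u * x⁻¹) * x⁻¹)) := by group
  rw [e]
  exact mul_mem (mul_mem (inv_mem b_mem_three) (inv_mem a_mem_three))
    ((zpowers_le.2 z_mem_three) L.prod_mem)

/-- `U` is normal in `C(z)`. -/
theorem U_norm : Cen z ≤ normalizer (uSub z x u : Set G) := by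
  have hzl : zpowers z ≤ uSub z x u := zpowers_le.2 z_mem_three
  refine L.gen.trans (sup_le (fun s hs => ?_) (zpowers_le.2 ?_))
  · refine mem_normalizer_of_conj fun y hy => conj_three_le ?_ ?_ ?_ hy
    · rw [L.ctx.conj_zpowers (L.S_le hs) (mem_zpowers z)]
      exact z_mem_three
    · rw [show s * u * s⁻¹ = cm s u * u by simp only [cm]; group]
      exact mul_mem (hzl (L.goodS.cent s hs)) a_mem_three
    · by_cases hsQ : s ∈ Q
      · rw [show s * (x * u * x⁻¹) * s⁻¹ = cm s (x * u * x⁻¹) * (x * u * x⁻¹) by simp only [cm]; group]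
        exact mul_mem (hzl (L.u1_good.cent s hsQ)) b_mem_three
      · obtain ⟨w, hw, e⟩ := L.conj_u1 hs hsQ
        rw [e]
        exact mul_mem (hzl hw) L.u2_mem
  · refine mem_normalizer_of_conj fun y hy => conj_three_le ?_ ?_ L.u2_mem hy
    · rw [L.ctx.conj_zpowers L.ctx.x_mem (mem_zpowers z)]
      exact z_mem_three
    · exact b_mem_three

theorem eight_le : 8 ≤ Nat.card Q := L.U_card ▸ card_le_of_le L.U_le

/-- Nothing of `C(z)` outside `Q` centralises `Q`. -/
theorem centralizer_le {c : G} (hc : c ∈ Cen z) (hcQ : ∀ q ∈ Q, Commute c q) : c ∈ Q := by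
  set T := Cen z ⊓ centralizer (Q : Set G) with hT
  have hmem : c ∈ T := ⟨hc, mem_centralizer_iff.2 fun q hq => (hcQ q hq).eq.symm⟩
  have h3 : ∀ c ∈ T, orderOf c ≠ 3 := by
    intro c hc ho
    have hcq : ∀ q ∈ Q, Commute c q := fun q hq => (mem_centralizer_iff.1 hc.2 q hq).symm
    exact L.ctx.not_commute_two ho L.ctx.z_sq L.good.sq L.uz.symm L.ctx.z_ne L.good.ne_one L.good.ne.symm
      (hcq z L.z_mem) (hcq u L.good.mem)
  refine L.le_Q_of_normal (L.two_of_le inf_le_left h3) inf_le_left (fun m hm => ?_) hmem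
  refine mem_normalizer_of_conj fun y hy => ⟨(mul_mem (mul_mem hm hy.1) (inv_mem hm) : m * y * m⁻¹ ∈ Cen z), ?_⟩
  refine mem_centralizer_iff.2 fun q hq => ?_
  have hq' : m⁻¹ * q * m ∈ Q := by
    have := (mem_normalizer_iff.1 (L.Q_norm (inv_mem hm)) q).1 hq
    rwa [inv_inv] at this
  have e := mem_centralizer_iff.1 hy.2 _ hq'
  calc q * (m * y * m⁻¹) = m * ((m⁻¹ * q * m) * y) * m⁻¹ := by group
    _ = m * y * m⁻¹ * q := by rw [e]; group

end Large

end Cfsg.Agent.Lib.SelfCentSix9
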