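import Cfsg.Agent.Lib.SelfCentSix9.Six.SmallQ
import Cfsg.Agent.Lib.AutPSL.Main
import Cfsg.Agent.Lib.DicksonId.MaxCommon

/-!
# An automorphism of `PSL₂(q)` inverting an element of order four

If `|C(a)| = 4 m` with `m` prime to six, and an automorphism, not of order two, inverts `a` and fixes the
elements of odd order of `C(a)`, then its field part is not trivial and the torus forces `q = 9`.
-/

set_option autoImplicit false

namespace Cfsg.Agent.Lib.SelfCentSix9

open Subgroup
open Cfsg.Agent.Lib.PSLTwo.Sylow Cfsg.Agent.Lib.SL2Tori Cfsg.Agent.Lib.SL2Tori.Products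
  Cfsg.Agent.Lib.PSLTwo.ClassSize

variable {F : Type*} [Field F] [Fintype F]

local notation "SL2" => Matrix.SpecialLinearGroup (Fin 2) F
local notation "M2" => Matrix (Fin 2) (Fin 2) F
local notation "PSL2" => Matrix.ProjectiveSpecialLinearGroup (Fin 2) F

omit [Fintype F] in
/-- An element conjugating a non-scalar element to its inverse squares to a scalar, so acts as an involution. -/
theorem conjSL_sq_eq_one {A : SL2} (hA : NonScalar A) (g : GL (Fin 2) F)
    (h : AutPSL.conjSL g A = A⁻¹) : AutPSL.conjSL g * AutPSL.conjSL g = 1 := by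
  have e : (g : M2) * (A : M2) = ((A⁻¹ : SL2) : M2) * (g : M2) := by
    rw [← h, AutPSL.coe_conjSL]
    simp [Matrix.mul_assoc]
  rw [inv_apply'] at e
  have e00 := congrFun (congrFun e 0) 0
  have e01 := congrFun (congrFun e 0) 1
  have e10 := congrFun (congrFun e 1) 0
  have e11 := congrFun (congrFun e 1) 1
  simp [Matrix.mul_apply, Fin.sum_univ_two] at e00 e01 e10 e11
  have ht : (g : M2) 0 0 + (g : M2) 1 1 = 0 := by
    rcases hA with h1 | h1 | h1
    · exact (mul_eq_zero.1 (show A.1 0 1 * ((g : M2) 0 0 + (g : M2) 1 1) = 0 by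
        linear_combination e01)).resolve_left h1
    · exact (mul_eq_zero.1 (show A.1 1 0 * ((g : M2) 0 0 + (g : M2) 1 1) = 0 by
        linear_combination e10)).resolve_left h1
    · exact (mul_eq_zero.1 (show (A.1 0 0 - A.1 1 1) * ((g : M2) 0 0 + (g : M2) 1 1) = 0 by
        linear_combination e00 - e11)).resolve_left (sub_ne_zero.2 h1)
  set c : F := -((g : M2) 0 0 * (g : M2) 1 1 - (g : M2) 0 1 * (g : M2) 1 0) with hc
  have hgg : ((g * g : GL (Fin 2) F) : M2) = c • (1 : M2) := by
    rw [Units.val_mul]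
    ext i j
    fin_cases i <;> fin_cases j <;> simp [Matrix.mul_apply, Fin.sum_univ_two, hc] <;>
      first | linear_combination (g : M2) 0 0 * ht | linear_combination (g : M2) 0 1 * ht |
        linear_combination (g : M2) 1 0 * ht | linear_combination (g : M2) 1 1 * ht
  rw [← map_mul]
  refine MulEquiv.ext fun s => Subtype.ext ?_
  rw [AutPSL.coe_conjSL, hgg, Matrix.smul_mul, one_mul,
    show c • (s : M2) = (s : M2) * (c • (1 : M2)) by rw [Matrix.mul_smul, mul_one],
    mul_assoc, ← hgg, Units.mul_inv, mul_one]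
  rfl

/-- **The field has nine elements.** -/
theorem card_field_of_outer (hodd : Odd (Fintype.card F)) {a : PSL2} (ha : orderOf a = 4)
    {β : MulAut PSL2} (hβa : β a = a⁻¹) (hβ2 : β * β ≠ 1) {m : ℕ}
    (hC : Nat.card (centralizer ({a} : Set PSL2)) = 4 * m) (hm2 : ¬ 2 ∣ m) (hm3 : ¬ 3 ∣ m)
    (hfix : ∀ k : PSL2, Commute k a → ¬ 2 ∣ orderOf k → β k = k) : Fintype.card F = 9 ∧ m = 1 := by
  classical
  obtain ⟨A, rfl⟩ := proj_surjective a
  have h2 : (2 : F) ≠ 0 := fun e => Nat.not_even_iff_odd.2 hodd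
    (even_iff_two_dvd.2 (Cfsg.Agent.Lib.PSLTwo.ClassSizeValues.cast_two_zero_iff.mp e))
  have htA : slTr A ≠ 0 := by
    intro h0
    have := orderOf_dvd_of_pow_eq_one (x := proj A) (n := 2) (by rw [pow_two, proj_sq_eq_one h0])
    rw [ha] at this
    norm_num at this
  have hAn : NonScalar A := nonScalar_of_proj_ne_one fun e => by simp [e] at ha
  have hT := card_torus_eq hodd htA
  rw [hC] at hT
  obtain ⟨j, hj⟩ := hodd
  have hN : Fintype.card F - 1 = 8 * m ∨ Fintype.card F + 1 = 8 * m := by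
    rcases card_torus_cases hAn with ⟨-, h⟩ | ⟨-, -, h⟩ | ⟨-, -, h⟩
    · rw [card_sqrt_one h2, hT] at h
      omega
    · omega
    · omega
  -- the decomposition
  obtain ⟨g, φ, γ, hγ, hdec⟩ := AutPSL.exists_decomp (n := 2) le_rfl β
  have hγ1 : γ = 1 := hγ.resolve_right fun h => absurd h.1 (by norm_num)
  rw [hγ1, mul_one] at hdec
  have happ : ∀ s : SL2, β (proj s) = proj (AutPSL.conjSL g (AutPSL.fieldSL φ s)) := by
    intro s
    rw [hdec]
    rfl
  have hφ : φ ≠ 1 := by
    rintro rfl
    apply hβ2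
    have hβ : β = AutPSL.conjAut g := by rw [hdec, map_one, mul_one]
    have e := happ A
    rw [hβa, ← map_inv, map_one, MulAut.one_apply, eq_comm, proj_eq_iff, eq_comm (b := AutPSL.conjSL g A)] at e
    rcases e with e | e
    · rw [hβ, AutPSL.conjAut]
      simp only [MonoidHom.coe_comp, Function.comp_apply, ← map_mul]
      rw [show AutPSL.conjSL (g * g) = AutPSL.conjSL g * AutPSL.conjSL g from map_mul _ _ _,
        conjSL_sq_eq_one hAn g e, map_one]
    · exfalso
      have e' := congrArg slTr e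
      rw [slTr_inv, slTr_mul_negOne, slTr_eq_trace, slTr_eq_trace, AutPSL.coe_conjSL, Matrix.trace_mul_cycle,
        Units.inv_mul, one_mul, ← slTr_eq_trace] at e'
      exact mul_ne_zero h2 htA (by linear_combination e')
  -- the fixed field
  let F0 : Subfield F := RingHom.eqLocusField (φ : F →+* F) (RingHom.id F)
  have hmem : ∀ t, t ∈ F0 ↔ φ t = t := fun t => Iff.rfl
  have hpow := Module.natCard_eq_pow_finrank (K := F0) (V := F)
  set e := Module.finrank F0 F with he
  rw [Nat.card_eq_fintype_card (α := F)] at hpow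
  set r := Nat.card F0 with hr
  have hr2 : 2 ≤ r := Finite.one_lt_card
  have he2 : 2 ≤ e := by
    by_contra hc
    have hlt : r < Fintype.card F := by
      rw [hr, ← Nat.card_eq_fintype_card]
      refine lt_of_le_of_ne (Nat.card_le_card_of_injective _ F0.subtype.injective) fun heq => hφ ?_
      have hbij := (Nat.bijective_iff_injective_and_card F0.subtype).2 ⟨F0.subtype.injective, heq⟩
      refine RingEquiv.ext fun t => ?_
      obtain ⟨u, rfl⟩ := hbij.2 t
      exact (hmem _).1 u.2
    interval_cases e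
    · rw [pow_zero] at hpow; omega
    · rw [pow_one] at hpow; omega
  have hrodd : ¬ 2 ∣ r := fun hd => by
    have : 2 ∣ Fintype.card F := hpow ▸ hd.trans (dvd_pow_self r (by omega))
    omega
  have hr3 : 3 ≤ r := by omega
  have hsq : r ^ 2 ≤ Fintype.card F := hpow ▸ Nat.pow_le_pow_right (by omega) he2
  by_cases hm1 : m = 1
  · have : 3 ^ 2 ≤ r ^ 2 := Nat.pow_le_pow_left hr3 2
    exact ⟨by omega, hm1⟩
  exfalso
  have hm0 : 0 < m := by
    rcases Nat.eq_zero_or_pos m with h | h
    · exact absurd (h ▸ dvd_zero 2) hm2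
    · exact h
  -- the element of order `m`
  obtain ⟨p, hp⟩ := CharP.exists F
  have hpp : Fact p.Prime := ⟨(CharP.char_is_prime F p)⟩
  have hp4 : ¬ p ∣ 4 := by
    intro hd
    have := (Nat.prime_dvd_prime_iff_eq hpp.out Nat.prime_two).1 (hpp.out.dvd_of_dvd_pow (n := 2) hd)
    subst this
    exact h2 (by exact_mod_cast CharP.cast_eq_zero F 2)
  have hg2 : Nat.gcd 2 (Fintype.card F - 1) = 2 := Nat.gcd_eq_left ⟨j, by omega⟩
  obtain ⟨y, hy, hay⟩ : ∃ y : PSL2, orderOf y = 4 * m ∧ proj A ∈ zpowers y := by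
    rcases hN with h | h
    · obtain ⟨y, hy, hay⟩ := DicksonId.exists_torus_of_orderOf (p := p) ha hp4 (by norm_num)
        (N := Fintype.card F - 1) (Or.inl rfl) (by rw [hg2, h]; exact ⟨m, by omega⟩)
      exact ⟨y, by rw [hy, hg2, h]; omega, hay⟩
    · obtain ⟨y, hy, hay⟩ := DicksonId.exists_torus_of_orderOf (p := p) ha hp4 (by norm_num)
        (N := Fintype.card F + 1) (Or.inr rfl) (by rw [hg2, h]; exact ⟨m, by omega⟩)
      exact ⟨y, by rw [hy, hg2, h]; omega, hay⟩
  have hk : orderOf (y ^ 4) = m := by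
    rw [orderOf_pow' y (by norm_num), hy, Nat.gcd_mul_right_left]
    omega
  have hkc : Commute (y ^ 4) (proj A) := (DicksonId.commute_of_mem_zpowers hay).pow_left 4
  have hfixk := hfix _ hkc (hk ▸ hm2)
  obtain ⟨s0, hs0⟩ := proj_surjective (y ^ 4)
  obtain ⟨s, hs, hsm⟩ : ∃ s, proj s = y ^ 4 ∧ s ^ m = 1 := by
    have h1 : proj (s0 ^ m) = 1 := by rw [map_pow, hs0, ← hk, pow_orderOf_eq_one]
    rcases proj_eq_one_iff.1 h1 with e1 | e1
    · exact ⟨s0, hs0, e1⟩
    · refine ⟨s0 * negOne, by rw [← hs0]; exact (proj_eq_iff.2 (Or.inr rfl)).symm, ?_⟩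
      rw [(show Commute s0 negOne from (negOne_central s0).symm).mul_pow, e1]
      obtain ⟨i, hi⟩ := Nat.odd_iff.2 (Nat.two_dvd_ne_zero.1 hm2)
      rw [hi, pow_succ, pow_mul, pow_two, negOne_sq, one_pow, one_mul, negOne_sq]
  have hso : orderOf s = m :=
    Nat.dvd_antisymm (orderOf_dvd_of_pow_eq_one hsm) (hk ▸ hs ▸ orderOf_map_dvd proj s)
  have hX : AutPSL.conjSL g (AutPSL.fieldSL φ s) = s := by
    have e1 := happ s
    rw [hs, hfixk, ← hs, eq_comm, proj_eq_iff] at e1
    refine (e1.resolve_right fun e2 => ?_).symm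
    have e3 := congrArg (· ^ m) e2
    beta_reduce at e3
    rw [(show Commute _ negOne from (negOne_central _).symm).mul_pow, ← map_pow, ← map_pow, hsm, map_one, map_one, one_mul] at e3
    obtain ⟨i, hi⟩ := Nat.odd_iff.2 (Nat.two_dvd_ne_zero.1 hm2)
    rw [hi, pow_succ, pow_mul, pow_two, negOne_sq, one_pow, one_mul] at e3
    exact negOne_ne_one h2 e3.symm
  have htr : slTr s ∈ F0 := by
    rw [hmem]
    have e1 := congrArg slTr hX
    rw [slTr_eq_trace, AutPSL.coe_conjSL, Matrix.trace_mul_cycle, Units.inv_mul, one_mul,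
      AutPSL.coe_fieldSL] at e1
    conv_rhs => rw [← e1]
    simp [slTr, Matrix.trace_fin_two]
  have hsn : NonScalar s := nonScalar_of_proj_ne_one fun e1 => by
    rw [hs] at e1
    rw [e1, orderOf_one] at hk
    exact hm1 hk.symm
  have hsA : A ∈ torus s := by
    have : s ∈ pre A := by
      rw [pre, mem_comap, mem_centralizer_singleton_iff, hs]
      exact hkc
    rw [pre_eq_torus (Or.inl (mul_ne_zero h2 htA)), mem_torus] at this
    exact mem_torus.2 this.symm
  have hreg : slTr s ^ 2 ≠ 4 := by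
    intro h4
    rcases card_torus_cases hsn with ⟨-, h⟩ | ⟨h', -⟩ | ⟨h', -⟩
    · rw [card_sqrt_one h2] at h
      have h4A : 4 ∣ orderOf A := ha ▸ orderOf_map_dvd proj A
      have := h4A.trans (orderOf_dvd_natCard _ hsA)
      rw [h] at this
      omega
    · exact h' h4
    · exact h' h4
  -- the same trace over the fixed field
  let C0 : Matrix.SpecialLinearGroup (Fin 2) F0 := companion ⟨slTr s, htr⟩
  let C : SL2 := Matrix.SpecialLinearGroup.map F0.subtype C0
  have hCtr : slTr C = slTr s := by simp [C, C0, slTr, companion]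
  obtain ⟨w, hw⟩ := exists_conj (by omega) h2 hreg hCtr
  have hC0 : orderOf C0 = m := by
    rw [← orderOf_injective (Matrix.SpecialLinearGroup.map F0.subtype) (fun u v huv => ?_) C0]
    · show orderOf C = m
      rw [← hw, ← MulAut.conj_apply, MulEquiv.orderOf_eq, hso]
    · ext i j
      exact congrArg (fun M : SL2 => M.1 i j) huv
  have : Fintype F0 := Fintype.ofFinite _
  have hC0n : NonScalar C0 := Or.inr (Or.inl (by simp [C0, companion]))
  have h2' : (2 : F0) ≠ 0 := fun h' => h2 (by have := congrArg F0.subtype h'; rwa [map_ofNat, map_zero] at this)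
  have hC0reg : slTr C0 ^ 2 ≠ 4 := by
    intro h'
    apply hreg
    have := congrArg F0.subtype h'
    simpa [C0, companion, slTr, map_ofNat] using this
  have hmr : m ≤ r + 1 := by
    have hd : m ∣ Nat.card (torus C0) := hC0 ▸ orderOf_dvd_natCard _ (self_mem_torus C0)
    rw [hr, Nat.card_eq_fintype_card (α := F0)] at hr3 ⊢
    rcases card_torus_cases hC0n with ⟨h', -⟩ | ⟨-, -, h'⟩ | ⟨-, -, h'⟩
    · exact absurd h' hC0reg
    · exact (Nat.le_of_dvd (by omega) (h' ▸ hd)).trans (by omega)
    · exact Nat.le_of_dvd (by omega) (h' ▸ hd)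
  have hr9 : r ≤ 9 := by
    by_contra hc
    have : 10 * r ≤ r ^ 2 := by rw [pow_two]; exact Nat.mul_le_mul_right r (by omega)
    omega
  have he4 : e ≤ 4 := by
    by_contra hc
    have h5 : r ^ 5 ≤ Fintype.card F := hpow ▸ Nat.pow_le_pow_right (by omega) (by omega)
    have : 3 ^ 5 ≤ r ^ 5 := Nat.pow_le_pow_left hr3 5
    omega
  clear hrodd
  interval_cases r <;> interval_cases e <;> norm_num at hpow <;> omega

end Cfsg.Agent.Lib.SelfCentSix9
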