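import Cfsg.Agent.Lib.Coprime.Glauberman
import Cfsg.Agent.Lib.Cores.Basic
import Cfsg.Prelude.Def_Transfer

/-!
# Commuting elements lift over an odd kernel
-/

set_option autoImplicit false

namespace Cfsg.Agent.Lib.SelfCentSix9

open Subgroup

universe u v

variable {N : Type u} [Group N] [Finite N] {Y : Type v} [Group Y]

/-- An element commuting in the image with the image of a 2-element lifts to a commuting element. -/
theorem exists_lift (π : N →* Y) (hker : ¬ 2 ∣ Nat.card π.ker) {s : N} {n : ℕ} (hs : s ^ 2 ^ n = 1)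
    {g : N} (hg : Commute (π g) (π s)) : ∃ g', Commute g' s ∧ π g' = π g := by
  have hd : orderOf s ∣ 2 ^ n := orderOf_dvd_of_pow_eq_one hs
  obtain ⟨k, hk, hc⟩ := Coprime.exists_mul_fixed (A := zpowers s) (N := π.ker)
    (fun _ _ => (normalizer_eq_top (H := π.ker)) ▸ mem_top _)
    (by
      rw [Nat.card_zpowers]
      exact Nat.Coprime.coprime_dvd_left hd
        (Nat.Coprime.pow_left n (Nat.prime_two.coprime_iff_not_dvd.2 hker)))
    (Or.inl (Coprime.isSolvable_zpowers s)) (k := g) (fun b hb => by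
      obtain ⟨i, rfl⟩ := mem_zpowers_iff.1 hb
      rw [MonoidHom.mem_ker, map_mul, map_mul, map_mul, map_inv, map_inv, map_zpow,
        ← (hg.zpow_right i).eq, mul_inv_cancel_right, inv_mul_cancel])
  refine ⟨g * k, (mem_centralizer_iff.1 hc s (mem_zpowers s)).symm, ?_⟩
  rw [map_mul, MonoidHom.mem_ker.1 hk, mul_one]

/-- In `A₇` every involution centralises an element of order three. -/
theorem alt_seven_witness : ∃ v c : alternatingGroup (Fin 7), v * v = 1 ∧ v ≠ 1 ∧ c * c * c = 1 ∧ c ≠ 1 ∧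
    c * v = v * c := by
  refine ⟨⟨Equiv.swap 0 1 * Equiv.swap 2 3, Equiv.Perm.mem_alternatingGroup.2 (by decide +kernel)⟩,
    ⟨Equiv.swap 4 5 * Equiv.swap 5 6, Equiv.Perm.mem_alternatingGroup.2 (by decide +kernel)⟩, ?_⟩
  decide +kernel

end Cfsg.Agent.Lib.SelfCentSix9
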