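import Cfsg.Agent.Lib.SelfCentSix9.Six.QuatHalf
import Cfsg.Agent.Lib.SelfCentSix9.Six.QuatLift
import Cfsg.Agent.Lib.SelfCentSix9.Six.AlmostSix
import Cfsg.Agent.Lib.SelfCentSix9.Six.AltSix
import Cfsg.Agent.Lib.SelfCentSix9.Six.Inverted
import Cfsg.Agent.Lib.SelfCentSix9.ShapeC
import Cfsg.Agent.Lib.GorensteinWalter.Main

/-!
# Index six with a quaternion `Q`: the core is trivial

Otherwise the subgroup of index two of `C(y)`, for a central `y` of the core fixed by `w`, is `A₆` over
its core `O ⊇ K`, and an elementary group of order nine inverted by `z` centralises `O`; hence so does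
`w`, which then centralises `K`.
-/

set_option autoImplicit false

namespace Cfsg.Agent.Lib.SelfCentSix9

open Subgroup

universe u

variable {G : Type u} [Group G] [Finite G] {z x w : G} {Q K : Subgroup G} {S : Sylow 2 G}

namespace Quat

variable (D : Quat z x w Q K S) {y : G} (hy : y ∈ K) (hy1 : y ≠ 1) (hc : ∀ k ∈ K, Commute k y)
  (hwy : Commute w y) {N : Subgroup G} {a b : G} (H : Half z w Q K y N a b)
include D hy hy1 hc hwy H

omit hy1 hc hwy in
theorem z_mem_half : z ∈ N := H.a_sq ▸ mul_mem H.a_N H.a_N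

omit hy1 hc hwy in
/-- `b` centralises `K`. -/
theorem b_comm {k : G} (hk : k ∈ K) : Commute b k := (D.d6.data.commute k hk b H.b_Q).symm

/-- The orders of the centralisers of `a` and of `z` in the subgroup of index two. -/
theorem card_cent_half :
    Nat.card (N ⊓ Cen a : Subgroup G) = 4 * Nat.card K ∧
      Nat.card (N ⊓ Cen z : Subgroup G) = 8 * Nat.card K := by
  obtain ⟨hSy, hKy, hM⟩ := D.card_inf hy hy1 hc hwy
  have hzN := D.z_mem_half hy H
  have hKa : K ≤ Cen a := fun k hk => mem_cen.2 (D.d6.data.commute k hk a H.a_Q)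
  have hle1 : N ⊓ Cen a ≤ N ⊓ Cen z := le_inf inf_le_left fun v hv => mem_cen.2 (by
    rw [← H.a_sq]; exact (mem_cen.1 hv.2).mul_right (mem_cen.1 hv.2))
  have hle2 : N ⊓ Cen z ≤ Cen z ⊓ Cen y := le_inf inf_le_right (inf_le_left.trans H.le)
  have hbM : b ∈ Cen z ⊓ Cen y :=
    ⟨D.d6.data.Q_le H.b_Q, mem_cen.2 (D.d6.data.commute y hy b H.b_Q).symm⟩
  have hwa : w ∉ Cen a := fun hwa => by
    have e : w * a * w = a := by rw [(mem_cen.1 hwa).eq, mul_assoc, D.w_sq, mul_one]
    rw [H.w_conj] at e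
    have := orderOf_dvd_of_pow_eq_one (x := a) (n := 2) (by
      rw [pow_two]; nth_rewrite 1 [← e]; exact inv_mul_cancel a)
    rw [H.four_N] at this
    norm_num at this
  set A := Nat.card (N ⊓ Cen a : Subgroup G) with hA
  set B := Nat.card (N ⊓ Cen z : Subgroup G) with hB
  have h4 : 4 ∣ A := H.four_N ▸ orderOf_dvd_natCard (N ⊓ Cen a : Subgroup G)
    ⟨H.a_N, mem_cen.2 (Commute.refl a)⟩
  have hK' : Nat.card K ∣ A := card_dvd_of_le (le_inf H.K_N hKa)
  have hcop : Nat.Coprime 4 (Nat.card K) := by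
    rw [show 4 = 2 ^ 2 from rfl]
    exact Nat.Coprime.pow_left 2 (Nat.prime_two.coprime_iff_not_dvd.2 D.d6.data.odd)
  have h4K : 4 * Nat.card K ≤ A := Nat.le_of_dvd Nat.card_pos (hcop.mul_dvd_of_dvd_of_dvd h4 hK')
  have hd1 : A ∣ B := card_dvd_of_le hle1
  have hd2 : B ∣ 16 * Nat.card K := hM ▸ card_dvd_of_le hle2
  have hne1 : A ≠ B := fun e => hwa
    ((Subgroup.eq_of_le_of_card_ge hle1 e.ge).ge ⟨H.w_N, D.d6.S_le D.w_mem⟩).2
  have hne2 : B ≠ 16 * Nat.card K := fun e => H.b_N
    ((Subgroup.eq_of_le_of_card_ge hle2 (hM.trans e.symm).le).ge hbM).1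
  obtain ⟨i, hi⟩ := hd1
  obtain ⟨j, hj⟩ := hd2
  have hK0 : 0 < Nat.card K := Nat.card_pos
  have hA0 : 0 < A := by omega
  have hi0 : i ≠ 0 := fun h => by rw [h, mul_zero] at hi; exact Nat.card_pos.ne' hi
  have hi1 : i ≠ 1 := fun h => hne1 (by rw [hi, h, mul_one])
  have hj0 : j ≠ 0 := fun h => by rw [h, mul_zero] at hj; omega
  have hj1 : j ≠ 1 := fun h => hne2 (by rw [hj, h, mul_one])
  have hB2 : 2 * A ≤ B := by
    rw [hi, mul_comm 2]; exact Nat.mul_le_mul_left A (by omega)
  have hB3 : 2 * B ≤ 16 * Nat.card K := by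
    rw [hj, mul_comm 2]; exact Nat.mul_le_mul_left B (by omega)
  omega

omit hy1 in
/-- The fixed points of `z` on an odd subgroup normal in the half lie in `K`. -/
theorem fix_le {v : G} (hv : v ∈ N) (hvz : Commute v z) (hodd : ¬ 2 ∣ orderOf v) (hy1 : y ≠ 1) :
    v ∈ K := by
  obtain ⟨-, hcard⟩ := D.card_cent_half hy hy1 hc hwy H
  refine D.d6.mem_K_of_coprime (mem_cen.2 hvz) ?_
  refine Nat.Coprime.mul_right (m := 2) (n := 3) (Nat.prime_two.coprime_iff_not_dvd.2 hodd).symm
    (Nat.prime_three.coprime_iff_not_dvd.2 fun h3 => ?_).symm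
  have := h3.trans (orderOf_dvd_natCard (N ⊓ Cen z : Subgroup G) ⟨hv, mem_cen.2 hvz⟩)
  rw [hcard] at this
  rcases Nat.prime_three.dvd_mul.1 this with h | h
  · norm_num at h
  · exact D.d6.data.three h

/-- The half is `A₆` over its core, and the core contains `K`. -/
theorem exists_hom : ∃ ψ : N →* alternatingGroup (Fin 6), Function.Surjective ψ ∧
    ψ.ker = Cfsg.oddCore N ∧ ∀ k ∈ K, ∀ hk : k ∈ N, (⟨k, hk⟩ : N) ∈ Cfsg.oddCore N := by
  classical
  have : Fact (Nat.Prime 2) := ⟨Nat.prime_two⟩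
  obtain ⟨hAcard, hZcard⟩ := D.card_cent_half hy hy1 hc hwy H
  obtain ⟨T, hT8, ⟨eT⟩⟩ := H.sylow
  have hzN := D.z_mem_half hy H
  set O := Cfsg.oddCore N with hO
  have hOodd : ¬ 2 ∣ Nat.card O := Cores.not_dvd_card_pPrimeCore 2
  set π := QuotientGroup.mk' O with hπ
  have hπs : Function.Surjective π := QuotientGroup.mk'_surjective O
  have hker : π.ker = O := QuotientGroup.ker_mk' O
  have hcore : Cfsg.oddCore (N ⧸ O) = ⊥ := Cores.pPrimeCore_quotient_pPrimeCore 2
  let T' : Sylow 2 (N ⧸ O) := T.mapSurjective hπs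
  have hTinj : Function.Injective (π.comp (T : Subgroup N).subtype) := by
    rw [injective_iff_map_eq_one]
    intro t ht
    have h1 : (t : N) ∈ O := hker ▸ MonoidHom.mem_ker.2 ht
    obtain ⟨n, hn⟩ := T.isPGroup' t
    refine Subtype.ext (orderOf_eq_one_iff.1 (Nat.eq_one_of_dvd_coprimes
      (Nat.Coprime.pow_left n (Nat.prime_two.coprime_iff_not_dvd.2 hOodd))
      (orderOf_dvd_of_pow_eq_one (congrArg Subtype.val hn)) (orderOf_dvd_natCard O h1)))
  let eT' : (T : Subgroup N) ≃* (T' : Subgroup (N ⧸ O)) :=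
    (MonoidHom.ofInjective hTinj).trans (MulEquiv.subgroupCongr (by
      rw [MonoidHom.range_eq_map, ← Subgroup.map_map, ← MonoidHom.range_eq_map, Subgroup.range_subtype]; rfl))
  have hT'8 : Nat.card (T' : Subgroup (N ⧸ O)) = 8 := by rw [← Nat.card_congr eT'.toEquiv, hT8]
  have hno : ∀ L : Subgroup (N ⧸ O), L.index ≠ 2 := fun L hL =>
    H.no_two (L.comap π) (by rw [index_comap_of_surjective _ hπs, hL])
  set a' : N := ⟨a, H.a_N⟩ with ha'
  set z' : N := ⟨z, hzN⟩ with hz'
  set w' : N := ⟨w, H.w_N⟩ with hw'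
  have ha'2 : a' * a' = z' := Subtype.ext H.a_sq
  have hz'ne : π z' ≠ 1 := fun h => by
    have h1 : z' ∈ O := hker ▸ MonoidHom.mem_ker.2 h
    have := orderOf_dvd_natCard O h1
    rw [← Subgroup.orderOf_coe, hz', Subgroup.coe_mk, D.ctx.hz] at this
    exact hOodd this
  have ha4 : orderOf (π a') = 4 := by
    have : orderOf (π a') = 2 ^ (1 + 1) := orderOf_eq_prime_pow
      (by rw [pow_one, pow_two, ← map_mul, ha'2]; exact hz'ne)
      (by rw [← map_pow, show 2 ^ (1 + 1) = 2 + 2 from rfl, pow_add, pow_two, ha'2,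
        show z' * z' = 1 from Subtype.ext D.ctx.z_sq, map_one])
    simpa using this
  have hKodd : ∀ k ∈ K, ¬ 2 ∣ orderOf k := fun k hk h2 =>
    D.d6.data.odd (h2.trans (orderOf_dvd_natCard K hk))
  rcases GWConsumers70.dihedralAlmost GorensteinWalter.propMainFinal (N ⧸ O) hcore T' 4 (by norm_num)
    ⟨eT'.symm.trans eT⟩ with h2 | h2 | h2
  · exfalso
    obtain ⟨T0, hT0⟩ := Sylow.exists_subgroup_card_pow_prime 2 (n := 2) (G := N ⧸ O)
      (show 2 ^ 2 ∣ Nat.card (N ⧸ O) from (show 2 ^ 2 ∣ 8 by norm_num).trans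
        (hT'8 ▸ (T' : Subgroup (N ⧸ O)).card_subgroup_dvd_card))
    refine hno T0 ?_
    have htop : (T' : Subgroup (N ⧸ O)) = ⊤ :=
      T'.3 (h2.to_subgroup ⊤) le_top |>.symm
    have hc8 : Nat.card (N ⧸ O) = 8 := by rw [← Subgroup.card_top, ← htop, hT'8]
    have := T0.card_mul_index
    rw [hT0, hc8] at this
    omega
  · -- almost simple
    set φ : MulAut N := N.normalizerMonoidHom
      ⟨b, H.norm (mem_cen.2 (D.d6.data.commute y hy b H.b_Q).symm)⟩ with hφ
    have hφa : ∀ v : N, ((φ v : N) : G) = b * v * b⁻¹ := fun v => rfl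
    set β : MulAut (N ⧸ O) := QuotientGroup.congr O O φ (characteristic_iff_map_eq.1 inferInstance φ) with hβ
    have hβπ : ∀ v : N, β (π v) = π (φ v) := fun v => rfl
    -- the centraliser of the image of `a`
    set C := (N ⊓ Cen a).subgroupOf N with hC
    have hCcard : Nat.card C = 4 * Nat.card K := by
      rw [hC, Nat.card_congr (subgroupOfEquivOfLe inf_le_left).toEquiv, hAcard]
    have himage : centralizer ({π a'} : Set (N ⧸ O)) = C.map π := by
      refine le_antisymm (fun u hu => ?_) ?_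
      · obtain ⟨g, rfl⟩ := hπs u
        obtain ⟨g', hg', hgg⟩ := exists_lift π (by rw [hker]; exact hOodd) (s := a') (n := 2)
          (by rw [show 2 ^ 2 = 2 + 2 from rfl, pow_add, pow_two, ha'2]; exact Subtype.ext D.ctx.z_sq)
          (g := g) (mem_centralizer_singleton_iff.1 hu)
        exact ⟨g', mem_subgroupOf.2 ⟨g'.2, mem_cen.2 (congrArg Subtype.val hg'.eq)⟩, hgg⟩
      · rintro _ ⟨g, hg, rfl⟩
        refine mem_centralizer_singleton_iff.2 ?_
        rw [← map_mul, ← map_mul, show g * a' = a' * g from Subtype.ext (mem_cen.1 (mem_subgroupOf.1 hg).2).eq]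
    let f := π.comp C.subtype
    have hfr : f.range = C.map π := by
      rw [MonoidHom.range_eq_map, ← Subgroup.map_map, ← MonoidHom.range_eq_map, Subgroup.range_subtype]
    have hfker : ¬ 2 ∣ Nat.card f.ker := fun h2' => by
      obtain ⟨⟨v, hv⟩, hvo⟩ := exists_prime_orderOf_dvd_card' 2 h2'
      have hvO : (v : N) ∈ O := hker ▸ MonoidHom.mem_ker.2 hv
      have := orderOf_dvd_natCard O hvO
      rw [Subgroup.orderOf_coe, ← Subgroup.orderOf_mk v hv, hvo] at this
      exact hOodd this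
    have hcount : Nat.card (C.map π) * Nat.card f.ker = 4 * Nat.card K := by
      rw [← hfr, ← hCcard, ← index_ker, mul_comm, Subgroup.card_mul_index]
    have hdv : Nat.card f.ker ∣ Nat.card K := by
      refine (Nat.Coprime.dvd_of_dvd_mul_left ?_ (hcount ▸ dvd_mul_left _ _))
      rw [show 4 = 2 ^ 2 from rfl]
      exact (Nat.Coprime.pow_left 2 (Nat.prime_two.coprime_iff_not_dvd.2 hfker)).symm
    obtain ⟨m, hm⟩ := hdv
    have hkpos : 0 < Nat.card f.ker := Nat.card_pos
    have hC4 : Nat.card (centralizer ({π a'} : Set (N ⧸ O))) = 4 * m := by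
      rw [himage]
      refine Nat.eq_of_mul_eq_mul_right hkpos ?_
      rw [hcount, hm]; ring
    obtain ⟨hm1, ⟨e6⟩⟩ := almost_alt_six h2 T' hT'8 hno ha4 (β := β)
      (by
        rw [hβπ, ← map_inv]
        exact congrArg π (Subtype.ext (by rw [hφa]; exact H.b_conj)))
      (fun u => by
        obtain ⟨g, rfl⟩ := hπs u
        rw [hβπ, hβπ, ← map_mul, ← map_mul, ← map_inv, ← map_mul]
        refine congrArg π (Subtype.ext ?_)
        rw [hφa, hφa]
        show b * (b * (g : G) * b⁻¹) * b⁻¹ = a * a * g * (a * a)⁻¹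
        have hb2 : b * b = z := by
          refine D.sq_eq H.b_Q (fun h => H.b_N (h ▸ one_mem _)) fun h => H.b_N ?_
          rw [h]; exact hzN
        rw [H.a_sq, ← hb2]; group)
      hC4 (fun h => D.d6.data.odd (h.trans ⟨_, by rw [hm, mul_comm]⟩))
      (fun h => D.d6.data.three (h.trans ⟨_, by rw [hm, mul_comm]⟩))
      (fun u hu hodd => by
        have hmem : u ∈ centralizer ({π a'} : Set (N ⧸ O)) := mem_centralizer_singleton_iff.2 hu
        rw [himage] at hmem
        obtain ⟨g, hg, rfl⟩ := hmem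
        -- the fourth power of the lift is in `K`
        have hg' := mem_subgroupOf.1 hg
        have hgz : Commute (g : G) z := by
          rw [← H.a_sq]; exact (mem_cen.1 hg'.2).mul_right (mem_cen.1 hg'.2)
        obtain ⟨n, hn⟩ : ∃ n, ¬ 2 ∣ orderOf ((g : G) ^ 2 ^ n) := by
          obtain ⟨n, r, hr, hgo⟩ := Nat.exists_eq_pow_mul_and_not_dvd (orderOf_pos (g : G)).ne' 2 (by norm_num)
          refine ⟨n, ?_⟩
          rw [orderOf_pow_of_dvd (by positivity) ⟨r, hgo⟩, hgo, Nat.mul_div_cancel_left _ (by positivity)]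
          exact hr
        have hk := D.fix_le hy hc hwy H (pow_mem hg'.1 _) (hgz.pow_left _) hn hy1
        have hfix1 : β (π (g ^ 2 ^ n)) = π (g ^ 2 ^ n) := by
          rw [hβπ]
          refine congrArg π (Subtype.ext ?_)
          rw [hφa, Subgroup.coe_pow]
          exact mul_inv_eq_iff_eq_mul.2 (D.b_comm hy H hk).eq
        obtain ⟨i, hi⟩ := exists_pow_eq_self_of_coprime (x := π g) (n := 2 ^ n)
          (Nat.Coprime.pow_left n (Nat.prime_two.coprime_iff_not_dvd.2 hodd))
        rw [← hi, map_pow, ← map_pow π g, hfix1])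
    refine ⟨e6.toMonoidHom.comp π, e6.surjective.comp hπs, ?_, fun k hk hkN => ?_⟩
    · refine Eq.trans ?_ hker
      ext v
      simp [MonoidHom.mem_ker]
    · have hfull : Nat.card f.ker = Nat.card K := by rw [hm, hm1, mul_one]
      set FK := (f.ker.map C.subtype).map N.subtype with hFK
      have hFKc : Nat.card FK = Nat.card K := by
        rw [hFK, card_map_of_injective N.subtype_injective, card_map_of_injective C.subtype_injective, hfull]
      have hFKle : FK ≤ K := by
        rintro _ ⟨_, ⟨⟨v, hvC⟩, hv, rfl⟩, rfl⟩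
        have hvO : v ∈ O := hker ▸ MonoidHom.mem_ker.2 hv
        have hv' := mem_subgroupOf.1 hvC
        refine D.fix_le hy hc hwy H hv'.1 ?_ ?_ hy1
        · rw [← H.a_sq]; exact (mem_cen.1 hv'.2).mul_right (mem_cen.1 hv'.2)
        · intro h2'
          rw [show (N.subtype (C.subtype ⟨v, hvC⟩)) = (v : G) from rfl, Subgroup.orderOf_coe] at h2'
          exact hOodd (h2'.trans (orderOf_dvd_natCard O hvO))
      have heq := Subgroup.eq_of_le_of_card_ge hFKle hFKc.ge
      obtain ⟨_, ⟨⟨v, hvC⟩, hv, rfl⟩, hve⟩ := heq.ge hk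
      have hvO : v ∈ O := hker ▸ MonoidHom.mem_ker.2 hv
      rwa [show (⟨k, hkN⟩ : N) = v from Subtype.ext hve.symm]
  · -- `A₇` has too large centralisers of involutions
    exfalso
    obtain ⟨e7⟩ := h2
    have : Fact (Nat.Prime 3) := ⟨Nat.prime_three⟩
    have hsimp : IsSimpleGroup (alternatingGroup (Fin 7)) := alternatingGroup.isSimpleGroup (by simp)
    obtain ⟨v, c, hv2, hv1, hc3, hc1, hcv⟩ := alt_seven_witness
    have hco : orderOf c = 3 := orderOf_eq_prime (by rw [pow_succ, pow_two]; exact hc3) hc1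
    let T7 : Sylow 2 (alternatingGroup (Fin 7)) := T'.mapSurjective (f := e7.toMonoidHom) e7.surjective
    have hres : Cfsg.pResidual 2 (alternatingGroup (Fin 7)) = ⊤ :=
      pResidual_top hsimp hc1 (by rw [hco]; norm_num)
    have hone := Cfsg.Agent.S0107.result T7 2 le_rfl
      ⟨(((T' : Subgroup (N ⧸ O)).equivMapOfInjective e7.toMonoidHom e7.injective).symm.trans eT'.symm).trans eT⟩
      hres
    obtain ⟨g, hg⟩ := (hone v (e7 (π z')) (orderOf_eq_prime (by rw [pow_two]; exact hv2) hv1)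
      (by
        rw [MulEquiv.orderOf_eq]
        exact orderOf_eq_prime (by
          rw [pow_two, ← map_mul, show z' * z' = 1 from Subtype.ext D.ctx.z_sq, map_one]) hz'ne))
    obtain ⟨u, hu⟩ := hπs (e7.symm (g * c * g⁻¹))
    have hcomm : Commute (π u) (π z') := by
      refine e7.injective ?_
      rw [map_mul, map_mul, hu, e7.apply_symm_apply, ← hg,
        show g * c * g⁻¹ * (g * v * g⁻¹) = g * (c * v) * g⁻¹ by group, hcv]
      group
    obtain ⟨u', hu', huu⟩ := exists_lift π (by rw [hker]; exact hOodd) (s := z') (n := 1)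
      (by rw [pow_one, pow_two]; exact Subtype.ext D.ctx.z_sq) hcomm
    have h3 : 3 ∣ orderOf u' := by
      have h3' : orderOf (π u') = 3 := by
        rw [huu, hu, MulEquiv.orderOf_eq, ← MulAut.conj_apply, MulEquiv.orderOf_eq, hco]
      exact h3' ▸ orderOf_map_dvd π u'
    rw [← Subgroup.orderOf_coe] at h3
    have := h3.trans (orderOf_dvd_natCard (N ⊓ Cen z : Subgroup G)
      ⟨u'.2, mem_cen.2 (congrArg Subtype.val hu'.eq)⟩)
    rw [hZcard] at this
    rcases Nat.prime_three.dvd_mul.1 this with h | h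
    · norm_num at h
    · exact D.d6.data.three h

/-- `w` centralises the core of `C(z)`. -/
theorem w_comm_K : ∀ k ∈ K, Commute w k := by
  classical
  have : Fact (Nat.Prime 2) := ⟨Nat.prime_two⟩
  have : Fact (Nat.Prime 3) := ⟨Nat.prime_three⟩
  obtain ⟨ψ, hψ, hker, hKO⟩ := D.exists_hom hy hy1 hc hwy H
  have hzN := D.z_mem_half hy H
  set O := Cfsg.oddCore N with hO
  set OG := O.map N.subtype with hOG
  have hOn : OG ≤ N := map_subtype_le _
  have hOodd : ¬ 2 ∣ Nat.card OG := by
    rw [hOG, card_map_of_injective N.subtype_injective]; exact Cores.not_dvd_card_pPrimeCore 2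
  have hfix : ∀ v ∈ OG, Commute v z → v ∈ K := fun v hv hvz =>
    D.fix_le hy hc hwy H (hOn hv) hvz (fun h2 => hOodd (h2.trans (orderOf_dvd_natCard OG hv))) hy1
  have hKOG : K ≤ OG := fun k hk => ⟨⟨k, H.K_N hk⟩, hKO k hk _, rfl⟩
  have hOnorm : ∀ g ∈ Cen y, g ∈ normalizer (OG : Set G) := by
    intro g hg
    have key : ∀ g ∈ Cen y, ∀ v ∈ OG, g * v * g⁻¹ ∈ OG := by
      rintro g hg _ ⟨v, hv, rfl⟩
      set φ : MulAut N := N.normalizerMonoidHom ⟨g, H.norm hg⟩ with hφ
      refine ⟨φ v, ?_, rfl⟩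
      have h1 : O.map φ.toMonoidHom = O := characteristic_iff_map_eq.1 inferInstance φ
      rw [← h1]
      exact mem_map_of_mem _ hv
    refine mem_normalizer_iff.2 fun v => ⟨key g hg v, fun hv => ?_⟩
    have := key g⁻¹ (inv_mem hg) _ hv
    rwa [show g⁻¹ * (g * v * g⁻¹) * g⁻¹⁻¹ = v by group] at this
  -- three does not divide `|O|`
  have hthree : ¬ 3 ∣ Nat.card OG := by
    intro h3
    obtain ⟨hSy, -, -⟩ := D.card_inf hy hy1 hc hwy
    obtain ⟨E, hE⟩ := D.exists_four
    obtain ⟨g, e, hecase, hgz, hge, hgK⟩ := D.exists_cycle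
    have hzy : z ∈ Cen y := hSy (D.ctx.z_mem_zOne S D.d6.S_le).1
    have hEy : E ≤ Cen y := by
      intro v hv
      rcases (hE v).1 hv with rfl | rfl | rfl | rfl
      exacts [one_mem _, hzy, hSy D.w_mem, mul_mem (hSy D.w_mem) hzy]
    have hgy : g ∈ Cen y := mem_cen.2 (hgK y hy hwy)
    have hEc : IsMulCommutative E := ⟨⟨fun p q => Subtype.ext (by
      have e1 : z * w = w * z := D.w_cen.symm.eq
      have e2 : Commute w (w * z) := (Commute.refl w).mul_right D.w_cen
      have e3 : Commute z (w * z) := D.w_cen.symm.mul_right (Commute.refl z)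
      show (p : G) * q = q * p
      rcases (hE p).1 p.2 with hp | hp | hp | hp <;> rcases (hE q).1 q.2 with hq | hq | hq | hq <;>
        rw [hp, hq] <;>
        first | simp | exact e1 | exact e1.symm | exact e2.eq | exact e2.eq.symm | exact e3.eq | exact e3.eq.symm)⟩⟩
    have hEnc : ¬ IsCyclic E := by
      intro hcyc
      obtain ⟨t, ht⟩ := hcyc.exists_generator
      have hzm : z ∈ E := (hE z).2 (Or.inr (Or.inl rfl))
      have hwm : w ∈ E := (hE w).2 (Or.inr (Or.inr (Or.inl rfl)))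
      have hwz1 : w * z ≠ 1 := fun e => D.w_ne_z ((eq_inv_of_mul_eq_one_left e).trans D.ctx.z_inv)
      have hsq : ∀ v ∈ E, v * v = 1 := by
        intro v hv
        rcases (hE v).1 hv with rfl | rfl | rfl | rfl
        · exact mul_one 1
        · exact D.ctx.z_sq
        · exact D.w_sq
        · rw [mul_assoc, ← mul_assoc z, D.w_cen.symm.eq, mul_assoc w z z, D.ctx.z_sq, mul_one, D.w_sq]
      have key : ∀ v ∈ E, v = 1 ∨ v = (t : G) := by
        intro v hv
        obtain ⟨k, hk⟩ := mem_zpowers_iff.1 (ht ⟨v, hv⟩)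
        rw [show v = (t : G) ^ k by rw [← Subgroup.coe_zpow, hk]]
        rcases Int.even_or_odd k with ⟨j, hj⟩ | ⟨j, hj⟩
        · left; rw [hj, ← two_mul, zpow_mul, zpow_two, hsq _ t.2, one_zpow]
        · right; rw [hj, zpow_add_one, zpow_mul, zpow_two, hsq _ t.2, one_zpow, one_mul]
      rcases key z hzm with e1 | e1
      · exact D.ctx.z_ne e1
      rcases key w hwm with e2 | e2
      · exact D.w_out (e2 ▸ one_mem _)
      exact D.w_ne_z (e2.trans e1.symm)
    obtain ⟨R, hR⟩ := Coprime.exists_invariant_sylow (A := E) (K := OG)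
      (fun v hv => hOnorm v (hEy hv))
      (by
        have h4 : Nat.card E ∣ 2 ^ 4 := by
          rw [show 2 ^ 4 = Nat.card (S : Subgroup G) by rw [D.d6.card_S, D.card_Q]; rfl]
          refine card_dvd_of_le fun v hv => ?_
          have hzS := (D.ctx.z_mem_zOne S D.d6.S_le).1
          rcases (hE v).1 hv with rfl | rfl | rfl | rfl
          exacts [one_mem _, hzS, D.w_mem, mul_mem D.w_mem hzS]
        exact Nat.Coprime.coprime_dvd_left h4
          (Nat.Coprime.pow_left 4 (Nat.prime_two.coprime_iff_not_dvd.2 hOodd)))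
      (Or.inl (Group.isSolvable_of_comm fun p q => hEc.is_comm.comm p q)) 3
    set RG := (R : Subgroup OG).map OG.subtype with hRG
    have hRle : RG ≤ OG := map_subtype_le _
    have hR3 : IsPGroup 3 RG := R.isPGroup'.map _
    have hRne : RG ≠ ⊥ := fun h => by
      rw [hRG, map_eq_bot_iff_of_injective _ OG.subtype_injective] at h
      exact R.ne_bot_of_dvd_card h3 h
    apply hRne
    have hgen := Coprime.iSup_centralizer_eq hEnc hR (by
      obtain ⟨n, hn⟩ := hR3.exists_card_eq
      have h4 : ∀ p : E, p ^ 2 ^ 1 = 1 := fun p => Subtype.ext (by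
        show (p : G) ^ 2 = 1
        rw [pow_two]
        rcases (hE p).1 p.2 with e' | e' | e' | e' <;> rw [e']
        · exact mul_one 1
        · exact D.ctx.z_sq
        · exact D.w_sq
        · rw [mul_assoc, ← mul_assoc z, D.w_cen.symm.eq, mul_assoc w z z, D.ctx.z_sq, mul_one, D.w_sq])
      obtain ⟨i, hi⟩ := (show IsPGroup 2 E from fun p => ⟨1, h4 p⟩).exists_card_eq
      rw [hn, hi]
      exact Nat.Coprime.pow _ _ (by norm_num))
    have hKtriv : ∀ v, v ∈ K → (∃ n, v ^ 3 ^ n = 1) → v = 1 := fun v hv ⟨n, hn⟩ =>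
      orderOf_eq_one_iff.1 (Nat.eq_one_of_dvd_coprimes
        (Nat.Coprime.pow_left n (Nat.prime_three.coprime_iff_not_dvd.2 D.d6.data.three))
        (orderOf_dvd_of_pow_eq_one hn) (orderOf_dvd_natCard K hv))
    have hpow : ∀ v ∈ RG, ∃ n, v ^ 3 ^ n = 1 := fun v hv => by
      obtain ⟨n, hn⟩ := hR3 ⟨v, hv⟩
      exact ⟨n, congrArg Subtype.val hn⟩
    have hgez : g * (e * z) * g⁻¹ = z := by
      calc g * (e * z) * g⁻¹ = (g * e * g⁻¹) * (g * z * g⁻¹) := by group
        _ = z := by
            rw [hge, hgz]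
            rcases hecase with h | h <;> rw [h]
            · rw [D.w_cen.eq, mul_assoc, D.w_sq, mul_one]
            · rw [mul_assoc w z z, D.ctx.z_sq, mul_one, ← mul_assoc, D.w_sq, one_mul]
    have hez' : ∀ v ∈ OG, Commute v e → (∃ n, v ^ 3 ^ n = 1) → v = 1 := by
      intro v hv hve hn
      obtain ⟨n, hn⟩ := hn
      have h1 : g⁻¹ * v * g ∈ OG := by
        have := (mem_normalizer_iff.1 (inv_mem (hOnorm g hgy)) v).1 hv
        rwa [inv_inv] at this
      have h2 : Commute (g⁻¹ * v * g) z := by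
        have := hve.map (MulAut.conj g⁻¹)
        simp only [MulAut.conj_apply, inv_inv] at this
        rwa [show g⁻¹ * e * g = z by rw [← hgz]; group] at this
      have h3' := hKtriv _ (hfix _ h1 h2) ⟨n, by
        rw [show g⁻¹ * v * g = MulAut.conj g⁻¹ v by simp, ← map_pow, hn, map_one]⟩
      calc v = g * (g⁻¹ * v * g) * g⁻¹ := by group
        _ = 1 := by rw [h3']; group
    have hezez : ∀ v ∈ OG, Commute v (e * z) → (∃ n, v ^ 3 ^ n = 1) → v = 1 := by
      intro v hv hve hn
      obtain ⟨n, hn⟩ := hn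
      have h1 : g * v * g⁻¹ ∈ OG := (mem_normalizer_iff.1 (hOnorm g hgy) v).1 hv
      have h2 : Commute (g * v * g⁻¹) z := by
        have := hve.map (MulAut.conj g)
        simp only [MulAut.conj_apply] at this
        rwa [hgez] at this
      have h3' := hKtriv _ (hfix _ h1 h2) ⟨n, by
        rw [← MulAut.conj_apply, ← map_pow, hn, map_one]⟩
      calc v = g⁻¹ * (g * v * g⁻¹) * g := by group
        _ = 1 := by rw [h3']; group
    rw [eq_bot_iff, ← hgen]
    refine iSup₂_le fun t ht v hv => mem_bot.2 ?_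
    have hvc : Commute v t := mem_centralizer_singleton_iff.1 hv.2
    rcases (hE t).1 ht.1 with h | h | h | h
    · exact absurd h ht.2
    · exact hKtriv v (hfix v (hRle hv.1) (h ▸ hvc)) (hpow v hv.1)
    · rcases hecase with he | he
      · exact hez' v (hRle hv.1) (he.symm ▸ h ▸ hvc) (hpow v hv.1)
      · refine hezez v (hRle hv.1) ?_ (hpow v hv.1)
        rw [he, mul_assoc, D.ctx.z_sq, mul_one]
        exact h ▸ hvc
    · rcases hecase with he | he
      · exact hezez v (hRle hv.1) (he.symm ▸ h ▸ hvc) (hpow v hv.1)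
      · exact hez' v (hRle hv.1) (he.symm ▸ h ▸ hvc) (hpow v hv.1)
  -- an elementary group of order nine inverted by `z`
  set a' : N := ⟨a, H.a_N⟩ with ha'
  have hzv : (a' * a' : N) = ⟨z, hzN⟩ := Subtype.ext H.a_sq
  have hψz : ψ ⟨z, hzN⟩ ≠ 1 := fun h => by
    have h1 : (⟨z, hzN⟩ : N) ∈ O := hker ▸ MonoidHom.mem_ker.2 h
    have h2 := orderOf_dvd_natCard OG (show z ∈ OG from ⟨_, h1, rfl⟩)
    rw [D.ctx.hz] at h2
    exact hOodd h2
  obtain ⟨l, hl3, hl1, hlc, hla, hla', hlinv⟩ := alt_six_four (ψ a')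
    (by
      rw [← map_pow, show a' ^ 4 = 1 from Subtype.ext (by
        show a ^ 4 = 1
        rw [← H.four_N, pow_orderOf_eq_one]), map_one])
    (by rw [← map_pow, pow_two, hzv]; exact hψz)
  set L := Subgroup.closure ({l, ψ a' * l * (ψ a')⁻¹} : Set (alternatingGroup (Fin 6))) with hL
  have hLle : ∀ g ∈ L, ψ a' * g * (ψ a')⁻¹ ∈ L := by
    intro g hg
    induction hg using closure_induction with
    | mem g hg =>
      rcases hg with rfl | rfl
      · exact subset_closure (by simp)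
      · rw [hlinv]; exact inv_mem (subset_closure (by simp))
    | one => simp
    | mul p q _ _ hp hq =>
      rw [show ψ a' * (p * q) * (ψ a')⁻¹ = ψ a' * p * (ψ a')⁻¹ * (ψ a' * q * (ψ a')⁻¹) by group]
      exact mul_mem hp hq
    | inv p _ hp =>
      rw [show ψ a' * p⁻¹ * (ψ a')⁻¹ = (ψ a' * p * (ψ a')⁻¹)⁻¹ by group]
      exact inv_mem hp
  have hLc : IsMulCommutative L := isMulCommutative_closure (by
    rintro p (rfl | rfl) q (rfl | rfl)
    exacts [rfl, hlc.symm, hlc, rfl])
  have hLexp : ∀ g ∈ L, g ^ 3 = 1 ∧ ψ ⟨z, hzN⟩ * g * (ψ ⟨z, hzN⟩)⁻¹ = g⁻¹ := by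
    intro g hg
    induction hg using closure_induction with
    | mem g hg =>
      rcases hg with rfl | rfl
      · refine ⟨by rw [pow_succ, pow_two]; exact hl3, ?_⟩
        rw [← hzv, map_mul, ← hlinv]; group
      · refine ⟨by rw [conj_pow, pow_succ, pow_two, hl3]; group, ?_⟩
        have h2 : ψ a' * l⁻¹ * (ψ a')⁻¹ = (ψ a' * l * (ψ a')⁻¹)⁻¹ := by group
        rw [← h2, ← hlinv, ← hzv, map_mul]; group
    | one => simp
    | mul p q hp hq ihp ihq =>
      have hpq : Commute p q :=
        congrArg Subtype.val (hLc.is_comm.comm (⟨p, hp⟩ : L) ⟨q, hq⟩)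
      refine ⟨by rw [hpq.mul_pow, ihp.1, ihq.1, one_mul], ?_⟩
      rw [show ψ ⟨z, hzN⟩ * (p * q) * (ψ ⟨z, hzN⟩)⁻¹ =
        ψ ⟨z, hzN⟩ * p * (ψ ⟨z, hzN⟩)⁻¹ * (ψ ⟨z, hzN⟩ * q * (ψ ⟨z, hzN⟩)⁻¹) by group, ihp.2, ihq.2,
        mul_inv_rev]
      exact (hpq.inv_inv).eq
    | inv p _ ihp =>
      refine ⟨by rw [inv_pow, ihp.1, inv_one], ?_⟩
      rw [show ψ ⟨z, hzN⟩ * p⁻¹ * (ψ ⟨z, hzN⟩)⁻¹ = (ψ ⟨z, hzN⟩ * p * (ψ ⟨z, hzN⟩)⁻¹)⁻¹ by group, ihp.2]
  have hL3 : IsPGroup 3 L := fun g => ⟨1, Subtype.ext (by simpa using (hLexp g g.2).1)⟩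
  obtain ⟨nL, hnL⟩ := hL3.exists_card_eq
  -- lift by an invariant Sylow subgroup
  set W := L.comap ψ with hW
  have hWcard : Nat.card W = Nat.card O * Nat.card L := by
    have h1 := W.card_mul_index
    have h2 := O.card_mul_index
    rw [hW, index_comap_of_surjective _ hψ] at h1
    rw [← hker, index_ker, MonoidHom.range_eq_top_of_surjective _ hψ, Subgroup.card_top,
      ← L.card_mul_index, ← mul_assoc, hker] at h2
    exact Nat.eq_of_mul_eq_mul_right (Nat.pos_of_ne_zero index_ne_zero_of_finite) (h1.trans h2.symm)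
  set WG := W.map N.subtype with hWG
  have hWGc : Nat.card WG = Nat.card OG * Nat.card L := by
    rw [hWG, hOG, card_map_of_injective N.subtype_injective, card_map_of_injective N.subtype_injective, hWcard]
  have haW : zpowers a ≤ normalizer (WG : Set G) := by
    rw [zpowers_le]
    have key : WG.map (MulAut.conj a).toMonoidHom = WG := by
      refine Subgroup.eq_of_le_of_card_ge ?_ (card_map_of_injective (MulAut.conj a).injective).ge
      rintro _ ⟨_, ⟨v, hv, rfl⟩, rfl⟩
      refine ⟨a' * v * a'⁻¹, ?_, rfl⟩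
      show ψ (a' * v * a'⁻¹) ∈ L
      rw [map_mul, map_mul, map_inv]
      exact hLle _ hv
    refine mem_normalizer_iff.2 fun v => ⟨fun hv => key ▸ mem_map_of_mem _ hv, fun hv => ?_⟩
    rw [← key] at hv
    exact (mem_map_iff_mem (f := (MulAut.conj a).toMonoidHom) (MulAut.conj a).injective (K := WG) (x := v)).1 hv
  obtain ⟨R, hR⟩ := Coprime.exists_invariant_sylow haW (by
      rw [Nat.card_zpowers, H.four_N, hWGc, hnL, show 4 = 2 ^ 2 from rfl]
      exact Nat.Coprime.pow_left 2 (Nat.Coprime.mul_right (Nat.prime_two.coprime_iff_not_dvd.2 hOodd)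
        (Nat.Coprime.pow_right _ (by norm_num))))
    (Or.inl (Coprime.isSolvable_zpowers a)) 3
  set P := (R : Subgroup WG).map WG.subtype with hP
  have hP3 : IsPGroup 3 P := R.isPGroup'.map _
  have hPW : P ≤ WG := map_subtype_le _
  have hPN : P ≤ N := hPW.trans (map_subtype_le _)
  have hPc : Nat.card P = Nat.card L := by
    rw [hP, card_map_of_injective WG.subtype_injective, R.card_eq_multiplicity, hWGc, hnL,
      Nat.factorization_mul Nat.card_pos.ne' (by positivity), Finsupp.add_apply,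
      Nat.factorization_eq_zero_of_not_dvd hthree, zero_add, Nat.factorization_pow, Finsupp.smul_apply,
      Nat.prime_three.factorization_self, smul_eq_mul, mul_one]
  set q : P →* alternatingGroup (Fin 6) := ψ.comp (Subgroup.inclusion hPN) with hq
  have hqinj : Function.Injective q := by
    rw [injective_iff_map_eq_one]
    intro p hp
    have h1 : (Subgroup.inclusion hPN p : N) ∈ O := hker ▸ MonoidHom.mem_ker.2 hp
    have h2 : (p : G) ∈ OG := ⟨_, h1, rfl⟩
    obtain ⟨n, hn⟩ := hP3 p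
    exact Subtype.ext (orderOf_eq_one_iff.1 (Nat.eq_one_of_dvd_coprimes
      (Nat.Coprime.pow_left n (Nat.prime_three.coprime_iff_not_dvd.2 hthree))
      (orderOf_dvd_of_pow_eq_one (congrArg Subtype.val hn)) (orderOf_dvd_natCard OG h2)))
  have hqL : ∀ p : P, q p ∈ L := by
    intro p
    obtain ⟨v, hv, hve⟩ := hPW p.2
    rw [show q p = ψ v from congrArg ψ (Subtype.ext hve.symm)]
    exact hv
  have hqrange : ∀ g ∈ L, ∃ p : P, q p = g := by
    intro g hg
    have hb : Function.Bijective (fun p : P => (⟨q p, hqL p⟩ : L)) :=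
      (Nat.bijective_iff_injective_and_card _).2 ⟨fun p r h => hqinj (congrArg Subtype.val h), hPc⟩
    obtain ⟨p, hp⟩ := hb.2 ⟨g, hg⟩
    exact ⟨p, congrArg Subtype.val hp⟩
  have haP : a ∈ normalizer (P : Set G) := hR (mem_zpowers a)
  have hzP : z ∈ normalizer (P : Set G) := H.a_sq ▸ mul_mem haP haP
  have hPabel : IsMulCommutative P :=
    ⟨⟨fun p r => hqinj (by rw [map_mul, map_mul]; exact congrArg Subtype.val (hLc.is_comm.comm ⟨_, hqL p⟩ ⟨_, hqL r⟩))⟩⟩
  have hPcube : ∀ p ∈ P, p ^ 3 = 1 := by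
    intro p hp
    exact congrArg Subtype.val (hqinj (by rw [map_pow, map_one]; exact (hLexp _ (hqL ⟨p, hp⟩)).1) :
      (⟨p, hp⟩ : P) ^ 3 = 1)
  have hPinv : ∀ p ∈ P, z * p * z = p⁻¹ := by
    intro p hp
    have hm : z * p * z⁻¹ ∈ P := (mem_normalizer_iff.1 hzP p).1 hp
    have : (⟨z * p * z⁻¹, hm⟩ : P) = (⟨p, hp⟩ : P)⁻¹ := by
      apply hqinj
      rw [map_inv, ← (hLexp _ (hqL ⟨p, hp⟩)).2]
      show ψ _ = ψ ⟨z, hzN⟩ * ψ _ * (ψ ⟨z, hzN⟩)⁻¹
      rw [← map_inv ψ, ← map_mul ψ, ← map_mul ψ]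
      exact congrArg ψ (Subtype.ext rfl)
    have h2 := congrArg Subtype.val this
    simp only [InvMemClass.coe_inv] at h2
    rw [← h2, D.ctx.z_inv]
  have hPnc : ¬ IsCyclic P := by
    intro hcyc
    obtain ⟨t, ht⟩ := hcyc.exists_generator
    obtain ⟨p, hp⟩ := hqrange l (subset_closure (by simp))
    obtain ⟨r, hr⟩ := hqrange _ (subset_closure (show ψ a' * l * (ψ a')⁻¹ ∈ ({l, ψ a' * l * (ψ a')⁻¹} : Set _) by simp))
    have ht3 : t ^ (3 : ℤ) = 1 := Subtype.ext (by
      show (t : G) ^ (3 : ℤ) = 1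
      rw [zpow_ofNat]; exact hPcube t t.2)
    have key : ∀ v : P, v = 1 ∨ v = t ∨ v = t⁻¹ := by
      intro v
      obtain ⟨k, rfl⟩ := mem_zpowers_iff.1 (ht v)
      rw [← Int.emod_add_mul_ediv k 3, zpow_add, zpow_mul, ht3, one_zpow, mul_one]
      have h1 : 0 ≤ k % 3 := Int.emod_nonneg _ (by norm_num)
      have h2 : k % 3 < 3 := Int.emod_lt_of_pos _ (by norm_num)
      generalize k % 3 = j at h1 h2
      interval_cases j
      · simp
      · simp
      · refine Or.inr (Or.inr ?_)
        rw [eq_inv_iff_mul_eq_one, ← zpow_add_one]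
        exact ht3
    have hp1 : p ≠ 1 := fun h => hl1 (by rw [← hp, h, map_one])
    rcases key p with hpe | hpe | hpe
    · exact hp1 hpe
    · rcases key r with h | h | h
      · exact hl1 (by rw [h, map_one] at hr; exact conj_eq_one_iff.1 hr.symm)
      · exact hla (by rw [← hr, ← hp, h, hpe])
      · exact hla' (by rw [← hr, ← hp, h, hpe, map_inv])
    · rcases key r with h | h | h
      · exact hl1 (by rw [h, map_one] at hr; exact conj_eq_one_iff.1 hr.symm)
      · exact hla' (by rw [← hr, ← hp, h, hpe, map_inv, inv_inv])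
      · exact hla (by rw [← hr, ← hp, h, hpe])
  have hPy : P ≤ Cen y := hPN.trans H.le
  -- `P` centralises `O`
  have hPO : ∀ p ∈ P, ∀ v ∈ OG, Commute p v := by
    intro p hp
    have hgen := Coprime.iSup_centralizer_eq hPnc (fun r hr => hOnorm r (hPy hr)) (by
      obtain ⟨n, hn⟩ := hP3.exists_card_eq
      rw [hn]
      exact Nat.Coprime.pow_left n (Nat.prime_three.coprime_iff_not_dvd.2 hthree))
    suffices OG ≤ Cen p from fun v hv => (mem_cen.1 (this hv)).symm
    refine hgen.ge.trans (iSup₂_le fun ℓ hℓ => ?_)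
    set M := OG ⊓ centralizer ({ℓ} : Set G) with hM
    have hMO : M ≤ OG := inf_le_left
    intro v hv
    refine mem_cen.2 (Commute.symm ?_)
    have hzy : z ∈ Cen y := H.le hzN
    have hℓinv : z * ℓ * z = ℓ⁻¹ := hPinv ℓ hℓ.1
    refine commute_of_inverted (M := M) (fun h => hOodd (h.trans (card_dvd_of_le hMO)))
      (fun h => hthree (h.trans (card_dvd_of_le hMO))) D.ctx.z_sq ?_ ?_ (hPcube p hp) (hPinv p hp) ?_ v hv
    · intro u hu
      refine ⟨?_, mem_centralizer_singleton_iff.2 ?_⟩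
      · have := (mem_normalizer_iff.1 (hOnorm z hzy) u).1 hu.1
        rwa [D.ctx.z_inv] at this
      · have h1 : Commute u ℓ⁻¹ :=
          (show Commute u ℓ from mem_centralizer_singleton_iff.1 hu.2).inv_right
        have h2 := h1.map (MulAut.conj z)
        simp only [MulAut.conj_apply, D.ctx.z_inv] at h2
        rw [← hℓinv, show z * (z * ℓ * z) * z = (z * z) * ℓ * (z * z) by group, D.ctx.z_sq, one_mul,
          mul_one] at h2
        exact h2.eq
    · intro u hu
      refine ⟨(mem_normalizer_iff.1 (hOnorm p (hPy hp)) u).1 hu.1, mem_centralizer_singleton_iff.2 ?_⟩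
      have hpl : Commute p ℓ := congrArg Subtype.val (hPabel.is_comm.comm (⟨p, hp⟩ : P) ⟨ℓ, hℓ.1⟩)
      have h2 := (show Commute u ℓ from mem_centralizer_singleton_iff.1 hu.2).map (MulAut.conj p)
      simp only [MulAut.conj_apply] at h2
      rw [mul_inv_eq_iff_eq_mul.2 hpl.eq] at h2
      exact h2.eq
    · intro u hu hzu
      have huK := hfix u hu.1 hzu.symm
      have hul : Commute u ℓ := mem_centralizer_singleton_iff.1 hu.2
      have hau : Commute a u := (D.d6.data.commute u huK a H.a_Q).symm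
      have hul' : Commute u (a * ℓ * a⁻¹) := ((hau.symm.mul_right hul).mul_right hau.symm.inv_right)
      -- `ℓ` and its conjugate generate `P`
      have hsub : P ≤ Subgroup.closure ({ℓ, a * ℓ * a⁻¹} : Set G) := by
        set J := Subgroup.closure ({ℓ, a * ℓ * a⁻¹} : Set G) with hJ
        have hmP : a * ℓ * a⁻¹ ∈ P := (mem_normalizer_iff.1 haP ℓ).1 hℓ.1
        have hJP : J ≤ P := (closure_le _).2 (by rintro t (rfl | rfl); exacts [hℓ.1, hmP])
        refine (Subgroup.eq_of_le_of_card_ge hJP ?_).ge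
        -- `|P| ≤ 9` and `J` has more than three elements
        obtain ⟨nJ, hnJ⟩ := (hP3.to_le hJP).exists_card_eq
        have hne : a * ℓ * a⁻¹ ≠ ℓ ∧ a * ℓ * a⁻¹ ≠ ℓ⁻¹ := by
          have key : ∀ s : G, (s = ℓ ∨ s = ℓ⁻¹) → a * ℓ * a⁻¹ = s → False := by
            intro s hs hse
            have h2 : z * ℓ * z = ℓ := by
              calc z * ℓ * z = a * (a * ℓ * a⁻¹) * a⁻¹ := by
                    nth_rewrite 2 [← D.ctx.z_inv]; rw [← H.a_sq]; group
                _ = ℓ := by
                    rw [hse]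
                    rcases hs with rfl | rfl
                    · exact hse
                    · rw [show a * ℓ⁻¹ * a⁻¹ = (a * ℓ * a⁻¹)⁻¹ by group, hse, inv_inv]
            rw [hℓinv] at h2
            have h3 : ℓ ^ 2 = 1 := by rw [pow_two]; nth_rewrite 1 [← h2]; exact inv_mul_cancel ℓ
            have := pow_gcd_eq_one.2 ⟨(show ℓ ^ 2 = 1 from h3), hPcube ℓ hℓ.1⟩
            exact hℓ.2 (by simpa using this)
          exact ⟨fun h => key _ (Or.inl rfl) h, fun h => key _ (Or.inr rfl) h⟩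
        have hlt : 3 < Nat.card J := by
          have hs : ({1, ℓ, ℓ⁻¹, a * ℓ * a⁻¹} : Set G) ⊆ J := by
            rintro t (rfl | rfl | rfl | rfl)
            exacts [one_mem _, subset_closure (by simp), inv_mem (subset_closure (by simp)),
              subset_closure (by simp)]
          have hm1 : a * ℓ * a⁻¹ ≠ 1 := fun h => hℓ.2 (conj_eq_one_iff.1 h)
          have hll : ℓ ≠ ℓ⁻¹ := fun h => hℓ.2 (by
            have h2 : ℓ ^ 2 = 1 := by rw [pow_two]; nth_rewrite 2 [h]; exact mul_inv_cancel ℓ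
            simpa using pow_gcd_eq_one.2 ⟨h2, hPcube ℓ hℓ.1⟩)
          have h4 := Set.ncard_le_ncard hs (Set.toFinite _)
          rw [Set.ncard_insert_of_notMem (by
              simp [Ne.symm hℓ.2, Ne.symm hm1, show ℓ ≠ 1 from hℓ.2]) (Set.toFinite _),
            Set.ncard_insert_of_notMem (by simp [hll, Ne.symm hne.1]) (Set.toFinite _),
            Set.ncard_pair (Ne.symm hne.2)] at h4
          have e5 : Nat.card J = (J : Set G).ncard := Nat.card_coe_set_eq _
          omega
        have hL9 : Nat.card L ≤ 9 := by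
          have hd : Nat.card L ∣ 360 := by
            have := L.card_subgroup_dvd_card
            rwa [nat_card_alternatingGroup, Nat.card_fin] at this
          rw [hnL] at hd ⊢
          by_contra hlt'
          have h3n : 3 ≤ nL := by
            by_contra hn'
            have : 3 ^ nL ≤ 3 ^ 2 := Nat.pow_le_pow_right (by norm_num) (by omega)
            omega
          have : 3 ^ 3 ∣ 360 := (pow_dvd_pow 3 h3n).trans hd
          norm_num at this
        rw [hPc]
        refine hL9.trans ?_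
        rw [hnJ] at hlt ⊢
        have : 2 ≤ nJ := by
          by_contra hn'
          have : 3 ^ nJ ≤ 3 ^ 1 := Nat.pow_le_pow_right (by norm_num) (by omega)
          omega
        exact (show 9 = 3 ^ 2 from rfl) ▸ Nat.pow_le_pow_right (by norm_num) this
      have hall : Subgroup.closure ({ℓ, a * ℓ * a⁻¹} : Set G) ≤ Cen u := (closure_le _).2 (by
        rintro t (rfl | rfl)
        exacts [mem_cen.2 hul.symm, mem_cen.2 hul'.symm])
      exact mem_cen.1 (hall (hsub hp))
  -- the centraliser of `O` covers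
  set C := centralizer (O : Set N) with hC
  have hOn' : O.Normal := inferInstance
  have hCn : C.Normal := Subgroup.normal_centralizer
  have hCimage : C.map ψ = ⊤ := by
    have : IsSimpleGroup (alternatingGroup (Fin 6)) := alternatingGroup.isSimpleGroup (by simp)
    refine (IsSimpleGroup.eq_bot_or_eq_top_of_normal _ (hCn.map _ hψ)).resolve_left fun hb => hl1 ?_
    obtain ⟨p, hp⟩ := hqrange l (subset_closure (by simp))
    have hm : (Subgroup.inclusion hPN p : N) ∈ C := mem_centralizer_iff.2 fun o ho => Subtype.ext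
      (hPO p p.2 (o : G) ⟨o, ho, rfl⟩).symm
    have h2 : l ∈ C.map ψ := ⟨_, hm, hp⟩
    rw [hb, mem_bot] at h2
    exact h2
  have hidx : ¬ 2 ∣ C.index := by
    intro h2
    have hsup : C ⊔ O = ⊤ := by
      rw [eq_top_iff]
      intro v _
      obtain ⟨cc, hcc, hcv⟩ := (hCimage.ge (mem_top (ψ v)) : ψ v ∈ C.map ψ)
      have hm : cc⁻¹ * v ∈ O := by rw [← hker, MonoidHom.mem_ker, map_mul, map_inv, hcv, inv_mul_cancel]
      rw [show v = cc * (cc⁻¹ * v) by group]
      exact mul_mem_sup hcc hm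
    have h3 := relIndex_sup_right O C
    rw [sup_comm, hsup, relIndex_top_right] at h3
    have h4 : C.index ∣ Nat.card O := h3 ▸ (index_dvd_card _)
    have h5 := h2.trans h4
    rw [← card_map_of_injective N.subtype_injective (K := O)] at h5
    exact hOodd h5
  have hwC : (⟨w, H.w_N⟩ : N) ∈ C := by
    rw [← QuotientGroup.eq_one_iff, ← orderOf_eq_one_iff]
    refine Nat.eq_one_of_dvd_coprimes (Nat.prime_two.coprime_iff_not_dvd.2 hidx) ?_ ?_
    · refine (orderOf_map_dvd (QuotientGroup.mk' C) _).trans ?_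
      rw [← Subgroup.orderOf_coe]; exact D.w_ord.dvd
    · rw [index_eq_card]; exact _root_.orderOf_dvd_natCard _
  intro k hk
  obtain ⟨o, ho, rfl⟩ := hKOG hk
  exact (congrArg Subtype.val (mem_centralizer_iff.1 hwC o ho)).symm

omit hy1 hc hwy H hy in
/-- **The core is trivial.** -/
theorem K_eq_bot : K = ⊥ := by
  by_contra hK
  obtain ⟨y, hy, hy1, hc, hwy⟩ := D.exists_central_fixed hK
  obtain ⟨N, a, b, H⟩ := D.exists_half hy hy1 hc hwy
  exact hK (D.eq_bot_of_commute (D.w_comm_K hy hy1 hc hwy H))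

end Quat

end Cfsg.Agent.Lib.SelfCentSix9
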