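import Cfsg.Agent.Lib.SelfCentSix9.Six.QuatLocal
import Cfsg.Agent.Lib.TwoGroups.NoIndexTwo
import Cfsg.Agent.S1203
import Cfsg.Agent.S1206

/-!
# The centraliser of an element of the core fixed by `w`

`S` is a Sylow 2-subgroup of it, the four-group `⟨z, w⟩` has automizer of order six there and `Q` one of
order two, so it has a subgroup of index two with dihedral Sylow 2-subgroups and none of index two.
-/

set_option autoImplicit false

namespace Cfsg.Agent.Lib.SelfCentSix9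

open Subgroup

universe u

variable {G : Type u} [Group G] [Finite G] {z x w : G} {Q K : Subgroup G} {S : Sylow 2 G}

/-- The data of the subgroup of index two in `C(y)`. -/
structure Half (z w : G) (Q K : Subgroup G) (y : G) (N : Subgroup G) (a b : G) : Prop where
  le : N ≤ Cen y
  norm : Cen y ≤ normalizer (N : Set G)
  a_Q : a ∈ Q
  b_Q : b ∈ Q
  a_N : a ∈ N
  b_N : b ∉ N
  w_N : w ∈ N
  K_N : K ≤ N
  a_sq : a * a = z
  b_conj : b * a * b⁻¹ = a⁻¹
  w_conj : w * a * w = a⁻¹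
  four_N : orderOf a = 4
  no_two : ∀ H : Subgroup N, H.index ≠ 2
  sylow : ∃ T : Sylow 2 N, Nat.card (T : Subgroup N) = 8 ∧ Nonempty ((T : Subgroup N) ≃* DihedralGroup 4)

namespace Quat

variable (D : Quat z x w Q K S)
include D

/-- `|C(z) ∩ C(y)| = 16 |K|`. -/
theorem card_inf {y : G} (hy : y ∈ K) (hy1 : y ≠ 1) (hc : ∀ k ∈ K, Commute k y) (hwy : Commute w y) :
    (S : Subgroup G) ≤ Cen y ∧ K ≤ Cen y ∧
      Nat.card (Cen z ⊓ Cen y : Subgroup G) = 16 * Nat.card K := by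
  have hQy : ∀ q ∈ Q, Commute q y := fun q hq => (D.d6.data.commute y hy q hq).symm
  have hSy : (S : Subgroup G) ≤ Cen y := by
    intro s hs
    refine mem_cen.2 ?_
    by_cases hsQ : s ∈ Q
    · exact hQy s hsQ
    · have h1 := (hQy _ (D.d6.mul_mem_Q hs D.w_mem hsQ D.w_out)).mul_left hwy
      rwa [mul_assoc, D.w_sq, mul_one] at h1
  have hKy : K ≤ Cen y := fun k hk => mem_cen.2 (hc k hk)
  refine ⟨hSy, hKy, ?_⟩
  set M : Subgroup G := Cen z ⊓ Cen y with hM
  have hS16 : Nat.card (S : Subgroup G) = 16 := by rw [D.d6.card_S, D.card_Q]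
  have h1 : 16 ∣ Nat.card M := hS16 ▸ card_dvd_of_le (le_inf D.d6.S_le hSy)
  have h2 : Nat.card K ∣ Nat.card M := card_dvd_of_le (le_inf D.d6.data.K_le hKy)
  have hcop : Nat.Coprime 16 (Nat.card K) := by
    rw [show 16 = 2 ^ 4 from rfl]
    exact Nat.Coprime.pow_left 4 (Nat.prime_two.coprime_iff_not_dvd.2 D.d6.data.odd)
  obtain ⟨i, hi⟩ := Nat.Coprime.mul_dvd_of_dvd_of_dvd hcop h1 h2
  have hd : Nat.card M ∣ Nat.card (Cen z) := card_dvd_of_le inf_le_left
  rw [D.d6.data.card, D.card_Q, hi] at hd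
  have hK0 : 0 < Nat.card K := Nat.card_pos
  have hd' : i ∣ 3 := by
    refine Nat.dvd_of_mul_dvd_mul_left (Nat.mul_pos (show 0 < 16 by norm_num) hK0) ?_
    rwa [show 16 * Nat.card K * 3 = 6 * 8 * Nat.card K by ring]
  rcases (Nat.dvd_prime Nat.prime_three).1 hd' with e | e
  · rw [hi, e, mul_one]
  · exfalso
    have htop : M = Cen z := Subgroup.eq_of_le_of_card_ge inf_le_left (by
      rw [D.d6.data.card, D.card_Q, hi, e]; exact le_of_eq (by ring))
    have hxy : x ∈ M := htop.symm ▸ D.ctx.x_mem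
    exact hy1 (D.eq_one_of_scalar hy hc (Or.inl ⟨hwy, by
      rw [(mem_cen.1 hxy.2).eq, mul_inv_cancel_right]; exact hwy⟩))

omit [Finite G] in
/-- The four-group `⟨z, w⟩`. -/
theorem exists_four : ∃ E : Subgroup G, ∀ v, v ∈ E ↔ v = 1 ∨ v = z ∨ v = w ∨ v = w * z := by
  have hwz := D.w_cen
  refine ⟨{ carrier := {v | v = 1 ∨ v = z ∨ v = w ∨ v = w * z}
            one_mem' := Or.inl rfl
            mul_mem' := ?_
            inv_mem' := ?_ }, fun v => Iff.rfl⟩
  · have e1 : z * w = w * z := hwz.symm.eq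
    have e2 : z * (w * z) = w := by rw [← mul_assoc, e1, mul_assoc, D.ctx.z_sq, mul_one]
    have e3 : w * (w * z) = z := by rw [← mul_assoc, D.w_sq, one_mul]
    have e4 : w * z * z = w := by rw [mul_assoc, D.ctx.z_sq, mul_one]
    have e5 : w * z * w = z := by rw [mul_assoc, e1, e3]
    have e6 : w * z * (w * z) = 1 := by rw [← mul_assoc, e5, D.ctx.z_sq]
    intro p q hp hq
    rcases hp with rfl | rfl | rfl | rfl <;> rcases hq with rfl | rfl | rfl | rfl <;>
      simp [D.ctx.z_sq, D.w_sq, e1, e2, e3, e4, e5, e6]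
  · intro p hp
    rcases hp with rfl | rfl | rfl | rfl <;> simp [D.ctx.z_inv, D.w_inv, hwz.eq]

/-- The subgroup of index two. -/
theorem exists_half {y : G} (hy : y ∈ K) (hy1 : y ≠ 1) (hc : ∀ k ∈ K, Commute k y)
    (hwy : Commute w y) : ∃ N a b, Half z w Q K y N a b := by
  classical
  have : Fact (Nat.Prime 2) := ⟨Nat.prime_two⟩
  have : Fact (Nat.Prime 3) := ⟨Nat.prime_three⟩
  obtain ⟨hSy, hKy, hM⟩ := D.card_inf hy hy1 hc hwy
  set X := Cen y with hX
  have hQX : Q ≤ X := D.d6.Q_le_S.trans hSy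
  have hwX : w ∈ X := hSy D.w_mem
  have hzX : z ∈ X := hQX D.d6.data.z_mem
  let S' : Sylow 2 X := S.subtype hSy
  have eS : (S' : Subgroup X) ≃* (S : Subgroup G) := subgroupOfEquivOfLe hSy
  have hqd : Cfsg.IsQuasiDihedral (S' : Subgroup X) :=
    TwoGroups.NoIndexTwo.isQuasiDihedral_map eS.symm D.quasiDihedral
  obtain ⟨eQ⟩ := D.nonempty_quaternion
  set Q' := Q.subgroupOf X with hQ'
  have eQ' : Q' ≃* QuaternionGroup 2 := (subgroupOfEquivOfLe hQX).trans eQ
  obtain ⟨E, hE⟩ := D.exists_four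
  have hEX : E ≤ X := by
    intro v hv
    rcases (hE v).1 hv with rfl | rfl | rfl | rfl
    exacts [one_mem _, hzX, hwX, mul_mem hwX hzX]
  set T := E.subgroupOf X with hT
  have hTS : T ≤ (S' : Subgroup X) := by
    intro v hv
    show (v : G) ∈ (S : Subgroup G)
    rcases (hE _).1 (mem_subgroupOf.1 hv) with e | e | e | e <;> rw [e]
    exacts [one_mem _, (D.ctx.z_mem_zOne S D.d6.S_le).1, D.w_mem,
      mul_mem D.w_mem (D.ctx.z_mem_zOne S D.d6.S_le).1]
  have hQS : Q' ≤ (S' : Subgroup X) := fun v hv => D.d6.Q_le_S hv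
  have hw1 : w ≠ 1 := fun e => D.w_out (e ▸ one_mem _)
  have hwz1 : w * z ≠ 1 := fun e => D.w_ne_z ((eq_inv_of_mul_eq_one_left e).trans D.ctx.z_inv)
  have hwzz : w * z ≠ z := fun e => hw1 (mul_eq_right.1 e)
  have hwzw : w * z ≠ w := fun e => D.ctx.z_ne (mul_eq_left.1 e)
  have hEcard : Nat.card E = 4 := by
    have e : (E : Set G) = {1, z, w, w * z} := Set.ext fun v => hE v
    rw [show Nat.card E = (E : Set G).ncard from (Nat.card_coe_set_eq _), e, Set.ncard_insert_of_notMem (by simp [Ne.symm D.ctx.z_ne, Ne.symm hw1, Ne.symm hwz1]) (Set.toFinite _),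
      Set.ncard_insert_of_notMem (by simp [Ne.symm D.w_ne_z, Ne.symm hwzz]) (Set.toFinite _),
      Set.ncard_pair (Ne.symm hwzw)]
  have hTk : IsKleinFour T := by
    refine ⟨by rw [Nat.card_congr (subgroupOfEquivOfLe hEX).toEquiv, hEcard], ?_⟩
    refine (Nat.dvd_prime Nat.prime_two).1 (Monoid.exponent_dvd_of_forall_pow_eq_one fun p => ?_) |>.resolve_left
      fun e => ?_
    · refine Subtype.ext (Subtype.ext ?_)
      show (((p : X) : G)) ^ 2 = 1
      rcases (hE _).1 (mem_subgroupOf.1 p.2) with e | e | e | e <;> rw [e, pow_two]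
      · exact mul_one 1
      · exact D.ctx.z_sq
      · exact D.w_sq
      · rw [mul_assoc, ← mul_assoc z, D.w_cen.symm.eq, mul_assoc w z z, D.ctx.z_sq, mul_one, D.w_sq]
    · have : Subsingleton T := Monoid.exp_eq_one_iff.1 e
      have h4 : Nat.card T = 4 := by rw [Nat.card_congr (subgroupOfEquivOfLe hEX).toEquiv, hEcard]
      rw [Nat.card_of_subsingleton (1 : T)] at h4
      omega
  obtain ⟨hd1, hd2⟩ := Cfsg.Agent.S1203.result S' hqd T hTk hTS Q' hQS eQ'
  -- a three-cycle on the four-group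
  obtain ⟨g, e, hecase, hgz, hge, hgK⟩ := D.exists_cycle
  have hgX : g ∈ X := mem_cen.2 (hgK y hy hwy)
  have heE : e ∈ E := (hE e).2 (hecase.elim (fun h => Or.inr (Or.inr (Or.inl h)))
    fun h => Or.inr (Or.inr (Or.inr h)))
  have hzE : z ∈ E := (hE z).2 (Or.inr (Or.inl rfl))
  have hezc : Commute e z := by
    rcases hecase with h | h <;> rw [h]
    · exact D.w_cen
    · exact D.w_cen.mul_left (Commute.refl z)
  have hmap : ∀ v ∈ E, g * v * g⁻¹ ∈ E := by
    intro v hv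
    have hgez : g * (e * z) * g⁻¹ = z := by
      calc g * (e * z) * g⁻¹ = (g * e * g⁻¹) * (g * z * g⁻¹) := by group
        _ = z := by
            rw [hge, hgz, mul_assoc, hezc.symm.eq, ← mul_assoc]
            rcases hecase with h | h <;> rw [h]
            · rw [D.w_sq, one_mul]
            · rw [mul_assoc w z, ← mul_assoc z w, D.w_cen.symm.eq, mul_assoc w z z, D.ctx.z_sq, mul_one,
                D.w_sq, one_mul]
    have hcases : v = 1 ∨ v = z ∨ v = e ∨ v = e * z := by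
      rcases (hE v).1 hv with h | h | h | h
      · exact Or.inl h
      · exact Or.inr (Or.inl h)
      · rcases hecase with h' | h'
        · exact Or.inr (Or.inr (Or.inl (h.trans h'.symm)))
        · exact Or.inr (Or.inr (Or.inr (by rw [h, h', mul_assoc, D.ctx.z_sq, mul_one])))
      · rcases hecase with h' | h'
        · exact Or.inr (Or.inr (Or.inr (by rw [h, h'])))
        · exact Or.inr (Or.inr (Or.inl (h.trans h'.symm)))
    rcases hcases with h | h | h | h <;> rw [h]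
    · simp
    · rw [hgz]; exact heE
    · rw [hge]; exact mul_mem heE hzE
    · rw [hgez]; exact hzE
  have hgN : g ∈ normalizer (E : Set G) := by
    have heq : E.map (MulAut.conj g).toMonoidHom = E := Subgroup.eq_of_le_of_card_ge
      (by rintro _ ⟨v, hv, rfl⟩; exact hmap v hv)
      (card_map_of_injective (MulAut.conj g).injective).ge
    refine mem_normalizer_iff.2 fun v => ⟨hmap v, fun hv => ?_⟩
    rw [← heq] at hv
    exact (mem_map_iff_mem (f := (MulAut.conj g).toMonoidHom) (MulAut.conj g).injective (K := E) (x := v)).1 hv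
  have hg' : (⟨g, hgX⟩ : X) ∈ normalizer (T : Set X) := by
    refine mem_normalizer_iff.2 fun v => ?_
    exact mem_normalizer_iff.1 hgN (v : G)
  have h6 : (centralizer (T : Set X)).relIndex (normalizer (T : Set X)) = 6 := by
    refine hd1.resolve_left fun h2 => ?_
    have hsq := Subgroup.sq_mem_of_index_two
      (show ((centralizer (T : Set X)).subgroupOf (normalizer (T : Set X))).index = 2 from h2) ⟨_, hg'⟩
    rw [mem_subgroupOf, mem_centralizer_iff] at hsq
    have h3 : z * g ^ 2 = g ^ 2 * z :=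
      congrArg Subtype.val (hsq ⟨z, hzX⟩ (show (⟨z, hzX⟩ : X) ∈ T from mem_subgroupOf.2 hzE))
    have h4 : g ^ 2 * z * (g ^ 2)⁻¹ = e * z := by
      calc g ^ 2 * z * (g ^ 2)⁻¹ = g * (g * z * g⁻¹) * g⁻¹ := by rw [pow_two]; group
        _ = e * z := by rw [hgz, hge]
    rw [← h3, mul_inv_cancel_right] at h4
    have he1 : e = 1 := mul_eq_right.1 h4.symm
    rcases hecase with h | h <;> rw [he1] at h
    · exact hw1 h.symm
    · exact hwz1 h.symm
  have h2' : (Q' ⊔ centralizer (Q' : Set X)).relIndex (normalizer (Q' : Set X)) = 2 := by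
    refine hd2.resolve_right fun h6' => ?_
    have hd : 3 ∣ Nat.card (normalizer (Q' : Set X)) :=
      (show 3 ∣ 6 by norm_num).trans (h6' ▸ (index_dvd_card _))
    obtain ⟨⟨⟨c, hcX⟩, hcN⟩, hco⟩ := exists_prime_orderOf_dvd_card' 3 hd
    rw [← Subgroup.orderOf_coe, ← Subgroup.orderOf_coe] at hco
    have hcz : Commute c z := by
      have h1 : c * z * c⁻¹ ∈ Q :=
        mem_subgroupOf.1 ((mem_normalizer_iff.1 hcN ⟨z, hzX⟩).1
          (show (⟨z, hzX⟩ : X) ∈ Q' from D.d6.data.z_mem))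
      exact mul_inv_eq_iff_eq_mul.1
        (D.unique _ h1 (by rw [← MulAut.conj_apply, MulEquiv.orderOf_eq, D.ctx.hz]))
    have := orderOf_dvd_natCard (Cen z ⊓ Cen y : Subgroup G) (show c ∈ Cen z ⊓ Cen y from ⟨mem_cen.2 hcz, hcX⟩)
    rw [show orderOf c = 3 from hco, hM] at this
    rcases Nat.prime_three.dvd_mul.1 this with h | h
    · norm_num at h
    · exact D.d6.data.three h
  obtain ⟨⟨K2, hK2n, hK2i, hK2s, hK2no⟩, -⟩ := Cfsg.Agent.S1206.result S' hqd T hTk hTS Q' hQS eQ' h6 h2'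
  -- the Sylow 2-subgroup of `K2`
  have hS16 : Nat.card (S' : Subgroup X) = 16 := by
    rw [Nat.card_congr eS.toEquiv, D.d6.card_S, D.card_Q]
  have hSK : ¬ (S' : Subgroup X) ≤ K2 := fun hle => S'.not_dvd_index (by
    have := index_dvd_of_le hle
    rw [hK2i] at this
    exact this)
  set W := ((S' : Subgroup X) ⊓ K2) with hW
  have hW8 : Nat.card W = 8 := by
    have h1 : W.relIndex (S' : Subgroup X) = 2 := by
      rw [hW, inf_relIndex_left]
      rcases (Nat.dvd_prime Nat.prime_two).1 (hK2i ▸ relIndex_dvd_index_of_normal K2 (S' : Subgroup X)) with h | h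
      · exact absurd (relIndex_eq_one.1 h) hSK
      · exact h
    have := card_relIndex (inf_le_left : W ≤ (S' : Subgroup X))
    rw [h1, hS16] at this
    exact Nat.eq_of_mul_eq_mul_right two_pos this
  have hW2 : IsPGroup 2 (W.subgroupOf K2) :=
    (S'.isPGroup'.to_le inf_le_left).of_equiv (subgroupOfEquivOfLe (inf_le_right : W ≤ K2)).symm
  have hWc : Nat.card (W.subgroupOf K2) = 8 := by
    rw [Nat.card_congr (subgroupOfEquivOfLe (inf_le_right : W ≤ K2)).toEquiv, hW8]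
  have hK2f : 2 ^ (Nat.card K2).factorization 2 = 8 := by
    have hX16 := S'.card_eq_multiplicity
    rw [hS16, ← K2.card_mul_index, hK2i, Nat.factorization_mul Nat.card_pos.ne' (by norm_num),
      Finsupp.add_apply, Nat.prime_two.factorization_self, pow_succ] at hX16
    omega
  let P0 : Sylow 2 K2 := Sylow.ofCard (W.subgroupOf K2) (by rw [hWc, hK2f])
  obtain ⟨m, ⟨eD⟩⟩ := hK2s P0
  have hm4 : m = 4 := by
    have h1 := Nat.card_congr eD.toEquiv
    rw [DihedralGroup.nat_card] at h1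
    have h2 : Nat.card (P0 : Subgroup K2) = 8 := hWc
    omega
  subst hm4
  -- the axis
  obtain ⟨a, i, haQ, hiQ, haa, hwaw, -, hiwi, hall⟩ := D.exists_axis
  have haX : a ∈ X := hQX haQ
  have hiX : i ∈ X := hQX hiQ
  have hsq : ∀ v : X, v * v ∈ K2 := fun v => by
    have := Subgroup.sq_mem_of_index_two hK2i v
    rwa [pow_two] at this
  have hzK : (⟨z, hzX⟩ : X) ∈ K2 := by
    have := hsq ⟨a, haX⟩
    rwa [show (⟨a, haX⟩ : X) * ⟨a, haX⟩ = ⟨z, hzX⟩ from Subtype.ext haa] at this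
  have haK : (⟨a, haX⟩ : X) ∈ K2 := by
    have hcomm : (⟨i, hiX⟩ : X) * ⟨w, hwX⟩ * (⟨i, hiX⟩ : X)⁻¹ * ⟨w, hwX⟩⁻¹ ∈ K2 := by
      by_cases hwK : (⟨w, hwX⟩ : X) ∈ K2
      · exact mul_mem (hK2n.conj_mem _ hwK _) (inv_mem hwK)
      · refine (Subgroup.mul_mem_iff_of_index_two hK2i).2 (iff_of_false (fun h => hwK ?_) fun h => hwK ?_)
        · have := hK2n.conj_mem _ h (⟨i, hiX⟩ : X)⁻¹
          rwa [show (⟨i, hiX⟩ : X)⁻¹ * (⟨i, hiX⟩ * ⟨w, hwX⟩ * (⟨i, hiX⟩ : X)⁻¹) * (⟨i, hiX⟩ : X)⁻¹⁻¹ =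
            ⟨w, hwX⟩ by group] at this
        · exact inv_mem_iff.1 h
    have e1 : (⟨i, hiX⟩ : X) * ⟨w, hwX⟩ * (⟨i, hiX⟩ : X)⁻¹ * ⟨w, hwX⟩⁻¹ = ⟨a, haX⟩ * ⟨z, hzX⟩ := by
      refine Subtype.ext ?_
      show i * w * i⁻¹ * w⁻¹ = a * z
      rw [hiwi, mul_inv_cancel_right]
    rw [e1] at hcomm
    exact (Subgroup.mul_mem_cancel_right _ hzK).1 hcomm
  have hwK : (⟨w, hwX⟩ : X) ∈ K2 := by
    -- some involution of the dihedral group other than `z`
    obtain ⟨p, hp1, hpz⟩ : ∃ p : (P0 : Subgroup K2), p * p = 1 ∧ (p : G) ≠ 1 ∧ (p : G) ≠ z := by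
      by_contra hc'
      push Not at hc'
      have key : ∀ r : DihedralGroup 4, ∃ s t : DihedralGroup 4,
          s * s = 1 ∧ t * t = 1 ∧ s ≠ 1 ∧ t ≠ 1 ∧ s ≠ t := by
        intro r
        exact ⟨.sr 0, .sr 1, by decide, by decide, by decide, by decide, by decide⟩
      obtain ⟨s, t, hs, ht, hs1, ht1, hst⟩ := key 1
      have hz' : ∀ r : DihedralGroup 4, r * r = 1 → r ≠ 1 → ((eD.symm r : (P0 : Subgroup K2)) : G) = z := by
        intro r hr hr1
        refine hc' _ (by rw [← map_mul, hr, map_one]) fun h => hr1 ?_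
        have h' : eD.symm r = 1 := Subtype.ext (Subtype.ext (Subtype.ext h))
        exact eD.symm.injective (by rw [h', map_one])
      exact hst (eD.symm.injective (Subtype.ext (Subtype.ext (Subtype.ext
        ((hz' s hs hs1).trans (hz' t ht ht1).symm)))))
    set v : G := (((p : K2) : X) : G) with hv
    have hvS : v ∈ (S : Subgroup G) := (mem_subgroupOf.1 p.2).1
    have hvv : v * v = 1 := congrArg (fun t : (P0 : Subgroup K2) => (((t : K2) : X) : G)) hp1
    have hvo : orderOf v = 2 := orderOf_eq_prime (by rw [pow_two, hvv]) hpz.1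
    have hvQ : v ∉ Q := fun h => hpz.2 (D.unique v h hvo)
    set r := v * w with hr
    have hrQ : r ∈ Q := D.d6.mul_mem_Q hvS D.w_mem hvQ D.w_out
    have hvr : v = r * w := by rw [hr, mul_assoc, D.w_sq, mul_one]
    have hwr : w * r * w = r⁻¹ := eq_inv_of_mul_eq_one_right (by
      calc r * (w * r * w) = (r * w) * (r * w) := by group
        _ = 1 := by rw [← hvr, hvv])
    have hrX : r ∈ X := hQX hrQ
    have hrK : (⟨r, hrX⟩ : X) ∈ K2 := by
      rcases hall r hrQ hwr with h | h | h | h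
      · rw [show (⟨r, hrX⟩ : X) = 1 from Subtype.ext h]; exact one_mem _
      · rw [show (⟨r, hrX⟩ : X) = ⟨z, hzX⟩ from Subtype.ext h]; exact hzK
      · rw [show (⟨r, hrX⟩ : X) = ⟨a, haX⟩ from Subtype.ext h]; exact haK
      · rw [show (⟨r, hrX⟩ : X) = ⟨a, haX⟩ * ⟨z, hzX⟩ from Subtype.ext h]; exact mul_mem haK hzK
    have e1 : (⟨w, hwX⟩ : X) = (⟨r, hrX⟩ : X)⁻¹ * ((p : K2) : X) := Subtype.ext (by
      show w = r⁻¹ * v
      rw [hvr, inv_mul_cancel_left])
    rw [e1]
    exact mul_mem (inv_mem hrK) (p : K2).2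
  obtain ⟨b, hbQ, hbK⟩ : ∃ b, ∃ hb : b ∈ Q, (⟨b, hQX hb⟩ : X) ∉ K2 := by
    by_contra hc'
    push Not at hc'
    refine hSK fun s hs => ?_
    by_cases hsQ : (s : G) ∈ Q
    · exact hc' _ hsQ
    · have h1 : (⟨_, hQX (D.d6.mul_mem_Q hs D.w_mem hsQ D.w_out)⟩ : X) ∈ K2 :=
        hc' _ (D.d6.mul_mem_Q hs D.w_mem hsQ D.w_out)
      have h2 := mul_mem h1 hwK
      rwa [show (⟨_, hQX (D.d6.mul_mem_Q hs D.w_mem hsQ D.w_out)⟩ : X) * ⟨w, hwX⟩ = s from
        Subtype.ext (by show (s : G) * w * w = s; rw [mul_assoc, D.w_sq, mul_one])] at h2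
  have ha4 : orderOf a = 4 := by
    have : orderOf a = 2 ^ (1 + 1) := orderOf_eq_prime_pow
      (by rw [pow_one, pow_two, haa]; exact D.ctx.z_ne)
      (by rw [show 2 ^ (1 + 1) = 2 + 2 from rfl, pow_add, pow_two, haa, D.ctx.z_sq])
    simpa using this
  refine ⟨K2.map X.subtype, a, b, map_subtype_le _, ?_, haQ, hbQ, ⟨_, haK, rfl⟩, ?_, ⟨_, hwK, rfl⟩, ?_,
    haa, ?_, hwaw, ha4, ?_, ?_⟩
  · intro v hv
    exact le_normalizer_map X.subtype ⟨⟨v, hv⟩, by rw [normalizer_eq_top]; exact mem_top _, rfl⟩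
  · rintro ⟨u, hu, hue⟩
    exact hbK ((show u = ⟨b, hQX hbQ⟩ from Subtype.ext hue) ▸ hu)
  · intro k hk
    refine ⟨⟨k, hKy hk⟩, ?_, rfl⟩
    show (⟨k, hKy hk⟩ : X) ∈ K2
    rw [← QuotientGroup.eq_one_iff, ← orderOf_eq_one_iff]
    refine Nat.eq_one_of_dvd_coprimes (Nat.Coprime.coprime_dvd_left (orderOf_dvd_natCard K hk)
      (Nat.prime_two.coprime_iff_not_dvd.2 D.d6.data.odd).symm) ?_ ?_
    · rw [← Subgroup.orderOf_mk k (hKy hk)]
      exact orderOf_map_dvd (QuotientGroup.mk' K2) _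
    · rw [← hK2i, index_eq_card]
      exact _root_.orderOf_dvd_natCard _
  · have hb1 : b ≠ 1 := fun h => hbK (by
      rw [show (⟨b, hQX hbQ⟩ : X) = 1 from Subtype.ext h]; exact one_mem _)
    have hbz : b ≠ z := fun h => hbK (by
      rw [show (⟨b, hQX hbQ⟩ : X) = ⟨z, hzX⟩ from Subtype.ext h]; exact hzK)
    refine D.conj_eq_inv haQ hbQ hb1 hbz (fun h => hbK ?_) (fun h => hbK ?_)
    · rw [show (⟨b, hQX hbQ⟩ : X) = (⟨a, haX⟩ : X)⁻¹ from Subtype.ext (eq_inv_of_mul_eq_one_right h)]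
      exact inv_mem haK
    · rw [show (⟨b, hQX hbQ⟩ : X) = (⟨a, haX⟩ : X)⁻¹ * ⟨z, hzX⟩ from
        Subtype.ext (show b = a⁻¹ * z by rw [← h, inv_mul_cancel_left])]
      exact mul_mem (inv_mem haK) hzK
  · intro H hH
    set e2 := K2.equivMapOfInjective X.subtype X.subtype_injective with he2
    exact hK2no (H.comap e2.toMonoidHom) (by rw [index_comap_of_surjective _ e2.surjective, hH])
  · set e2 := K2.equivMapOfInjective X.subtype X.subtype_injective with he2
    refine ⟨P0.mapSurjective (f := e2.toMonoidHom) e2.surjective, ?_, ?_⟩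
    · show Nat.card ((P0 : Subgroup K2).map e2.toMonoidHom) = 8
      rw [card_map_of_injective e2.injective]
      exact hWc
    · exact ⟨((P0 : Subgroup K2).equivMapOfInjective e2.toMonoidHom e2.injective).symm.trans eD⟩

end Quat

end Cfsg.Agent.Lib.SelfCentSix9
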