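import Cfsg.Agent.Lib.SelfCentSix9.Six.QuatSylow

/-!
# Index six with a quaternion `Q`: fusion in the four-group

`a` is the element of `Q` with `w a w = a⁻¹`; conjugation by `a` exchanges `w` and `w z`, and together with
a conjugate it gives a three-cycle on `⟨z, w⟩` centralising the part of the core fixed by `w`.
-/

set_option autoImplicit false

namespace Cfsg.Agent.Lib.SelfCentSix9

open Subgroup

universe u

variable {G : Type u} [Group G] [Finite G] {z x : G} {Q K : Subgroup G} {S : Sylow 2 G}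

/-- An element of `C(z)` of order prime to six lies in `K`. -/
theorem D6.mem_K_of_coprime (D : D6 z x Q K S) {a : G} (ha : a ∈ Cen z)
    (ho : Nat.Coprime (orderOf a) 6) : a ∈ K := by
  have : Fact (Nat.Prime 2) := ⟨Nat.prime_two⟩
  have hc := D.data.commute
  set N := prodSub Q K hc with hN
  have hNle : N ≤ Cen z := by
    rintro _ ⟨q, hq, k, hk, rfl⟩
    exact mul_mem (D.data.Q_le hq) (D.data.K_le hk)
  have hn : (N.subgroupOf (Cen z)).Normal := by
    refine ⟨?_⟩
    rintro ⟨y, hy⟩ hyN ⟨g, hg⟩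
    obtain ⟨q, hq, k, hk, e⟩ := mem_subgroupOf.1 hyN
    refine mem_subgroupOf.2 ⟨g * q * g⁻¹, (mem_normalizer_iff.1 (D.data.Q_norm hg) q).1 hq, g * k * g⁻¹,
      (mem_normalizer_iff.1 (D.data.K_norm hg) k).1 hk, ?_⟩
    show g * y * g⁻¹ = _
    rw [show y = q * k from e]; group
  have hdisj : Disjoint Q K := disjoint_of_coprime_natCard (by
    obtain ⟨j, hj⟩ := D.data.two.exists_card_eq
    rw [hj]
    exact Nat.Coprime.pow_left _ (Nat.prime_two.coprime_iff_not_dvd.2 D.data.odd))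
  have hcard : Nat.card N = Nat.card Q * Nat.card K := by
    rw [← Nat.card_prod]
    refine (Nat.card_congr (Equiv.ofBijective
      (fun p : Q × K => (⟨(p.1 : G) * p.2, p.1, p.1.2, p.2, p.2.2, rfl⟩ : N)) ⟨?_, ?_⟩)).symm
    · intro p r e'
      exact Subgroup.mul_injective_of_disjoint hdisj (congrArg Subtype.val e' : (p.1 : G) * p.2 = r.1 * r.2)
    · rintro ⟨_, q, hq, k, hk, rfl⟩
      exact ⟨(⟨q, hq⟩, ⟨k, hk⟩), rfl⟩
  have hidx : (N.subgroupOf (Cen z)).index = 6 := by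
    have e := (N.subgroupOf (Cen z)).card_mul_index
    rw [Nat.card_congr (subgroupOfEquivOfLe hNle).toEquiv, hcard, D.data.card, mul_assoc 6,
      mul_comm 6] at e
    exact Nat.eq_of_mul_eq_mul_left (Nat.mul_pos Nat.card_pos Nat.card_pos) e
  have haN : (⟨a, ha⟩ : Cen z) ∈ N.subgroupOf (Cen z) := by
    rw [← QuotientGroup.eq_one_iff, ← orderOf_eq_one_iff]
    refine Nat.eq_one_of_dvd_coprimes (ho : Nat.Coprime (orderOf a) 6) ?_ ?_
    · rw [← Subgroup.orderOf_mk a ha]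
      exact orderOf_map_dvd (QuotientGroup.mk' (N.subgroupOf (Cen z))) _
    · rw [← hidx, index_eq_card]
      exact _root_.orderOf_dvd_natCard _
  obtain ⟨q, hq, k, hk, rfl⟩ := mem_subgroupOf.1 haN
  obtain ⟨n, hn'⟩ := D.data.two ⟨q, hq⟩
  have hqn : q ^ 2 ^ n = 1 := congrArg Subtype.val hn'
  have e1 : (q * k) ^ 2 ^ n = k ^ 2 ^ n := by
    rw [(D.data.commute k hk q hq).symm.mul_pow, hqn, one_mul]
  obtain ⟨m, hm⟩ := exists_pow_eq_self_of_coprime (x := q * k) (n := 2 ^ n)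
    (Nat.Coprime.pow_left n (ho.symm.coprime_dvd_left (by norm_num)))
  rw [← hm, e1]
  exact pow_mem (pow_mem hk _) _

namespace Quat

variable {w : G} (D : Quat z x w Q K S)
include D

/-- If `b a ∉ ⟨z⟩` and `b ∉ ⟨z⟩` then `b` inverts `a` in `Q`. -/
theorem conj_eq_inv {a b : G} (ha : a ∈ Q) (hb : b ∈ Q) (hb1 : b ≠ 1) (hbz : b ≠ z)
    (hab : a * b ≠ 1) (habz : a * b ≠ z) : b * a * b⁻¹ = a⁻¹ := by
  have h1 := D.sq_eq (mul_mem ha hb) hab habz
  have h2 := D.sq_eq hb hb1 hbz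
  have e : a * b * a = b := by
    calc a * b * a = (a * b * (a * b)) * b⁻¹ := by group
      _ = b := by rw [h1, ← h2, mul_inv_cancel_right]
  calc b * a * b⁻¹ = a⁻¹ * (a * b * a) * b⁻¹ := by group
    _ = a⁻¹ := by rw [e]; group

/-- The axis `a` and an element `i` moving `w` to `a z w`. -/
theorem exists_axis : ∃ a i : G, a ∈ Q ∧ i ∈ Q ∧ a * a = z ∧ w * a * w = a⁻¹ ∧
    a * w * a⁻¹ = w * z ∧ i * w * i⁻¹ = a * z * w ∧
    (∀ r ∈ Q, w * r * w = r⁻¹ → r = 1 ∨ r = z ∨ r = a ∨ r = a * z) := by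
  obtain ⟨i, hi, hi1, hiz, h1, h2⟩ := D.exists_moved
  set j := w * i * w with hj
  have hjQ : j ∈ Q := by
    have := (mem_normalizer_iff.1 (D.d6.S_norm D.w_mem) i).1 hi
    rwa [D.w_inv] at this
  have hzc : ∀ {y : G}, y ∈ Q → Commute y z := fun hy => mem_cen.1 (D.d6.data.Q_le hy)
  have hj1 : j ≠ 1 := fun e => hi1 (by
    have := congrArg (fun t => w * t * w) e
    simp only [hj] at this
    rwa [show w * (w * i * w) * w = (w * w) * i * (w * w) by group, D.w_sq, one_mul, mul_one, mul_one,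
      D.w_sq] at this)
  have hjz : j ≠ z := fun e => hiz (by
    have := congrArg (fun t => w * t * w) e
    simp only [hj] at this
    rwa [show w * (w * i * w) * w = (w * w) * i * (w * w) by group, D.w_sq, one_mul, mul_one,
      D.w_cen.eq, mul_assoc, D.w_sq, mul_one] at this)
  have hii := D.sq_eq hi hi1 hiz
  have hjj := D.sq_eq hjQ hj1 hjz
  have hinv : i⁻¹ = i * z := inv_eq_of_mul_eq_one_right (by rw [← mul_assoc, hii, D.ctx.z_sq])
  have hij1 : i * j ≠ 1 := fun e => h2 ((eq_inv_of_mul_eq_one_right e).trans hinv)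
  have hijz : i * j ≠ z := fun e => h1 (mul_left_cancel (e.trans hii.symm))
  have hij := D.sq_eq (mul_mem hi hjQ) hij1 hijz
  set a := i * j with ha
  have haQ : a ∈ Q := mul_mem hi hjQ
  have hiji : i * j * i = j := by
    calc i * j * i = (a * a) * j⁻¹ := by rw [ha]; group
      _ = j := by rw [hij, ← hjj, mul_inv_cancel_right]
  have hainv : a⁻¹ = a * z := inv_eq_of_mul_eq_one_right (by rw [← mul_assoc, hij, D.ctx.z_sq])
  have hwaw : w * a * w = a⁻¹ := by
    have e : w * a * w = j * i := by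
      calc w * a * w = (w * i * w) * (w * j * w) := by
            rw [ha, show w * i * w * (w * j * w) = w * i * (w * w) * j * w by group, D.w_sq, mul_one]; group
        _ = j * i := by
            rw [show w * j * w = (w * w) * i * (w * w) by rw [hj]; group, D.w_sq, one_mul, mul_one, ← hj]
    rw [e]
    refine eq_inv_of_mul_eq_one_left ?_
    calc j * i * a = j * (i * i) * j := by rw [ha]; group
      _ = 1 := by rw [hii, (hzc hjQ).eq, mul_assoc, hjj, D.ctx.z_sq]
  have haw : a * w * a⁻¹ = w * z := by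
    have e : w * a⁻¹ = a * w := by
      rw [← hwaw, show w * (w * a * w) = (w * w) * a * w by group, D.w_sq, one_mul]
    calc a * w * a⁻¹ = (w * a⁻¹) * a⁻¹ := by rw [e]
      _ = w * (a * a)⁻¹ := by group
      _ = w * z := by rw [hij, D.ctx.z_inv]
  have hiwi : i * w * i⁻¹ = a * z * w := by
    have e : j * z = j⁻¹ := (inv_eq_of_mul_eq_one_right (by rw [← mul_assoc, hjj, D.ctx.z_sq])).symm
    calc i * w * i⁻¹ = i * (w * i * w)⁻¹ * w := by
          rw [mul_inv_rev, mul_inv_rev, D.w_inv]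
          calc i * w * i⁻¹ = i * w * i⁻¹ * (w * w) := by rw [D.w_sq, mul_one]
            _ = _ := by group
      _ = a * z * w := by rw [← hj, ← e, ha]; group
  refine ⟨a, i, haQ, hi, hij, hwaw, haw, hiwi, fun r hr hwr => ?_⟩
  -- the eight elements of `Q`
  have hjQ' : ({1, z, a, a * z, i, i * z, j, j * z} : Set G) ⊆ (Q : Set G) := by
    rintro y (rfl | rfl | rfl | rfl | rfl | rfl | rfl | rfl)
    exacts [one_mem _, D.d6.data.z_mem, haQ, mul_mem haQ D.d6.data.z_mem, hi,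
      mul_mem hi D.d6.data.z_mem, hjQ, mul_mem hjQ D.d6.data.z_mem]
  have n1 : a ≠ 1 := hij1
  have n2 : a ≠ z := hijz
  have n3 : a * z ≠ 1 := fun e => hijz ((eq_inv_of_mul_eq_one_left e).trans D.ctx.z_inv)
  have n4 : a * z ≠ z := fun e => n1 (mul_eq_right.1 e)
  have n5 : ∀ {p : G}, p ≠ 1 → p ≠ z → p * z ≠ 1 ∧ p * z ≠ z ∧ p * z ≠ p := fun hp hp' =>
    ⟨fun e => hp' ((eq_inv_of_mul_eq_one_left e).trans D.ctx.z_inv), fun e => hp (mul_eq_right.1 e),
      fun e => D.ctx.z_ne (mul_eq_left.1 e)⟩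
  have hai : a ≠ i := fun e => hj1 (mul_eq_left.1 (ha ▸ e))
  have haiz : a ≠ i * z := fun e => hjz (mul_left_cancel (ha ▸ e))
  have haj : a ≠ j := fun e => hi1 (mul_eq_right.1 (ha ▸ e))
  have hajz : a ≠ j * z := fun e => hiz (by
    rw [ha, (hzc hjQ).eq] at e
    exact mul_right_cancel e)
  have hzz : ∀ p q : G, p * z = q → q * z = p := fun p q e => by
    rw [← e, mul_assoc, D.ctx.z_sq, mul_one]
  have hazi : a * z ≠ i := fun e => haiz (hzz _ _ e).symm
  have haziz : a * z ≠ i * z := fun e => hai (mul_right_cancel e)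
  have hazj : a * z ≠ j := fun e => hajz (hzz _ _ e).symm
  have hazjz : a * z ≠ j * z := fun e => haj (mul_right_cancel e)
  have hjiz : j ≠ i * z := h2
  have hjne : j ≠ i := h1
  have hjzi : j * z ≠ i := fun e => hjiz (hzz _ _ e).symm
  have hjziz : j * z ≠ i * z := fun e => hjne (mul_right_cancel e)
  obtain ⟨hiz1, hizz, hizi⟩ := n5 hi1 hiz
  obtain ⟨hjz1, hjzz, hjzj⟩ := n5 hj1 hjz
  obtain ⟨-, -, haza⟩ := n5 n1 n2
  have hcard : ({1, z, a, a * z, i, i * z, j, j * z} : Set G).ncard = 8 := by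
    rw [Set.ncard_insert_of_notMem (by simp [Ne.symm D.ctx.z_ne, Ne.symm n1, Ne.symm n3, Ne.symm hi1,
        Ne.symm hiz1, Ne.symm hj1, Ne.symm hjz1]) (Set.toFinite _),
      Set.ncard_insert_of_notMem (by simp [Ne.symm n2, Ne.symm n4, Ne.symm hiz, Ne.symm hizz, Ne.symm hjz,
        Ne.symm hjzz]) (Set.toFinite _),
      Set.ncard_insert_of_notMem (by simp [Ne.symm haza, hai, haiz, haj, hajz]) (Set.toFinite _),
      Set.ncard_insert_of_notMem (by simp [hazi, haziz, hazj, hazjz]) (Set.toFinite _),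
      Set.ncard_insert_of_notMem (by simp [Ne.symm hizi, Ne.symm hjne, Ne.symm hjzi]) (Set.toFinite _),
      Set.ncard_insert_of_notMem (by simp [Ne.symm hjiz, Ne.symm hjziz]) (Set.toFinite _),
      Set.ncard_pair (Ne.symm hjzj)]
  have hall := Set.eq_of_subset_of_ncard_le hjQ'
    (by rw [hcard, ← Nat.card_coe_set_eq, ← D.card_Q]; rfl) (Set.toFinite _)
  have hjinv : j⁻¹ = j * z := inv_eq_of_mul_eq_one_right (by rw [← mul_assoc, hjj, D.ctx.z_sq])
  have hwj : w * j * w = i := by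
    rw [hj, show w * (w * i * w) * w = (w * w) * i * (w * w) by group, D.w_sq, one_mul, mul_one]
  have hwz : ∀ p : G, w * (p * z) * w = w * p * w * z := fun p => by
    rw [mul_assoc w (p * z), mul_assoc p z, ← D.w_cen.eq]; group
  have hr' : r ∈ ({1, z, a, a * z, i, i * z, j, j * z} : Set G) := hall ▸ hr
  rcases hr' with rfl | rfl | rfl | rfl | rfl | rfl | rfl | rfl
  · exact Or.inl rfl
  · exact Or.inr (Or.inl rfl)
  · exact Or.inr (Or.inr (Or.inl rfl))
  · exact Or.inr (Or.inr (Or.inr rfl))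
  · exact absurd (hwr.trans hinv) hjiz
  · rw [hwz, ← hj, mul_inv_rev, hinv, D.ctx.z_inv, (hzc hi).symm.left_comm, ← mul_assoc] at hwr
    exact absurd (mul_right_cancel hwr) (fun e => hjiz (by rw [e]))
  · rw [hwj, hjinv] at hwr
    exact absurd hwr.symm hjzi
  · rw [hwz, hwj, mul_inv_rev, hjinv, D.ctx.z_inv, (hzc hjQ).symm.left_comm, ← mul_assoc] at hwr
    exact absurd (mul_right_cancel hwr).symm hjzi

/-- A three-cycle on `⟨z, w⟩` centralising every element of the core fixed by `w`. -/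
theorem exists_cycle : ∃ g e : G, (e = w ∨ e = w * z) ∧ g * z * g⁻¹ = e ∧ g * e * g⁻¹ = e * z ∧
    ∀ y ∈ K, Commute w y → Commute g y := by
  have : Fact (Nat.Prime 2) := ⟨Nat.prime_two⟩
  obtain ⟨a, i, haQ, hiQ, haa, hwaw, haw, hiwi, hall⟩ := D.exists_axis
  obtain ⟨g0, hg0⟩ := D.ctx.exists_conj D.w_ord
  set u := g0 * z * g0⁻¹ with hu
  have huz : Commute u z := by
    have := D.w_cen.symm.map (MulAut.conj g0)
    simp only [MulAut.conj_apply] at this
    rwa [hg0] at this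
  have huo : orderOf u = 2 := by rw [hu, ← MulAut.conj_apply, MulEquiv.orderOf_eq, D.ctx.hz]
  have hune : u ≠ z := fun e => D.w_ne_z (by
    have e' : g0 * z * g0⁻¹ = g0 * w * g0⁻¹ := by rw [hg0]; exact e
    exact (mul_left_cancel (mul_right_cancel e')).symm)
  have hp : IsPGroup 2 (zpowers (⟨u, mem_cen.2 huz⟩ : Cen z)) :=
    IsPGroup.of_card (n := 1) (by rw [Nat.card_zpowers, pow_one, ← Subgroup.orderOf_coe]; exact huo)
  obtain ⟨R, hR⟩ := hp.exists_le_sylow
  obtain ⟨m, hm⟩ := MulAction.exists_smul_eq (Cen z) R (S.subtype D.d6.S_le)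
  set v := (m : G) * u * (m : G)⁻¹ with hv
  have hvS : v ∈ (S : Subgroup G) := by
    have h1 := Subgroup.smul_mem_pointwise_smul (a := MulAut.conj m) _ _ (hR (mem_zpowers _))
    rw [← Sylow.coe_subgroup_smul, hm] at h1
    simpa [mem_subgroupOf] using h1
  have hvo : orderOf v = 2 := by rw [hv, ← MulAut.conj_apply, MulEquiv.orderOf_eq, huo]
  have hvz : v ≠ z := fun e => hune (by
    have e' : (m : G) * u * (m : G)⁻¹ = (m : G) * z * (m : G)⁻¹ := by
      rw [mul_inv_eq_iff_eq_mul.2 (mem_cen.1 m.2).eq]; exact e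
    exact mul_left_cancel (mul_right_cancel e'))
  have hvQ : v ∉ Q := fun hQ => hvz (D.unique v hQ hvo)
  -- `v` is conjugate in `Q` to `w` or to `w z`
  set r := v * w with hr
  have hrQ : r ∈ Q := D.d6.mul_mem_Q hvS D.w_mem hvQ D.w_out
  have hvv : v * v = 1 := by rw [← pow_two, ← hvo, pow_orderOf_eq_one]
  have hvr : v = r * w := by rw [hr, mul_assoc, D.w_sq, mul_one]
  have hwr : w * r * w = r⁻¹ := eq_inv_of_mul_eq_one_right (by
    calc r * (w * r * w) = (r * w) * (r * w) := by group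
      _ = 1 := by rw [← hvr, hvv])
  have hzc : ∀ {y : G}, y ∈ Q → Commute y z := fun hy => mem_cen.1 (D.d6.data.Q_le hy)
  obtain ⟨q, hq, hqv⟩ : ∃ q ∈ Q, q * v * q⁻¹ = w ∨ q * v * q⁻¹ = w * z := by
    rcases hall r hrQ hwr with e | e | e | e
    · exact ⟨1, one_mem _, Or.inl (by rw [hvr, e]; group)⟩
    · refine ⟨1, one_mem _, Or.inr ?_⟩
      rw [hvr, e, D.w_cen.eq]; group
    · refine ⟨i⁻¹, inv_mem hiQ, Or.inr ?_⟩
      have e2 : v = i * (w * z) * i⁻¹ := by
        rw [hvr, e, show i * (w * z) * i⁻¹ = (i * w * i⁻¹) * (i * z * i⁻¹) by group, hiwi,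
          mul_inv_eq_iff_eq_mul.2 (hzc hiQ).eq, mul_assoc, mul_assoc, D.w_cen.eq, ← mul_assoc z z,
          D.ctx.z_sq, one_mul]
      rw [e2]; group
    · refine ⟨i⁻¹, inv_mem hiQ, Or.inl ?_⟩
      have e2 : v = i * w * i⁻¹ := by rw [hvr, e, hiwi]
      rw [e2]; group
  set c := q * (m : G) * g0 with hc
  have hcw : c * w * c⁻¹ = z := by
    calc c * w * c⁻¹ = q * ((m : G) * (g0 * w * g0⁻¹) * (m : G)⁻¹) * q⁻¹ := by rw [hc]; group
      _ = z := by
          rw [hg0, mul_inv_eq_iff_eq_mul.2 (mem_cen.1 m.2).eq, mul_inv_eq_iff_eq_mul.2 (hzc hq).eq]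
  set e := c * z * c⁻¹ with he
  have hev : e = q * v * q⁻¹ := by rw [he, hc, hv, hu]; group
  have hecases : e = w ∨ e = w * z := by rw [hev]; exact hqv
  have haz : a * z * a⁻¹ = z := mul_inv_eq_iff_eq_mul.2 (hzc haQ).eq
  have hae : a * e * a⁻¹ = e * z := by
    rcases hecases with e1 | e1 <;> rw [e1]
    · exact haw
    · rw [show a * (w * z) * a⁻¹ = (a * w * a⁻¹) * (a * z * a⁻¹) by group, haw, haz]
  have hez : Commute e z := by
    rcases hecases with e1 | e1 <;> rw [e1]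
    · exact D.w_cen
    · exact D.w_cen.mul_left (Commute.refl z)
  have hsz : c * a * c⁻¹ * z * (c * a * c⁻¹)⁻¹ = z * e := by
    calc c * a * c⁻¹ * z * (c * a * c⁻¹)⁻¹ = c * (a * (c⁻¹ * z * c) * a⁻¹) * c⁻¹ := by group
      _ = c * (w * z) * c⁻¹ := by rw [show c⁻¹ * z * c = w by rw [← hcw]; group, haw]
      _ = (c * w * c⁻¹) * (c * z * c⁻¹) := by group
      _ = z * e := by rw [hcw]
  have hse : c * a * c⁻¹ * e * (c * a * c⁻¹)⁻¹ = e := by
    calc c * a * c⁻¹ * e * (c * a * c⁻¹)⁻¹ = c * (a * z * a⁻¹) * c⁻¹ := by rw [he]; group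
      _ = e := by rw [haz]
  refine ⟨a * (c * a * c⁻¹), e, hecases, ?_, ?_, fun y hy hwy => ?_⟩
  · calc a * (c * a * c⁻¹) * z * (a * (c * a * c⁻¹))⁻¹
          = a * (c * a * c⁻¹ * z * (c * a * c⁻¹)⁻¹) * a⁻¹ := by group
      _ = (a * z * a⁻¹) * (a * e * a⁻¹) := by rw [hsz]; group
      _ = e := by rw [haz, hae, hez.eq, ← mul_assoc, D.ctx.z_sq, one_mul]
  · calc a * (c * a * c⁻¹) * e * (a * (c * a * c⁻¹))⁻¹
          = a * (c * a * c⁻¹ * e * (c * a * c⁻¹)⁻¹) * a⁻¹ := by group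
      _ = e * z := by rw [hse, hae]
  · have hyz : Commute y z := mem_cen.1 (D.d6.data.K_le hy)
    have hye : Commute y e := by
      rcases hecases with e1 | e1 <;> rw [e1]
      · exact hwy.symm
      · exact hwy.symm.mul_right hyz
    set y0 := c⁻¹ * y * c with hy0
    have hy0z : Commute y0 z := by
      have := hye.map (MulAut.conj c⁻¹)
      simp only [MulAut.conj_apply, inv_inv] at this
      rwa [show c⁻¹ * e * c = z by rw [he]; group] at this
    have hy0K : y0 ∈ K := D.d6.mem_K_of_coprime (mem_cen.2 hy0z) (by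
      have e1 : orderOf y0 = orderOf y := by
        rw [hy0, show c⁻¹ * y * c = MulAut.conj c⁻¹ y by simp, MulEquiv.orderOf_eq]
      rw [e1]
      exact Nat.Coprime.coprime_dvd_left (orderOf_dvd_natCard K hy) (Nat.Coprime.mul_right
        (Nat.prime_two.coprime_iff_not_dvd.2 D.d6.data.odd).symm
        (Nat.prime_three.coprime_iff_not_dvd.2 D.d6.data.three).symm))
    have h1 : Commute a y0 := (D.d6.data.commute y0 hy0K a haQ).symm
    have h2 := h1.map (MulAut.conj c)
    simp only [MulAut.conj_apply] at h2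
    rw [show c * y0 * c⁻¹ = y by rw [hy0]; group] at h2
    exact (D.d6.data.commute y hy a haQ).symm.mul_left h2

end Quat

end Cfsg.Agent.Lib.SelfCentSix9
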