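import Cfsg.Agent.Lib.SelfCentSix9.Six.Setup
import Cfsg.Agent.Lib.PGroups.UniqueInvolution
import Cfsg.Prelude.Def_CaseTheorems

/-!
# Index six with a quaternion `Q`: the Sylow 2-subgroup

An involution `w` outside `Q` induces an outer automorphism of `Q`, so `S` is semidihedral of order
sixteen; `w` neither inverts nor centralises the centre of a non-trivial core.
-/

set_option autoImplicit false

namespace Cfsg.Agent.Lib.SelfCentSix9

open Subgroup

universe u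

variable {G : Type u} [Group G] [Finite G] {z x : G} {Q K : Subgroup G} {S : Sylow 2 G}

/-- The setting: `|Q| = 8`, `z` is its only involution and `w` is an involution outside. -/
structure Quat (z x w : G) (Q K : Subgroup G) (S : Sylow 2 G) : Prop where
  ctx : Ctx G z x
  d6 : D6 z x Q K S
  card_Q : Nat.card Q = 8
  unique : ∀ v ∈ Q, orderOf v = 2 → v = z
  w_mem : w ∈ (S : Subgroup G)
  w_out : w ∉ Q
  w_ord : orderOf w = 2

/-- The setting exists. -/
theorem D6.exists_quat (D : D6 z x Q K S) (h : Ctx G z x) (h8 : Nat.card Q = 8)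
    (hun : ∀ v ∈ Q, orderOf v = 2 → v = z) : ∃ w, Quat z x w Q K S := by
  obtain ⟨w, hw, hwo, hwz⟩ := h.exists_second_invol S z
  exact ⟨w, h, D, h8, hun, hw, fun hQ => hwz (hun w hQ hwo), hwo⟩

namespace Quat

variable {w : G} (D : Quat z x w Q K S)
include D

omit [Finite G] in
theorem w_sq : w * w = 1 := by rw [← pow_two, ← D.w_ord, pow_orderOf_eq_one]

omit [Finite G] in
theorem w_inv : w⁻¹ = w := inv_eq_of_mul_eq_one_right D.w_sq

omit [Finite G] in
theorem w_cen : Commute w z := mem_cen.1 (D.d6.S_le D.w_mem)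

omit [Finite G] in
theorem w_ne_z : w ≠ z := fun e => D.w_out (e ▸ D.d6.data.z_mem)

theorem x_not_cent : ∃ q ∈ Q, ¬ Commute q x := by
  by_contra hc
  push Not at hc
  have h2 := D.ctx.card_le_two_x D.d6.data.two fun q hq => mem_cen.2 (hc q hq)
  rw [D.card_Q] at h2
  omega

/-- An element of `Q` outside `⟨z⟩` squares to `z`. -/
theorem sq_eq {v : G} (hv : v ∈ Q) (hv1 : v ≠ 1) (hvz : v ≠ z) : v * v = z := by
  classical
  have : Fact (Nat.Prime 2) := ⟨Nat.prime_two⟩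
  have hd : orderOf v ∣ 2 ^ 3 := by
    have := orderOf_dvd_natCard Q hv
    rwa [D.card_Q] at this
  obtain ⟨k, hk, hk'⟩ := (Nat.dvd_prime_pow Nat.prime_two).1 hd
  interval_cases k
  · exact absurd (orderOf_eq_one_iff.1 (by simpa using hk')) hv1
  · exact absurd (D.unique v hv (by simpa using hk')) hvz
  · refine D.unique _ (mul_mem hv hv) ?_
    rw [← pow_two, orderOf_pow' v (by norm_num), hk']
    rfl
  · exfalso
    have htop : Q = zpowers v := (Subgroup.eq_of_le_of_card_ge (zpowers_le.2 hv)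
      (by rw [D.card_Q, Nat.card_zpowers, hk']; norm_num)).symm
    obtain ⟨q, hq, hqx⟩ := D.x_not_cent
    have hxv : x * v * x⁻¹ ∈ zpowers v := htop ▸ (mem_normalizer_iff.1 (D.d6.hxQ D.ctx.x_mem) v).1 hv
    obtain ⟨i, hi⟩ := (IsOfFinOrder.mem_zpowers_iff_mem_range_orderOf (isOfFinOrder_of_finite v)).1 hxv
      |> Finset.mem_image.1
    have hconj : ∀ n : ℕ, x * v ^ n * x⁻¹ = v ^ (i * n) := by
      intro n
      rw [← conj_pow, ← hi.2, ← pow_mul]
    have e : x ^ 3 * v * (x ^ 3)⁻¹ = v ^ (i * (i * i)) := by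
      calc x ^ 3 * v * (x ^ 3)⁻¹ = x * (x * (x * v ^ 1 * x⁻¹) * x⁻¹) * x⁻¹ := by
            simp only [pow_succ, pow_zero, one_mul]; group
        _ = v ^ (i * (i * i)) := by rw [hconj, hconj, mul_one, hconj]
    rw [D.ctx.x_cube, one_mul, inv_one, mul_one] at e
    have hmod : i * (i * i) % 8 = 1 := by
      have := pow_eq_pow_iff_modEq.1 (e.symm.trans (pow_one v).symm)
      rw [hk'] at this
      exact this
    have hi8 : i < 8 := by
      have := hi.1
      rw [hk', Finset.mem_range] at this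
      simpa using this
    have hi1 : i = 1 := by interval_cases i <;> omega
    apply hqx
    rw [htop] at hq
    obtain ⟨n, rfl⟩ := mem_zpowers_iff.1 hq
    refine Commute.zpow_left (mul_inv_eq_iff_eq_mul.1 ?_).symm n
    rw [← hi.2, hi1, pow_one]

/-- The elements of `⟨z⟩` among those of `Q` are the ones of square one. -/
theorem cases_of_sq {v : G} (hv : v ∈ Q) (h2 : v * v = 1) : v = 1 ∨ v = z := by
  by_contra hc
  push Not at hc
  exact D.ctx.z_ne ((D.sq_eq hv hc.1 hc.2).symm.trans h2)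

omit [Finite G] in
/-- Conjugation of `x` by `w`. -/
theorem conj_x_w : ∃ q ∈ Q, ∃ k ∈ K, w * x * w⁻¹ = q * k * x⁻¹ := D.d6.conj_x w D.w_mem D.w_out

/-- `w` moves some element modulo its cyclic subgroup. -/
theorem exists_moved : ∃ i ∈ Q, i ≠ 1 ∧ i ≠ z ∧ w * i * w ≠ i ∧ w * i * w ≠ i * z := by
  by_contra hc
  push Not at hc
  have hfix : ∀ v ∈ Q, cm w v ∈ zpowers z := by
    intro v hv
    by_cases h1 : v = 1
    · simp [h1, cm]
    by_cases hz' : v = z
    · rw [hz', cm_eq_one_iff.2 D.w_cen]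
      exact one_mem _
    by_cases h2 : w * v * w = v
    · rw [cm, D.w_inv, h2, mul_inv_cancel]
      exact one_mem _
    · rw [cm, D.w_inv, hc v hv h1 hz' h2, (mem_cen.1 (D.d6.data.Q_le hv)).eq, mul_inv_cancel_right]
      exact mem_zpowers z
  -- then `x²` fixes `Q` modulo `⟨z⟩`
  obtain ⟨q, hq, k, hk, hwx⟩ := D.conj_x_w
  obtain ⟨v, hv, hvx⟩ := D.x_not_cent
  have hz' : ∀ {g a : G}, g ∈ Cen z → a ∈ zpowers z → g * a * g⁻¹ = a := fun hg ha =>
    D.ctx.conj_zpowers hg ha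
  have hfixQ : ∀ r ∈ Q, cm q r ∈ zpowers z := by
    intro r hr
    have h2 : ∀ s ∈ Q, s * s ∈ zpowers z := by
      intro s hs
      by_cases h1 : s = 1
      · simp [h1]
      by_cases hz'' : s = z
      · rw [hz'', D.ctx.z_sq]; exact one_mem _
      · rw [D.sq_eq hs h1 hz'']; exact mem_zpowers z
    have hc2 : Commute (r * r) q := ((D.ctx.comm_of_mem (D.d6.data.Q_le hq) (h2 r hr))).symm
    have e : cm q r = (q * r) * (q * r) * (q⁻¹ * q⁻¹) * (r⁻¹ * r⁻¹) := by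
      have hc3 : r * (q⁻¹ * q⁻¹) = (q⁻¹ * q⁻¹) * r :=
        (D.ctx.comm_of_mem (D.d6.data.Q_le hr) (h2 _ (inv_mem hq))).eq
      calc cm q r = q * r * q * ((q⁻¹ * q⁻¹) * r) * (r⁻¹ * r⁻¹) := by simp only [cm]; group
        _ = _ := by rw [← hc3]; group
    rw [e]
    exact mul_mem (mul_mem (h2 _ (mul_mem hq hr)) (h2 _ (inv_mem hq))) (h2 _ (inv_mem hr))
  -- `w x w⁻¹` acts on `Q/⟨z⟩` as `x` and as `x⁻¹`
  have hwe : ∀ r ∈ Q, cm (w * x * w⁻¹) r * (cm x r)⁻¹ ∈ zpowers z := by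
    intro r hr
    set a := cm w⁻¹ r with ha
    have ha' : a ∈ zpowers z := by rw [ha, D.w_inv]; exact hfix r hr
    have hxr : x * r * x⁻¹ ∈ Q := (mem_normalizer_iff.1 (D.d6.hxQ D.ctx.x_mem) r).1 hr
    have e1 : w * x * w⁻¹ * r * (w * x * w⁻¹)⁻¹ = w * (x * (a * r) * x⁻¹) * w⁻¹ := by
      rw [ha]; simp only [cm]; group
    have e2 : x * (a * r) * x⁻¹ = a * (x * r * x⁻¹) := by
      calc x * (a * r) * x⁻¹ = (x * a * x⁻¹) * (x * r * x⁻¹) := by group
        _ = _ := by rw [hz' D.ctx.x_mem ha']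
    have e3 : w * (a * (x * r * x⁻¹)) * w⁻¹ = a * (cm w (x * r * x⁻¹) * (x * r * x⁻¹)) := by
      calc w * (a * (x * r * x⁻¹)) * w⁻¹ = (w * a * w⁻¹) * (w * (x * r * x⁻¹) * w⁻¹) := by group
        _ = _ := by rw [hz' (D.d6.S_le D.w_mem) ha']; simp only [cm]; group
    have e : cm (w * x * w⁻¹) r * (cm x r)⁻¹ = a * cm w (x * r * x⁻¹) := by
      calc cm (w * x * w⁻¹) r * (cm x r)⁻¹
            = (w * x * w⁻¹ * r * (w * x * w⁻¹)⁻¹) * (x * r * x⁻¹)⁻¹ := by simp only [cm]; group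
        _ = _ := by rw [e1, e2, e3]; group
    rw [e]
    exact mul_mem ha' (hfix _ hxr)
  have hv1 : v ≠ 1 := fun e => hvx (e ▸ Commute.one_left x)
  set r := x⁻¹ * v * x with hr
  have hrQ : r ∈ Q := by
    have := (mem_normalizer_iff.1 (inv_mem (D.d6.hxQ D.ctx.x_mem)) v).1 hv
    rwa [inv_inv] at this
  have hkr : Commute k r := D.d6.data.commute k hk r hrQ
  have e4 : w * x * w⁻¹ * v * (w * x * w⁻¹)⁻¹ = cm q r * r := by
    rw [hwx]
    calc q * k * x⁻¹ * v * (q * k * x⁻¹)⁻¹ = q * (k * r * k⁻¹) * q⁻¹ := by rw [hr]; group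
      _ = cm q r * r := by rw [mul_inv_eq_iff_eq_mul.2 hkr.eq]; simp only [cm]; group
  have h5 := hwe v hv
  have e5 : cm (w * x * w⁻¹) v * (cm x v)⁻¹ = cm q r * (r * (x * v * x⁻¹)⁻¹) := by
    calc cm (w * x * w⁻¹) v * (cm x v)⁻¹
          = (w * x * w⁻¹ * v * (w * x * w⁻¹)⁻¹) * (x * v * x⁻¹)⁻¹ := by simp only [cm]; group
      _ = _ := by rw [e4]; group
  rw [e5] at h5
  have h6 : r * (x * v * x⁻¹)⁻¹ ∈ zpowers z := (Subgroup.mul_mem_cancel_left _ (hfixQ r hrQ)).1 h5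
  -- so `x` fixes `v` modulo `⟨z⟩`
  set b := r * (x * v * x⁻¹)⁻¹ with hb
  have h7 : cm x v = b := by
    have e7 : r = b * (x * v * x⁻¹) := by rw [hb]; group
    have e8 : x * r * x⁻¹ = v := by rw [hr]; group
    rw [e7] at e8
    have e9 : b * (x * (x * v * x⁻¹) * x⁻¹) = v := by
      calc b * (x * (x * v * x⁻¹) * x⁻¹) = (x * b * x⁻¹) * (x * (x * v * x⁻¹) * x⁻¹) := by
            rw [hz' D.ctx.x_mem h6]
        _ = x * (b * (x * v * x⁻¹)) * x⁻¹ := by group
        _ = v := e8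
    have e10 : b * (x ^ 3 * v * (x ^ 3)⁻¹) = x * v * x⁻¹ := by
      calc b * (x ^ 3 * v * (x ^ 3)⁻¹) = (x * b * x⁻¹) * (x ^ 3 * v * (x ^ 3)⁻¹) := by
            rw [hz' D.ctx.x_mem h6]
        _ = x * (b * (x * (x * v * x⁻¹) * x⁻¹)) * x⁻¹ := by
            simp only [pow_succ, pow_zero, one_mul]; group
        _ = x * v * x⁻¹ := by rw [e9]
    rw [D.ctx.x_cube, one_mul, inv_one, mul_one] at e10
    rw [cm, ← e10, mul_inv_cancel_right]
  rcases D.ctx.mem_of_fixed_mod D.d6.data.two D.d6.data.Q_le hv (h7 ▸ h6) with e | e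
  · exact hv1 e
  · exact hvx (e ▸ D.ctx.comm)

/-- `C_S(Q) ≤ Q`. -/
theorem not_inner {q : G} (hq : q ∈ Q) : ∃ v ∈ Q, ¬ Commute (q * w) v := by
  obtain ⟨i, hi, hi1, hiz, h1, h2⟩ := D.exists_moved
  by_contra hc
  push Not at hc
  -- then `w i w` is a conjugate of `i` inside `Q`
  have e : w * i * w = q⁻¹ * i * q := by
    have := (hc i hi).eq
    calc w * i * w = q⁻¹ * (q * w * i) * w⁻¹ := by rw [D.w_inv]; group
      _ = q⁻¹ * (i * (q * w)) * w⁻¹ := by rw [this]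
      _ = q⁻¹ * i * q := by group
  have hsq : ∀ s ∈ Q, s * s ∈ zpowers z := by
    intro s hs
    by_cases e1 : s = 1
    · simp [e1]
    by_cases e2 : s = z
    · rw [e2, D.ctx.z_sq]; exact one_mem _
    · rw [D.sq_eq hs e1 e2]; exact mem_zpowers z
  have hb : cm q⁻¹ i ∈ zpowers z := by
    have hc3 : i * (q * q) = (q * q) * i := (D.ctx.comm_of_mem (D.d6.data.Q_le hi) (hsq q hq)).eq
    have e3 : cm q⁻¹ i = (q⁻¹ * i) * (q⁻¹ * i) * (q * q) * (i⁻¹ * i⁻¹) := by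
      calc cm q⁻¹ i = q⁻¹ * i * q⁻¹ * ((q * q) * i) * (i⁻¹ * i⁻¹) := by simp only [cm]; group
        _ = _ := by rw [← hc3]; group
    rw [e3]
    exact mul_mem (mul_mem (hsq _ (mul_mem (inv_mem hq) hi)) (hsq q hq)) (hsq _ (inv_mem hi))
  have e4 : w * i * w = cm q⁻¹ i * i := by rw [e]; simp only [cm]; group
  rcases D.ctx.cases_zpowers_z hb with e' | e' <;> rw [e'] at e4
  · exact h1 (by rw [e4, one_mul])
  · exact h2 (by rw [e4, (mem_cen.1 (D.d6.data.Q_le hi)).eq])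

/-- `S` is semidihedral. -/
theorem quasiDihedral : Cfsg.IsQuasiDihedral (S : Subgroup G) := by
  obtain ⟨i, hi, hi1, hiz, h1, h2⟩ := D.exists_moved
  set j := w * i * w with hj
  have hjQ : j ∈ Q := by
    have := (mem_normalizer_iff.1 (D.d6.S_norm D.w_mem) i).1 hi
    rwa [D.w_inv] at this
  have hii := D.sq_eq hi hi1 hiz
  have hjj : j * j = z := by
    calc j * j = w * (i * (w * w) * i) * w := by rw [hj]; group
      _ = z := by rw [D.w_sq, mul_one, hii, D.w_cen.eq, mul_assoc, D.w_sq, mul_one]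
  have hii' : i⁻¹ = z * i := by
    refine inv_eq_of_mul_eq_one_right ?_
    rw [← mul_assoc, ← (mem_cen.1 (D.d6.data.Q_le hi)).symm.eq, mul_assoc, hii, D.ctx.z_sq]
  have hij1 : i * j ≠ 1 := fun e => h2 (by
    show j = i * z
    rw [← inv_eq_of_mul_eq_one_right e, hii', (mem_cen.1 (D.d6.data.Q_le hi)).eq])
  have hijz : i * j ≠ z := fun e => h1 (mul_left_cancel (e.trans hii.symm))
  have hij := D.sq_eq (mul_mem hi hjQ) hij1 hijz
  have hji : i * j * i = j := by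
    calc i * j * i = (i * j * (i * j)) * j⁻¹ := by group
      _ = z * j⁻¹ := by rw [hij]
      _ = j := by rw [← hjj, mul_inv_cancel_right]
  set s := i * w with hs
  have hs2 : s * s = i * j := by rw [hs, hj]; group
  have hs4 : s * s * (s * s) = z := by rw [hs2, hij]
  have hs8 : orderOf s = 2 ^ (2 + 1) := by
    have : Fact (Nat.Prime 2) := ⟨Nat.prime_two⟩
    refine orderOf_eq_prime_pow ?_ ?_
    · rw [show 2 ^ 2 = 2 + 2 from rfl, pow_add, pow_two, hs4]; exact D.ctx.z_ne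
    · rw [show 2 ^ (2 + 1) = 2 + 2 + (2 + 2) from rfl, pow_add, pow_add, pow_two, hs4, D.ctx.z_sq]
  refine ⟨3, le_rfl, ?_, ⟨s, mul_mem (D.d6.Q_le_S hi) D.w_mem⟩, ⟨w, D.w_mem⟩, ?_, ?_, Subtype.ext ?_⟩
  · rw [D.d6.card_S, D.card_Q]; rfl
  · rw [Subgroup.orderOf_mk, hs8]
  · rw [Subgroup.orderOf_mk, D.w_ord]
  · show w * s * w⁻¹ = s ^ (2 ^ (3 - 1) - 1)
    have h3 : s ^ 3 = j * w := by
      rw [pow_succ, pow_two, hs2, hs, ← mul_assoc, hji]
    rw [show 2 ^ (3 - 1) - 1 = 3 from rfl, h3, hs, hj, D.w_inv]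
    simp only [mul_assoc]

/-- `Q` is a quaternion group. -/
theorem nonempty_quaternion : Nonempty (Q ≃* QuaternionGroup 2) := by
  have : Fact (Nat.Prime 2) := ⟨Nat.prime_two⟩
  rcases PGroups.isCyclic_or_quaternion (G := Q) D.d6.data.two (fun a b ha hb => by
    rw [← Subgroup.orderOf_coe] at ha hb
    rw [show b = a from Subtype.ext ((D.unique _ b.2 hb).trans (D.unique _ a.2 ha).symm)]
    exact mem_zpowers a) with hcyc | ⟨-, n, -, ⟨e⟩⟩
  · exfalso
    obtain ⟨g, hg⟩ := hcyc.exists_generator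
    have hg8 : orderOf g = 8 := by rw [orderOf_eq_card_of_forall_mem_zpowers hg, D.card_Q]
    rw [← Subgroup.orderOf_coe] at hg8
    have h1 : (g : G) ≠ 1 := fun e => by simp [e] at hg8
    have h2 : (g : G) ≠ z := fun e => by simp [e, D.ctx.hz] at hg8
    have h4 : (g : G) ^ 4 = 1 := by
      rw [show 4 = 2 + 2 from rfl, pow_add, pow_two, D.sq_eq g.2 h1 h2, D.ctx.z_sq]
    have := orderOf_dvd_of_pow_eq_one h4
    rw [hg8] at this
    norm_num at this
  · have hc := Nat.card_congr e.toEquiv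
    rw [D.card_Q, Nat.card_eq_fintype_card, QuaternionGroup.card] at hc
    rw [show 2 ^ n = 2 by omega] at e
    exact ⟨e⟩

omit [Finite G] in
/-- An element of `K` on whose conjugates `w` acts as a scalar is fixed by `x`. -/
theorem eq_one_of_scalar {y : G} (hy : y ∈ K) (hc : ∀ k ∈ K, Commute k y)
    (hw : (Commute w y ∧ Commute w (x * y * x⁻¹)) ∨
      (w * y * w⁻¹ = y⁻¹ ∧ w * (x * y * x⁻¹) * w⁻¹ = (x * y * x⁻¹)⁻¹)) : y = 1 := by
  obtain ⟨q, hq, k, hk, hwx⟩ := D.conj_x_w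
  set r := x⁻¹ * y * x with hr
  have hxN := D.d6.data.K_norm D.ctx.x_mem
  have hrK : r ∈ K := by
    have := (mem_normalizer_iff.1 (inv_mem hxN) y).1 hy
    rwa [inv_inv] at this
  have hkr : Commute k r := by
    have hk' : x * k * x⁻¹ ∈ K := (mem_normalizer_iff.1 hxN k).1 hk
    have := ((hc _ hk').map (MulAut.conj x⁻¹))
    simp only [MulAut.conj_apply, inv_inv] at this
    rwa [show x⁻¹ * (x * k * x⁻¹) * x = k by group, ← hr] at this
  have e1 : w * x * w⁻¹ * y * (w * x * w⁻¹)⁻¹ = r := by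
    rw [hwx]
    calc q * k * x⁻¹ * y * (q * k * x⁻¹)⁻¹ = q * (k * r * k⁻¹) * q⁻¹ := by rw [hr]; group
      _ = r := by
          rw [mul_inv_eq_iff_eq_mul.2 hkr.eq,
            mul_inv_eq_iff_eq_mul.2 (D.d6.data.commute r hrK q hq).symm.eq]
  have e2 : w * x * w⁻¹ * y * (w * x * w⁻¹)⁻¹ = x * y * x⁻¹ := by
    rcases hw with ⟨h1, h2⟩ | ⟨h1, h2⟩
    · calc w * x * w⁻¹ * y * (w * x * w⁻¹)⁻¹ = w * (x * (w⁻¹ * y * w) * x⁻¹) * w⁻¹ := by group
        _ = w * (x * y * x⁻¹) * w⁻¹ := by rw [mul_assoc w⁻¹, ← h1.eq, inv_mul_cancel_left]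
        _ = x * y * x⁻¹ := mul_inv_eq_iff_eq_mul.2 h2.eq
    · have h1' : w⁻¹ * y * w = y⁻¹ := by rw [D.w_inv]; rw [D.w_inv] at h1; exact h1
      calc w * x * w⁻¹ * y * (w * x * w⁻¹)⁻¹ = w * (x * (w⁻¹ * y * w) * x⁻¹) * w⁻¹ := by group
        _ = w * (x * y * x⁻¹)⁻¹ * w⁻¹ := by rw [h1']; group
        _ = (w * (x * y * x⁻¹) * w⁻¹)⁻¹ := by group
        _ = x * y * x⁻¹ := by rw [h2, inv_inv]
  have e3 : x ^ 2 * y * (x ^ 2)⁻¹ = y := by
    calc x ^ 2 * y * (x ^ 2)⁻¹ = x * (x * y * x⁻¹) * x⁻¹ := by rw [pow_two]; group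
      _ = x * r * x⁻¹ := by rw [← e2, e1]
      _ = y := by rw [hr]; group
  have hxy : Commute x y := by
    have := (show Commute (x ^ 2) y from mul_inv_eq_iff_eq_mul.1 e3).pow_left 2
    rwa [← pow_mul, show x ^ (2 * 2) = x by rw [show 2 * 2 = 3 + 1 from rfl, pow_succ, D.ctx.x_cube, one_mul]]
      at this
  have hm := D.ctx.cent y (mem_cen.1 (D.d6.data.K_le hy)) hxy.symm
  obtain ⟨n, hn⟩ := mem_zpowers_iff.1 hm
  have h6 : y ^ 6 = 1 := by
    rw [← hn, ← zpow_natCast ((z * x) ^ n), ← zpow_mul, mul_comm, zpow_mul, zpow_natCast,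
      D.ctx.comm.mul_pow, show 6 = 2 * 3 from rfl, pow_mul, pow_two, D.ctx.z_sq, one_pow, one_mul,
      mul_comm 2 3, pow_mul, D.ctx.x_cube, one_pow, one_zpow]
  refine orderOf_eq_one_iff.1 (Nat.eq_one_of_dvd_coprimes (?_ : Nat.Coprime 6 (Nat.card K))
    (orderOf_dvd_of_pow_eq_one h6) (orderOf_dvd_natCard K hy))
  exact Nat.Coprime.mul_left (Nat.prime_two.coprime_iff_not_dvd.2 D.d6.data.odd)
    (Nat.prime_three.coprime_iff_not_dvd.2 D.d6.data.three)

omit [Finite G] in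
/-- A non-trivial core has a central element other than one fixed by `w`. -/
theorem exists_central_fixed (hK : K ≠ ⊥) :
    ∃ y ∈ K, y ≠ 1 ∧ (∀ k ∈ K, Commute k y) ∧ Commute w y := by
  have : Group.IsNilpotent K := D.d6.data.nilp
  have : Nontrivial K := (Subgroup.nontrivial_iff_ne_bot K).2 hK
  obtain ⟨⟨y0, hy0⟩, hy0c, hy01⟩ :=
    (center K).bot_or_exists_ne_one.resolve_left (Group.IsNilpotent.center_ne_bot K)
  have hy01' : y0 ≠ 1 := fun e => hy01 (Subtype.ext e)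
  have hcent : ∀ k ∈ K, Commute k y0 := fun k hk =>
    congrArg Subtype.val (mem_center_iff.1 hy0c ⟨k, hk⟩)
  by_contra hne
  push Not at hne
  have hconj : ∀ {g a : G}, g ∈ Cen z → a ∈ K → g * a * g⁻¹ ∈ K := fun hg ha =>
    (mem_normalizer_iff.1 (D.d6.data.K_norm hg) _).1 ha
  have hcc : ∀ {g a : G}, g ∈ Cen z → (∀ k ∈ K, Commute k a) → ∀ k ∈ K, Commute k (g * a * g⁻¹) := by
    intro g a hg ha k hk
    have := (ha _ (hconj (inv_mem hg) hk)).map (MulAut.conj g)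
    simp only [MulAut.conj_apply] at this
    rwa [show g * (g⁻¹ * k * g⁻¹⁻¹) * g⁻¹ = k by group] at this
  have hwz : w ∈ Cen z := D.d6.S_le D.w_mem
  -- every central element is inverted
  have hinv : ∀ a ∈ K, (∀ k ∈ K, Commute k a) → w * a * w⁻¹ = a⁻¹ := by
    intro a ha hac
    set b := w * a * w⁻¹ with hb
    have hbK : b ∈ K := hconj hwz ha
    have hab : Commute a b := hcc hwz hac a ha
    by_contra hne'
    refine hne (a * b) (mul_mem ha hbK) (fun e => hne' (eq_inv_of_mul_eq_one_right e))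
      (fun k hk => (hac k hk).mul_right (hcc hwz hac k hk)) (mul_inv_eq_iff_eq_mul.1 ?_)
    have e2 : w * b * w⁻¹ = a := by
      calc w * b * w⁻¹ = (w * w) * a * (w * w)⁻¹ := by rw [hb]; group
        _ = a := by rw [D.w_sq]; group
    calc w * (a * b) * w⁻¹ = b * (w * b * w⁻¹) := by rw [hb]; group
      _ = a * b := by rw [e2, hab.eq]
  exact hy01' (D.eq_one_of_scalar hy0 hcent (Or.inr ⟨hinv y0 hy0 hcent,
    hinv _ (hconj D.ctx.x_mem hy0) (hcc D.ctx.x_mem hcent)⟩))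

omit [Finite G] in
/-- `w` centralises only a trivial core. -/
theorem eq_bot_of_commute (hw : ∀ k ∈ K, Commute w k) : K = ⊥ := by
  by_contra hK
  obtain ⟨y, hy, hy1, hc, -⟩ := D.exists_central_fixed hK
  exact hy1 (D.eq_one_of_scalar hy hc
    (Or.inl ⟨hw y hy, hw _ ((mem_normalizer_iff.1 (D.d6.data.K_norm D.ctx.x_mem) y).1 hy)⟩))

end Quat

end Cfsg.Agent.Lib.SelfCentSix9
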