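import Cfsg.Agent.Lib.SelfCentSix9.Index3

/-!
# Index six: the Sylow 2-subgroup and the core

`S = Q ⟨w⟩` and every element of `S ∖ Q` inverts `x` modulo `Q K`.  With a good involution in `Q` one of
them is central modulo `⟨z⟩` in `S`, every involution of `S` commutes with a good one, and `K = 1`.
-/

set_option autoImplicit false

namespace Cfsg.Agent.Lib.SelfCentSix9

open Subgroup
open Cfsg.Agent.Lib.Spectrum.SelfThree

universe u

variable {G : Type u} [Group G]

/-- The product of two subgroups centralising each other. -/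
def prodSub (Q K : Subgroup G) (hc : ∀ k ∈ K, ∀ q ∈ Q, Commute k q) : Subgroup G where
  carrier := {y | ∃ q ∈ Q, ∃ k ∈ K, y = q * k}
  one_mem' := ⟨1, one_mem _, 1, one_mem _, (one_mul 1).symm⟩
  mul_mem' := by
    rintro a b ⟨q, hq, k, hk, rfl⟩ ⟨q', hq', k', hk', rfl⟩
    refine ⟨q * q', mul_mem hq hq', k * k', mul_mem hk hk', ?_⟩
    calc q * k * (q' * k') = q * (k * q') * k' := by group
      _ = q * q' * (k * k') := by rw [(hc k hk q' hq').eq]; group
  inv_mem' := by
    rintro a ⟨q, hq, k, hk, rfl⟩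
    exact ⟨q⁻¹, inv_mem hq, k⁻¹, inv_mem hk, by
      rw [mul_inv_rev, ((hc k hk q hq).inv_inv).eq]⟩

/-- Index six with a Sylow 2-subgroup `S` above `Q`. -/
structure D6 (z x : G) (Q K : Subgroup G) (S : Sylow 2 G) : Prop where
  data : DataA z Q K 6
  Q_le_S : Q ≤ (S : Subgroup G)
  S_le : (S : Subgroup G) ≤ Cen z
  card_S : Nat.card (S : Subgroup G) = 2 * Nat.card Q
  conj_x : ∀ v ∈ (S : Subgroup G), v ∉ Q → ∃ q ∈ Q, ∃ k ∈ K, v * x * v⁻¹ = q * k * x⁻¹

variable [Finite G] {z x : G}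

/-- The subgroup `Q K` has order prime to three. -/
theorem DataA.three_prodSub {Q K : Subgroup G} {e : ℕ} (D : DataA z Q K e) :
    ¬ 3 ∣ Nat.card (prodSub Q K D.commute) := by
  intro h3
  have : Fact (Nat.Prime 3) := ⟨Nat.prime_three⟩
  obtain ⟨⟨c, q, hq, k, hk, rfl⟩, hc⟩ := exists_prime_orderOf_dvd_card' 3 h3
  rw [← Subgroup.orderOf_coe] at hc
  obtain ⟨n, hn⟩ := D.two ⟨q, hq⟩
  have hqn : q ^ 2 ^ n = 1 := congrArg Subtype.val hn
  have e1 : (q * k) ^ 2 ^ n = k ^ 2 ^ n := by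
    rw [(D.commute k hk q hq).symm.mul_pow, hqn, one_mul]
  have hcop : Nat.Coprime (orderOf (q * k)) (2 ^ n) := by
    rw [hc]
    exact Nat.Coprime.pow_right n (by norm_num)
  have h1 : orderOf ((q * k) ^ 2 ^ n) = 3 := by rw [hcop.orderOf_pow, hc]
  have h2 : orderOf ((q * k) ^ 2 ^ n) ∣ Nat.card K :=
    orderOf_dvd_natCard K (e1 ▸ pow_mem hk (2 ^ n))
  rw [h1] at h2
  exact D.three h2

/-- Existence of the index-six setting. -/
theorem Ctx.exists_D6 (h : Ctx G z x) {Q K : Subgroup G} (D : DataA z Q K 6) :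
    ∃ S : Sylow 2 G, D6 z x Q K S := by
  classical
  have : Fact (Nat.Prime 2) := ⟨Nat.prime_two⟩
  have hQp : IsPGroup 2 (Q.subgroupOf (Cen z)) := D.two.of_equiv (subgroupOfEquivOfLe D.Q_le).symm
  obtain ⟨T, hT⟩ := hQp.exists_le_sylow
  set P := (T : Subgroup (Cen z)).map (Cen z).subtype with hP
  have hPle : P ≤ Cen z := map_subtype_le _
  have hPidx : ¬ 2 ∣ P.relIndex (Cen z) := by
    rw [Subgroup.relIndex, hP, ← comap_subtype, comap_map_eq_self_of_injective (Cen z).subtype_injective]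
    exact T.not_dvd_index
  obtain ⟨S, hS⟩ := h.exists_sylow_eq (T.isPGroup'.map _) hPle hPidx
  have hQS : Q ≤ (S : Subgroup G) := by
    rw [hS]
    exact fun q hq => ⟨⟨q, D.Q_le hq⟩, hT (mem_subgroupOf.2 hq), rfl⟩
  have hSle : (S : Subgroup G) ≤ Cen z := hS ▸ hPle
  have hcard : Nat.card (S : Subgroup G) = 2 * Nat.card Q := by
    obtain ⟨j, hj⟩ := D.two.exists_card_eq
    have e : Nat.card (S : Subgroup G) = 2 ^ ((Nat.card (Cen z)).factorization 2) := by
      rw [hS, card_map_of_injective (Cen z).subtype_injective, T.card_eq_multiplicity]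
    have hK0 : Nat.card K ≠ 0 := Nat.card_pos.ne'
    rw [e, D.card, hj, show 6 * 2 ^ j * Nat.card K = 2 ^ (j + 1) * (3 * Nat.card K) by ring,
      Nat.factorization_mul (by positivity) (by omega),
      Nat.factorization_pow, Finsupp.add_apply, Finsupp.smul_apply, Nat.prime_two.factorization_self,
      Nat.factorization_eq_zero_of_not_dvd]
    · simp [pow_succ, mul_comm]
    · intro h2
      rcases Nat.prime_two.dvd_mul.1 h2 with e' | e'
      · norm_num at e'
      · exact D.odd e'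
  refine ⟨S, D, hQS, hSle, hcard, fun v hv hvQ => ?_⟩
  -- the quotient of `C(z)/⟨z⟩` by the image of `Q K`
  set N := prodSub Q K D.commute with hN
  set Nb := (N.subgroupOf (Cen z)).map (QuotientGroup.mk' (zSub z)) with hNb
  have hNle : N ≤ Cen z := by
    rintro _ ⟨q, hq, k, hk, rfl⟩
    exact mul_mem (D.Q_le hq) (D.K_le hk)
  have hNn : Cen z ≤ normalizer (N : Set G) := by
    have key : ∀ g ∈ Cen z, ∀ y ∈ N, g * y * g⁻¹ ∈ N := by
      rintro g hg _ ⟨q, hq, k, hk, rfl⟩
      exact ⟨g * q * g⁻¹, (mem_normalizer_iff.1 (D.Q_norm hg) q).1 hq, g * k * g⁻¹,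
        (mem_normalizer_iff.1 (D.K_norm hg) k).1 hk, by group⟩
    intro g hg
    refine mem_normalizer_iff.2 fun y => ⟨key g hg y, fun hy => ?_⟩
    have := key g⁻¹ (inv_mem hg) _ hy
    rwa [show g⁻¹ * (g * y * g⁻¹) * g⁻¹⁻¹ = y by group] at this
  have hNn' : (N.subgroupOf (Cen z)).Normal := normal_subgroupOf_of_le_normalizer hNn
  have hNbn : Nb.Normal := hNn'.map _ (QuotientGroup.mk'_surjective _)
  have hNb3 : ¬ 3 ∣ Nat.card Nb := fun h3 => D.three_prodSub
    ((h3.trans (card_map_dvd _ _)).trans (dvd_of_eq (Nat.card_congr (subgroupOfEquivOfLe hNle).toEquiv)))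
  have hq := h.sc.quotient (K := Nb) hNb3
  let φ : Cen z →* (Cen z ⧸ zSub z) ⧸ Nb :=
    (QuotientGroup.mk' Nb).comp (QuotientGroup.mk' (zSub z))
  have hφker : ∀ y : Cen z, φ y = 1 ↔ (y : G) ∈ N := by
    intro y
    constructor
    · intro hy
      obtain ⟨n, hn, he⟩ := (QuotientGroup.eq_one_iff (N := Nb) _).1 hy
      have hm : n⁻¹ * y ∈ zSub z := QuotientGroup.eq.1 he
      have e : (y : G) = (n : G) * ((n⁻¹ * y : Cen z) : G) := by simp
      rw [e]
      refine mul_mem (mem_subgroupOf.1 hn) ?_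
      rcases h.mem_zSub.1 hm with e' | e' <;> rw [e']
      · exact one_mem _
      · exact ⟨z, D.z_mem, 1, one_mem _, (mul_one z).symm⟩
    · intro hy
      exact (QuotientGroup.eq_one_iff (N := Nb) _).2 ⟨y, mem_subgroupOf.2 hy, rfl⟩
  set xq := φ ⟨x, h.x_mem⟩ with hxq
  set vq := φ ⟨v, hSle hv⟩ with hvq
  have hvN : v ∉ N := by
    rintro ⟨q, hq', k, hk, e⟩
    have hkS : k ∈ (S : Subgroup G) := by
      rw [show k = q⁻¹ * v by rw [e, inv_mul_cancel_left]]
      exact mul_mem (inv_mem (hQS hq')) hv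
    have hk1 : k = 1 := by
      obtain ⟨n, hn⟩ := S.isPGroup' ⟨k, hkS⟩
      have h1 : orderOf k ∣ 2 ^ n := orderOf_dvd_of_pow_eq_one (congrArg Subtype.val hn)
      exact orderOf_eq_one_iff.1 (Nat.eq_one_of_dvd_coprimes
        (Nat.Coprime.pow_left _ (Nat.prime_two.coprime_iff_not_dvd.2 D.odd)) h1
        (orderOf_dvd_natCard K hk))
    rw [hk1, mul_one] at e
    exact hvQ (e ▸ hq')
  have hv2 : vq ^ 2 = 1 := by
    rw [hvq, ← map_pow, hφker]
    have hidx : (Q.subgroupOf (S : Subgroup G)).index = 2 := by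
      have := (Q.subgroupOf (S : Subgroup G)).card_mul_index
      rw [Nat.card_congr (subgroupOfEquivOfLe hQS).toEquiv, hcard] at this
      have hpos : 0 < Nat.card Q := Nat.card_pos
      nlinarith
    have hm : (⟨v, hv⟩ : (S : Subgroup G)) ^ 2 ∈ Q.subgroupOf (S : Subgroup G) :=
      Subgroup.sq_mem_of_index_two hidx _
    exact ⟨v ^ 2, hm, 1, one_mem _, (mul_one _).symm⟩
  have hv1 : vq ≠ 1 := fun e => hvN ((hφker _).1 e)
  -- a group of order six in which `xq` is self-centralising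
  have h6 : Nat.card ((Cen z ⧸ zSub z) ⧸ Nb) = 6 := by
    have hker : φ.ker = N.subgroupOf (Cen z) := by
      ext y
      rw [MonoidHom.mem_ker, hφker, mem_subgroupOf]
    have hsurj : Function.Surjective φ :=
      (QuotientGroup.mk'_surjective Nb).comp (QuotientGroup.mk'_surjective (zSub z))
    have e := card_eq_card_quotient_mul_card_subgroup (N.subgroupOf (Cen z))
    rw [D.card, Nat.card_congr (subgroupOfEquivOfLe hNle).toEquiv] at e
    have hNc : Nat.card N = Nat.card Q * Nat.card K := by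
      rw [← Nat.card_prod]
      refine (Nat.card_congr (Equiv.ofBijective
        (fun p : Q × K => (⟨(p.1 : G) * p.2, p.1, p.1.2, p.2, p.2.2, rfl⟩ : N)) ⟨?_, ?_⟩)).symm
      · intro p r e'
        have e'' : (p.1 : G) * p.2 = r.1 * r.2 := congrArg Subtype.val e'
        have hdisj : Disjoint Q K := disjoint_of_coprime_natCard (by
          obtain ⟨j, hj⟩ := D.two.exists_card_eq
          rw [hj]
          exact Nat.Coprime.pow_left _ (Nat.prime_two.coprime_iff_not_dvd.2 D.odd))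
        exact Subgroup.mul_injective_of_disjoint hdisj e''
      · rintro ⟨_, q, hq', k, hk, rfl⟩
        exact ⟨(⟨q, hq'⟩, ⟨k, hk⟩), rfl⟩
    rw [hNc, mul_assoc] at e
    have hpos : 0 < Nat.card Q * Nat.card K := Nat.mul_pos Nat.card_pos Nat.card_pos
    have e6 := Nat.eq_of_mul_eq_mul_right hpos e
    rw [e6, ← hker]
    exact (Nat.card_congr (QuotientGroup.quotientKerEquivOfSurjective φ hsurj).toEquiv).symm
  have hinv : vq * xq * vq⁻¹ = xq⁻¹ := by
    have hidx : (zpowers xq).index = 2 := by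
      have := (zpowers xq).card_mul_index
      rw [Nat.card_zpowers, h6] at this
      rw [show orderOf xq = 3 from hq.ord] at this
      omega
    have hn := normal_of_index_eq_two hidx
    rcases hq.cases_mem (hn.conj_mem xq (mem_zpowers xq) vq) with e | e | e
    · exact absurd (conj_eq_one_iff.1 e) hq.ne_one
    · exfalso
      rcases hq.cases_mem (hq.cent vq (mul_inv_eq_iff_eq_mul.1 e)) with e' | e' | e'
      · exact hv1 e'
      · rw [e'] at hv2
        exact hq.ne_one (by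
          have h3 := hq.pow_three
          rwa [pow_succ, hv2, one_mul] at h3)
      · rw [e', inv_pow, inv_eq_one] at hv2
        exact hq.ne_one (by
          have h3 := hq.pow_three
          rwa [pow_succ, hv2, one_mul] at h3)
    · exact e
  have hm : ((⟨v, hSle hv⟩ * ⟨x, h.x_mem⟩ * ⟨v, hSle hv⟩⁻¹ * ⟨x, h.x_mem⟩ : Cen z) : G) ∈ N := by
    rw [← hφker, map_mul, map_mul, map_mul, map_inv, ← hvq, ← hxq, hinv, inv_mul_cancel]
  obtain ⟨q, hq', k, hk, e⟩ := hm
  refine ⟨q, hq', k, hk, ?_⟩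
  have e' : v * x * v⁻¹ * x = q * k := by simpa using e
  rw [← e', mul_inv_cancel_right]

namespace D6

variable {Q K : Subgroup G} {S : Sylow 2 G}

omit [Finite G] in
theorem hxQ (D : D6 z x Q K S) (hx : x ∈ Cen z) : x ∈ normalizer (Q : Set G) := D.data.Q_norm hx

theorem relIndex (D : D6 z x Q K S) : Q.relIndex (S : Subgroup G) = 2 := by
  have := card_relIndex D.Q_le_S
  rw [D.card_S] at this
  exact Nat.eq_of_mul_eq_mul_left Nat.card_pos (by rw [this, mul_comm])

theorem exists_out (D : D6 z x Q K S) : ∃ w ∈ (S : Subgroup G), w ∉ Q := by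
  by_contra hc
  push Not at hc
  have := card_le_of_le hc
  rw [D.card_S] at this
  have := Nat.card_pos (α := Q)
  omega

theorem mul_mem_Q (D : D6 z x Q K S) {a b : G} (ha : a ∈ (S : Subgroup G)) (hb : b ∈ (S : Subgroup G))
    (haQ : a ∉ Q) (hbQ : b ∉ Q) : a * b ∈ Q := by
  have := (Subgroup.mul_mem_iff_of_index_two (show (Q.subgroupOf (S : Subgroup G)).index = 2 from D.relIndex)
    (a := (⟨a, ha⟩ : (S : Subgroup G))) (b := ⟨b, hb⟩)).2
      (iff_of_false (by simpa [mem_subgroupOf] using haQ) (by simpa [mem_subgroupOf] using hbQ))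
  simpa [mem_subgroupOf] using this

omit [Finite G] in
theorem S_norm (D : D6 z x Q K S) : (S : Subgroup G) ≤ normalizer (Q : Set G) :=
  D.S_le.trans D.data.Q_norm

/-- A good involution of `Q` fixed modulo `⟨z⟩` by `S`. -/
theorem exists_good_S (D : D6 z x Q K S) (h : Ctx G z x) (hne : ∃ u, Good z Q u) :
    ∃ u, Good z Q u ∧ Good z (S : Subgroup G) u := by
  obtain ⟨w, hw, hwQ⟩ := D.exists_out
  obtain ⟨u, g, hwu⟩ := h.exists_good_fixed D.data.two D.data.Q_le (D.hxQ h.x_mem) hne (D.S_le hw)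
    (D.S_norm hw) (D.mul_mem_Q hw hw hwQ hwQ)
  refine ⟨u, g, D.Q_le_S g.mem, g.ord, g.ne, fun s hs => ?_⟩
  by_cases hsQ : s ∈ Q
  · exact g.cent s hsQ
  · have hsw : s * w ∈ Q := D.mul_mem_Q hs hw hsQ hwQ
    have hwi : cm w⁻¹ u ∈ zpowers z := by
      have e : cm w⁻¹ u = w⁻¹ * (cm w u)⁻¹ * w⁻¹⁻¹ := by simp only [cm]; group
      rw [e, h.conj_zpowers (inv_mem (D.S_le hw)) (inv_mem hwu)]
      exact inv_mem hwu
    rw [show s = s * w * w⁻¹ by group,
      h.cm_mul_left D.S_le (D.Q_le_S hsw) (D.Q_le_S g.mem) hwi]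
    exact mul_mem (g.cent _ hsw) hwi

/-- Every involution of `S` commutes with a good involution of `Q`. -/
theorem exists_good_commute (D : D6 z x Q K S) (h : Ctx G z x) (hne : ∃ u, Good z Q u) {v : G}
    (hv : v ∈ (S : Subgroup G)) (hvo : orderOf v = 2) : ∃ e, Good z Q e ∧ Commute v e := by
  obtain ⟨u, g, gS⟩ := D.exists_good_S h hne
  have hxQ := D.hxQ h.x_mem
  by_cases hvQ : v ∈ Q
  · exact h.exists_good_commute D.data.two D.data.Q_le hxQ g hvQ
  refine ⟨u, g, ?_⟩
  -- `u`, `u1 = x u x⁻¹`, `u2 = x u1 x⁻¹` commute and their product is in `⟨z⟩`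
  set u1 := x * u * x⁻¹ with hu1
  set u2 := x * u1 * x⁻¹ with hu2
  have g1 : Good z Q u1 := h.good_conj_x hxQ g
  have g2 : Good z Q u2 := h.good_conj_x hxQ g1
  have h20 : x * u2 * x⁻¹ = u := by
    calc x * u2 * x⁻¹ = x ^ 3 * u * (x ^ 3)⁻¹ := by
          rw [hu2, hu1]; simp only [pow_succ, pow_zero, one_mul]; group
      _ = u := by rw [h.x_cube]; group
  have c01 : Commute u u1 := h.good_commute D.data.two D.data.Q_le hxQ g
  have c12 : Commute u1 u2 := h.good_commute D.data.two D.data.Q_le hxQ g1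
  have c20 : Commute u2 u := by
    have := h.good_commute D.data.two D.data.Q_le hxQ g2
    rwa [h20] at this
  set p := u * u1 * u2 with hp
  have hpz : p ∈ zpowers z := by
    have hfix : x * p * x⁻¹ = p := by
      calc x * p * x⁻¹ = (x * u * x⁻¹) * (x * u1 * x⁻¹) * (x * u2 * x⁻¹) := by rw [hp]; group
        _ = u1 * u2 * u := by rw [h20, ← hu1, ← hu2]
        _ = p := by rw [(c01.symm.mul_left c20).eq, hp, mul_assoc u u1 u2]
    rcases h.eq_of_commute_x D.data.two D.data.Q_le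
      (show p ∈ Q from mul_mem (mul_mem g.mem g1.mem) g2.mem)
      (mul_inv_eq_iff_eq_mul.1 hfix).symm with e | e <;> rw [e]
    · exact one_mem _
    · exact mem_zpowers z
  -- `v u1 v⁻¹ = w u2` with `w ∈ ⟨z⟩`
  obtain ⟨q, hq, k, hk, hvx⟩ := D.conj_x v hv hvQ
  have hc := gS.cent v hv
  have hck : Commute k u2 := D.data.commute k hk u2 g2.mem
  have hq2 := g2.cent q hq
  have hinvx : x⁻¹ * u * x = u2 := by
    rw [← h20]; group
  have evu : v * u1 * v⁻¹ = cm v u * (cm q u2 * u2) := by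
    have e1 : v * u1 * v⁻¹ = (v * x * v⁻¹) * (cm v u * u) * (v * x * v⁻¹)⁻¹ := by
      rw [hu1]; simp only [cm]; group
    have hcz : ∀ g' ∈ Cen z, g' * cm v u * g'⁻¹ = cm v u := fun g' hg' => h.conj_zpowers hg' hc
    have e2 : (v * x * v⁻¹) * (cm v u * u) * (v * x * v⁻¹)⁻¹ =
        ((v * x * v⁻¹) * cm v u * (v * x * v⁻¹)⁻¹) * ((v * x * v⁻¹) * u * (v * x * v⁻¹)⁻¹) := by group
    rw [e1, e2, hcz _ (mul_mem (mul_mem (D.S_le hv) h.x_mem) (inv_mem (D.S_le hv))), hvx]
    congr 1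
    calc q * k * x⁻¹ * u * (q * k * x⁻¹)⁻¹ = q * (k * (x⁻¹ * u * x) * k⁻¹) * q⁻¹ := by group
      _ = cm q u2 * u2 := by
          rw [hinvx, mul_inv_eq_iff_eq_mul.2 hck.eq]; simp only [cm]; group
  have hvv : v * v = 1 := by rw [← pow_two, ← hvo, pow_orderOf_eq_one]
  set w' := cm v u * cm q u2 with hw'
  have hw'z : w' ∈ zpowers z := mul_mem hc hq2
  have evu' : v * u1 * v⁻¹ = w' * u2 := by rw [evu, hw', ← mul_assoc (cm v u)]
  -- so `u1 (v u1 v⁻¹)` is fixed by `v` and is `u` modulo `⟨z⟩`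
  have hcomm : Commute (v * u1 * v⁻¹) u1 := by
    rw [evu']
    exact ((h.comm_of_mem (D.data.Q_le g1.mem) hw'z).symm).mul_left c12.symm
  set e := u1 * (v * u1 * v⁻¹) with he
  have hfix : v * e * v⁻¹ = e := by
    have e3 : v * e * v⁻¹ = (v * u1 * v⁻¹) * ((v * v) * u1 * (v * v)⁻¹) := by rw [he]; group
    rw [e3, hvv, one_mul, inv_one, mul_one, hcomm.eq]
  have hee : e = w' * (p * u) := by
    rw [he, evu', hp, ← mul_assoc u1 w', (h.comm_of_mem (D.data.Q_le g1.mem) hw'z).eq, mul_assoc]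
    congr 1
    rw [show u * u1 * u2 * u = u * (u1 * u2) * u by group, (c01.mul_right c20.symm).eq,
      mul_assoc (u1 * u2), g.sq, mul_one]
  have : Commute v (w' * (p * u)) := hee ▸ mul_inv_eq_iff_eq_mul.1 hfix
  have h1 : Commute v (w' * p) := h.comm_of_mem (D.S_le hv) (mul_mem hw'z hpz)
  have h2 : Commute v ((w' * p)⁻¹ * (w' * (p * u))) := h1.inv_right.mul_right this
  rwa [show (w' * p)⁻¹ * (w' * (p * u)) = u by group] at h2

/-- With a good involution the core of `C(z)` is trivial. -/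
theorem K_eq_bot (D : D6 z x Q K S) (h : Ctx G z x) (hne : ∃ u, Good z Q u) : K = ⊥ := by
  have := h.core_eq_bot D.data.solvable S D.S_le D.Q_le_S D.data.Q_norm
    fun v hv hvo => D.exists_good_commute h hne hv hvo
  rw [eq_bot_iff, ← this]
  exact le_cr D.data.odd D.data.K_le D.data.K_norm

end D6

end Cfsg.Agent.Lib.SelfCentSix9
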